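import Cfsg.Agent.Lib.Blocks.PrimeSylow.Block
import Cfsg.Agent.Lib.Blocks.SecondMain
import Cfsg.Prelude.Def_BlockRank

/-!
# A lower bound for the rank of a block

Independent functions over the residue field, fixed by the block idempotent and constant on
`p`-sections, bound the `p`-regular rank of the block from below.
-/

set_option autoImplicit false

open scoped ComplexConjugate

namespace CfsgLib.Blocks.PrimeSylow

open Cfsg CfsgLib.Char

variable {G : Type*} [Group G] [Fintype G] {p : ℕ} [Fact p.Prime] {M : Ideal AlgInt} [M.IsPrime]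

/-- The residue field at `M` is algebraically closed. -/
theorem isAlgClosed_res : IsAlgClosed (Res M) := by
  classical
  refine IsAlgClosed.of_exists_root _ fun q hq hirr => ?_
  obtain ⟨Q, hQ, hQdeg, hQmon⟩ :=
    Polynomial.lifts_and_degree_eq_and_monic
      (Polynomial.map_surjective (resHom M) IsLocalRing.residue_surjective q) hq
  obtain ⟨z, hz⟩ : ∃ z : ℂ, (Q.map (localRing M).subtype).eval z = 0 := by
    refine IsAlgClosed.exists_root _ ?_
    rw [Polynomial.degree_map_eq_of_injective Subtype.val_injective, hQdeg]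
    exact hirr.degree_pos.ne'
  have hzm : z ∈ localRing M := mem_localRing_of_isIntegral_localRing ⟨Q, hQmon, by
    rw [← Polynomial.eval_map]; exact hz⟩
  refine ⟨resHom M ⟨z, hzm⟩, ?_⟩
  rw [← hQ, Polynomial.eval_map, Polynomial.eval₂_hom,
    show Q.eval (⟨z, hzm⟩ : localRing M) = 0 from Subtype.ext (by
      have h1 := Polynomial.eval₂_hom (localRing M).subtype (p := Q) ⟨z, hzm⟩
      rw [← Polynomial.eval_map] at h1
      exact h1.symm.trans hz), map_zero]

/-- Functions on the residue field bound the rank from below. -/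
theorem le_blockRank_of_functions (hM : IsPModular p M) {B : Set (IrrCharacter G)}
    (hB : IsPBlock M B) {ι : Type*} [Fintype ι] (τ : ι → G → Res M)
    (hli : LinearIndependent (Res M) τ) (hcl : ∀ i g h, τ i (h * g * h⁻¹) = τ i g)
    (hfix : ∀ i g, ∑ h, (blockIdemBar M B).coeff h * τ i (h * g) = τ i g)
    (hsec : ∀ i x y, Commute x y → (∃ j : ℕ, x ^ p ^ j = 1) → τ i (x * y) = τ i y) :
    Fintype.card ι ≤ blockRank p B := by
  classical
  have := Fintype.ofFinite (IrrCharacter G)
  -- lifts
  set T : ι → G → ℂ := fun i g =>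
    ((Function.surjInv IsLocalRing.residue_surjective (τ i g) : localRing M) : ℂ)
  have hTm : ∀ i g, T i g ∈ localRing M := fun i g => SetLike.coe_mem _
  have hTr : ∀ i g, rv M (T i g) = τ i g := fun i g => by
    simp only [T]
    rw [rv_coe]
    exact Function.surjInv_eq IsLocalRing.residue_surjective _
  have hTc : ∀ i, IsClassFunction G (T i) := fun i g h => by simp only [T, hcl]
  set F : ι → G → ℂ := fun i g => ∑ h, blockCoeff B h * T i (h * g)
  have hFm : ∀ i g, F i g ∈ localRing M := fun i g =>
    sum_mem fun h _ => mul_mem (blockCoeff_mem hB h) (hTm i _)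
  have hFr : ∀ i g, rv M (F i g) = τ i g := fun i g => by
    rw [← hfix i g, rv_sum _ _ fun h _ => mul_mem (blockCoeff_mem hB h) (hTm i _)]
    refine Finset.sum_congr rfl fun h _ => ?_
    rw [rv_mul (blockCoeff_mem hB h) (hTm i _), hTr, blockIdemBar, coeff_red, blockIdemO,
      coeff_ofFun, dif_pos (blockCoeff_mem hB h), ← rv_coe]
  have hFB : ∀ i g, F i g = ∑ χ ∈ Finset.univ.filter (· ∈ B),
      classInner (T i) (χ : G → ℂ) * (χ : G → ℂ) g := by
    intro i g
    have h1 : ∀ χ : IrrCharacter G, ∑ h, blockCoeff B h * (χ : G → ℂ) (h * g) =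
        if χ ∈ B then (χ : G → ℂ) g else 0 := by
      intro χ
      have := sum_apply_mul_eq_omega χ (blockIdem B) g
      simp only [coeff_blockIdem] at this
      rw [this, omega_mul χ (isCentralElt_blockIdem B), omega_blockIdem]
      have hs : omega (χ : G → ℂ) (MonoidAlgebra.single g 1) = (χ : G → ℂ) g / (χ : G → ℂ) 1 := by
        simp [omega_apply, MonoidAlgebra.coeff_single, Finsupp.single_apply]
      rw [hs]
      split_ifs
      · rw [one_mul, mul_div_cancel₀ _ (IsIrr.apply_one_ne_zero χ.2)]
      · simp
    simp only [F]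
    simp only [fun h => classFunction_apply_eq_sum (hTc i) (h * g), Finset.mul_sum]
    rw [Finset.sum_comm, Finset.sum_filter]
    refine Finset.sum_congr rfl fun χ _ => ?_
    simp only [mul_left_comm (blockCoeff B _) (classInner _ _), ← Finset.mul_sum, h1, mul_ite,
      mul_zero]
  set R : ι → G → ℂ := fun i => pRegularPart p (F i)
  have hRmem : ∀ i, R i ∈ Submodule.span ℂ
      ((fun χ : IrrCharacter G => pRegularPart p (χ : G → ℂ)) '' B) := by
    intro i
    have : R i = ∑ χ ∈ Finset.univ.filter (· ∈ B),
        classInner (T i) (χ : G → ℂ) • pRegularPart p (χ : G → ℂ) := by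
      funext g
      simp only [R, pRegularPart, Finset.sum_apply, Pi.smul_apply, smul_eq_mul]
      split_ifs with hg
      · rw [hFB]
      · simp
    rw [this]
    exact Submodule.sum_mem _ fun χ hχ => Submodule.smul_mem _ _
      (Submodule.subset_span ⟨χ, (Finset.mem_filter.1 hχ).2, rfl⟩)
  -- a left inverse over the residue field on the `p`-regular elements
  let L : (ι → Res M) →ₗ[Res M] ({g : G // ¬ p ∣ orderOf g} → Res M) :=
    { toFun := fun c g => ∑ i, c i * τ i g
      map_add' := fun c d => funext fun g => by simp [add_mul, Finset.sum_add_distrib]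
      map_smul' := fun a c => funext fun g => by simp [mul_assoc, Finset.mul_sum] }
  have hL : LinearMap.ker L = ⊥ := by
    rw [LinearMap.ker_eq_bot']
    intro c hc
    have h0 : ∑ i, c i • τ i = 0 := by
      funext g
      obtain ⟨u, hu⟩ := exists_pPart (Fact.out : p.Prime) g
      obtain ⟨y, hy, hcomm, ⟨j, hj⟩, hyo⟩ := id hu
      have h1 := congrFun hc ⟨y, hyo⟩
      simp only [Finset.sum_apply, Pi.smul_apply, smul_eq_mul, Pi.zero_apply]
      refine Eq.trans (Finset.sum_congr rfl fun i _ => ?_) h1
      rw [← hy, hsec i u y hcomm ⟨j, by rw [← hj, pow_orderOf_eq_one]⟩]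
    exact funext (Fintype.linearIndependent_iff.1 hli c h0)
  obtain ⟨L', hL'⟩ := L.exists_leftInverse_of_injective hL
  set a : ι → {g : G // ¬ p ∣ orderOf g} → Res M := fun j g => L' (Pi.single g 1) j
  have hdual : ∀ i j, ∑ g, a j g * τ i g = if i = j then 1 else 0 := by
    intro i j
    have h1 := congrFun (LinearMap.congr_fun hL' (Pi.single i 1)) j
    have h2 : L (Pi.single i 1) = ∑ g : {g : G // ¬ p ∣ orderOf g}, τ i g • Pi.single g (1 : Res M) := by
      funext g
      simp [L, Finset.sum_apply, Pi.single_apply]
    rw [LinearMap.comp_apply, h2, map_sum, Finset.sum_apply, LinearMap.id_apply, Pi.single_apply] at h1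
    simp only [map_smul, Pi.smul_apply, smul_eq_mul] at h1
    rw [if_congr (eq_comm : i = j ↔ j = i) rfl rfl, ← h1]
    exact Finset.sum_congr rfl fun g _ => mul_comm _ _
  have hLI : LinearIndependent ℂ R := by
    rw [Fintype.linearIndependent_iff]
    intro c hc
    set A : ι → {g : G // ¬ p ∣ orderOf g} → localRing M := fun j g =>
      Function.surjInv IsLocalRing.residue_surjective (a j g)
    set Q : Matrix ι ι (localRing M) := Matrix.of fun j i => ∑ g, A j g * ⟨F i g, hFm i g⟩
    have hQ : Q.map (resHom M) = 1 := by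
      funext j i
      rw [Matrix.map_apply, Matrix.one_apply, if_congr (eq_comm : j = i ↔ i = j) rfl rfl, ← hdual i j]
      simp only [Q, Matrix.of_apply, map_sum, map_mul, A]
      refine Finset.sum_congr rfl fun g _ => ?_
      rw [← rv_coe (⟨F i g, hFm i g⟩ : localRing M), hFr]
      exact congrArg (· * _) (Function.surjInv_eq IsLocalRing.residue_surjective _)
    have hdet : IsUnit Q.det := by
      by_contra hnu
      have h1 : resHom M Q.det = 0 := by
        rw [IsLocalRing.residue_eq_zero_iff]
        exact (IsLocalRing.mem_maximalIdeal _).2 hnu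
      rw [RingHom.map_det, RingHom.mapMatrix_apply, hQ, Matrix.det_one] at h1
      exact one_ne_zero h1
    set QC : Matrix ι ι ℂ := Q.map (localRing M).subtype
    have hdetC : QC.det ≠ 0 := by
      have : QC.det = (Q.det : ℂ) := ((localRing M).subtype.map_det Q).symm
      rw [this]
      exact fun e => hdet.ne_zero (Subtype.ext e)
    have hmul : QC.mulVec c = 0 := by
      funext j
      simp only [Matrix.mulVec, dotProduct, QC, Matrix.map_apply, Q, Matrix.of_apply, map_sum, Pi.zero_apply,
        Finset.sum_mul]
      rw [Finset.sum_comm]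
      refine Finset.sum_eq_zero fun g _ => ?_
      have h1 := congrFun hc (g : G)
      simp only [Finset.sum_apply, Pi.smul_apply, smul_eq_mul, R, pRegularPart, IsPRegular,
        Pi.zero_apply] at h1
      simp only [g.2, not_false_iff, if_true] at h1
      calc _ = (A j g : ℂ) * ∑ i, c i * F i (g : G) := by
            rw [Finset.mul_sum]
            exact Finset.sum_congr rfl fun i _ => by simp; ring
        _ = 0 := by rw [h1, mul_zero]
    exact fun i => congrFun (Matrix.eq_zero_of_mulVec_eq_zero hdetC hmul) i
  have := finrank_span_eq_card hLI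
  rw [← this, blockRank]
  exact Submodule.finrank_mono (Submodule.span_le.2 (by rintro _ ⟨i, rfl⟩; exact hRmem i))

end CfsgLib.Blocks.PrimeSylow
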