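import Mathlib

/-!
# Endomorphisms commuting with a nilpotent operator

For a nilpotent `X`, the deepest layer `ker X ∩ im X^s` outside `im X^N` lifts: prescribed maps on
it extend to endomorphisms commuting with `X`.
-/

set_option autoImplicit false

namespace CfsgLib.Blocks.PrimeSylow

open LinearMap

variable {k V : Type*} [Field k] [AddCommGroup V] [Module k V] (X : Module.End k V) (N : ℕ)

/-- The layer `ker X ∩ im X ^ s`. -/
def layer (s : ℕ) : Submodule k V := LinearMap.ker X ⊓ LinearMap.range (X ^ s)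

variable {X N}

theorem range_pow_le_range_pow {a b : ℕ} (h : a ≤ b) :
    LinearMap.range (X ^ b) ≤ LinearMap.range (X ^ a) := by
  rintro _ ⟨v, rfl⟩
  exact ⟨(X ^ (b - a)) v, by rw [← Module.End.mul_apply, ← pow_add, Nat.add_sub_cancel' h]⟩

theorem range_top_le_ker (hN : X ^ (N + 1) = 0) :
    LinearMap.range (X ^ N) ≤ LinearMap.ker X := by
  rintro _ ⟨v, rfl⟩
  rw [LinearMap.mem_ker, ← Module.End.mul_apply, ← pow_succ', hN, LinearMap.zero_apply]

/-- The deepest layer outside `im X^N`, with a projection and lifts. -/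
theorem exists_layer_lift (hN : X ^ (N + 1) = 0) {m₀ : V} (hm : X m₀ = 0)
    (hm0 : m₀ ∉ LinearMap.range (X ^ N)) :
    ∃ (s : ℕ) (f : V →ₗ[k] V), s < N ∧ ¬ layer X s ≤ LinearMap.range (X ^ N) ∧
      (∀ v, f v ∈ layer X s) ∧
      (∀ m ∈ layer X s, f m - m ∈ LinearMap.range (X ^ N)) ∧
      ∀ g : V →ₗ[k] V, ∃ φ : Module.End k V, Commute φ X ∧ ∀ m, X m = 0 → φ m = f (g (f m)) := by
  classical
  set T := LinearMap.range (X ^ N) with hT
  have hN0 : ¬ layer X N ≤ T ↔ False := iff_false_intro fun h => h inf_le_right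
  have hex : ∃ s, s ≤ N ∧ ¬ layer X s ≤ T :=
    ⟨0, Nat.zero_le _, fun h => hm0 (h ⟨LinearMap.mem_ker.2 hm, by simp⟩)⟩
  obtain ⟨s₀, hs₀N, hs₀⟩ := hex
  set s := Nat.findGreatest (fun s => ¬ layer X s ≤ T) N with hs
  have hsP : ¬ layer X s ≤ T := Nat.findGreatest_spec (P := fun s => ¬ layer X s ≤ T) hs₀N hs₀
  have hsN : s < N := lt_of_le_of_ne (Nat.findGreatest_le N) fun h => hN0.1 (h ▸ hsP)
  have hnext : layer X (s + 1) ≤ T := by
    by_contra h
    exact Nat.findGreatest_is_greatest (P := fun s => ¬ layer X s ≤ T) (Nat.lt_succ_self s) hsN h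
  have hTs : T ≤ layer X s :=
    le_inf (range_top_le_ker hN) (range_pow_le_range_pow hsN.le)
  -- a complement of `T` in the layer
  obtain ⟨U₀, hU₀⟩ := exists_isCompl T
  set U := layer X s ⊓ U₀ with hU
  have hsplit : ∀ m ∈ layer X s, ∃ u ∈ U, m - u ∈ T := by
    intro m hm
    obtain ⟨t, ht, u, hu, rfl⟩ := Submodule.mem_sup.1
      (hU₀.sup_eq_top.symm ▸ Submodule.mem_top : m ∈ T ⊔ U₀)
    refine ⟨u, ⟨?_, hu⟩, by simpa using ht⟩
    simpa using (layer X s).sub_mem hm (hTs ht)
  have hUR : Disjoint U (LinearMap.range (X ^ (s + 1))) := by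
    rw [Submodule.disjoint_def]
    rintro u ⟨hu, hu0⟩ hur
    exact Submodule.disjoint_def.1 hU₀.disjoint u (hnext ⟨hu.1, hur⟩) hu0
  obtain ⟨W, hW⟩ := exists_isCompl (U ⊔ LinearMap.range (X ^ (s + 1)))
  have hUW : IsCompl U (LinearMap.range (X ^ (s + 1)) ⊔ W) := by
    refine ⟨?_, codisjoint_iff.2 (by rw [← sup_assoc, hW.sup_eq_top])⟩
    exact hUR.disjoint_sup_right_of_disjoint_sup_left hW.disjoint
  set q : V →ₗ[k] U := Submodule.projectionOnto U _ hUW with hq
  have hq0 : ∀ r ∈ LinearMap.range (X ^ (s + 1)), q r = 0 := fun r hr =>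
    (Submodule.projectionOnto_apply_eq_zero_iff _).2 (Submodule.mem_sup_left hr)
  have hqU : ∀ u : U, q u = u := fun u => Submodule.projectionOnto_apply_left _ u
  set f : V →ₗ[k] V := U.subtype ∘ₗ q with hf
  -- a section of `X ^ s` over `U`
  have hsec : ∃ sec : U →ₗ[k] V, ∀ u : U, (X ^ s) (sec u) = u := by
    let B := Module.Basis.ofVectorSpace k U
    have hB : ∀ i, ∃ v, (X ^ s) v = (B i : V) := fun i => (B i).2.1.2
    choose v hv using hB
    refine ⟨B.constr k v, fun u => ?_⟩
    have : (X ^ s) ∘ₗ B.constr k v = U.subtype := B.ext fun i => by simp [hv]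
    exact LinearMap.congr_fun this u
  obtain ⟨sec, hsec⟩ := hsec
  refine ⟨s, f, hsN, hsP, fun v => (q v).2.1, fun m hm => ?_, fun g => ?_⟩
  · obtain ⟨u, hu, hmu⟩ := hsplit m hm
    have hm1 : q (m - u) = 0 := hq0 _ (range_pow_le_range_pow hsN hmu)
    have : q m = ⟨u, hu⟩ := by
      rw [← sub_eq_zero, ← hqU ⟨u, hu⟩, ← map_sub]
      exact hm1
    show ((q m : U) : V) - m ∈ T
    rw [this]
    simpa using T.neg_mem hmu
  · let ψ : V →ₗ[k] V := sec ∘ₗ q ∘ₗ g ∘ₗ f
    refine ⟨∑ i ∈ Finset.range (s + 1), X ^ i * (ψ * X ^ (s - i)), ?_, fun m hm => ?_⟩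
    · have hψ0 : ψ * X ^ (s + 1) = 0 := by
        refine LinearMap.ext fun v => ?_
        show sec (q (g ((q ((X ^ (s + 1)) v) : U) : V))) = 0
        rw [hq0 _ ⟨v, rfl⟩]
        simp
      have hψ1 : X ^ (s + 1) * ψ = 0 := by
        refine LinearMap.ext fun v => ?_
        show (X ^ (s + 1)) (sec (q (g (f v)))) = 0
        rw [pow_succ', Module.End.mul_apply, hsec]
        exact LinearMap.mem_ker.1 (q (g (f v))).2.1.1
      show _ * X = X * _
      rw [Finset.sum_mul, Finset.mul_sum]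
      set F : ℕ → Module.End k V := fun i => X ^ i * (ψ * X ^ (s + 1 - i)) with hF
      have hl : ∀ i ∈ Finset.range (s + 1), X ^ i * (ψ * X ^ (s - i)) * X = F i := fun i hi => by
        have := Finset.mem_range.1 hi
        simp only [hF, mul_assoc]
        rw [← pow_succ, show s - i + 1 = s + 1 - i by omega]
      have hr : ∀ i ∈ Finset.range (s + 1), X * (X ^ i * (ψ * X ^ (s - i))) = F (i + 1) :=
        fun i _ => by
          simp only [hF, ← mul_assoc]
          rw [← pow_succ', show s + 1 - (i + 1) = s - i by omega]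
      rw [Finset.sum_congr rfl hl, Finset.sum_congr rfl hr]
      have h1 := Finset.sum_range_succ F (s + 1)
      have h2 := Finset.sum_range_succ' F (s + 1)
      have h3 : F 0 = 0 := by simp [hF, hψ0]
      have h4 : F (s + 1) = 0 := by simp [hF, hψ1]
      rw [h4, add_zero] at h1
      rw [h3, add_zero] at h2
      rw [← h1, h2]
    · rw [LinearMap.sum_apply, Finset.sum_eq_single s]
      · simp [Module.End.mul_apply, ψ, hsec, hf]
      · intro i hi his
        have : i < s := lt_of_le_of_ne (Nat.lt_succ_iff.1 (Finset.mem_range.1 hi)) his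
        rw [Module.End.mul_apply, Module.End.mul_apply,
          show s - i = (s - i - 1) + 1 by omega, pow_succ, Module.End.mul_apply, hm]
        simp
      · simp

end CfsgLib.Blocks.PrimeSylow
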