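import Cfsg.Agent.Lib.Blocks.PrimeSylow.Endo
import Cfsg.Agent.Lib.Blocks.BrauerMap

/-!
# Stable endomorphisms at a Sylow subgroup of order `p`

On `fixed P / norm`, endomorphisms over the normalizer act by scalars on an irreducible module.
-/

set_option autoImplicit false

namespace CfsgLib.Blocks.PrimeSylow

open MonoidAlgebra

variable {k : Type*} [Field k] {G : Type*} [Group G] {V : Type*} [AddCommGroup V] [Module k V]

/-- A sum over a free orbit space is a norm. -/
theorem sum_free_mem {U : Type*} [Group U] [Fintype U] {X : Type*} [DecidableEq X]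
    (a : U →* Equiv.Perm X) (s : Finset X) (hs : ∀ u, ∀ x ∈ s, a u x ∈ s)
    (hfree : ∀ u, ∀ x ∈ s, a u x = x → u = 1) (F : X → V) (L : U → V →ₗ[k] V)
    (hF : ∀ u, ∀ x ∈ s, F (a u x) = L u (F x)) :
    ∑ x ∈ s, F x ∈ LinearMap.range (∑ u, L u) := by
  classical
  let S : Setoid X :=
    { r := fun x y => ∃ u, a u x = y
      iseqv :=
        ⟨fun x => ⟨1, by simp⟩, fun {x y} ⟨u, h⟩ => ⟨u⁻¹, by rw [← h]; simp [← Equiv.Perm.mul_apply, ← map_mul]⟩,
          fun {x y z} ⟨u, h⟩ ⟨v, h'⟩ => ⟨v * u, by simp [h, h']⟩⟩ }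
  let rep : X → X := fun x => (Quotient.mk S x).out
  have hrep : ∀ x, ∃ u, a u (rep x) = x := fun x => Quotient.exact (Quotient.out_eq (Quotient.mk S x))
  have hrep' : ∀ x u, rep (a u x) = rep x := fun x u =>
    congrArg Quotient.out (Quotient.sound (s := S) ⟨u⁻¹, by simp [← Equiv.Perm.mul_apply, ← map_mul]⟩)
  refine ⟨∑ x ∈ s.filter (fun x => rep x = x), F x, ?_⟩
  rw [LinearMap.sum_apply]
  simp only [map_sum]
  rw [← Finset.sum_product']
  refine Finset.sum_bij (fun ux _ => a ux.1 ux.2) ?_ ?_ ?_ ?_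
  · exact fun ux h => hs _ _ (Finset.mem_filter.1 (Finset.mem_product.1 h).2).1
  · rintro ⟨u, x⟩ hx ⟨v, y⟩ hy h
    obtain ⟨hxs, hxr⟩ := Finset.mem_filter.1 (Finset.mem_product.1 hx).2
    obtain ⟨hys, hyr⟩ := Finset.mem_filter.1 (Finset.mem_product.1 hy).2
    simp only at h hxs hxr hys hyr ⊢
    have hxy : x = y := by rw [← hxr, ← hyr, ← hrep' x u, ← hrep' y v, h]
    subst hxy
    have := hfree (v⁻¹ * u) x hxs (by
      rw [map_mul, Equiv.Perm.mul_apply, h, ← Equiv.Perm.mul_apply, ← map_mul, inv_mul_cancel,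
        map_one, Equiv.Perm.one_apply])
    rw [inv_mul_eq_one] at this
    rw [this]
  · intro y hy
    obtain ⟨u, hu⟩ := hrep y
    have h1 : rep y ∈ s := by
      have := hs u⁻¹ y hy
      rwa [← hu, ← Equiv.Perm.mul_apply, ← map_mul, inv_mul_cancel, map_one,
        Equiv.Perm.one_apply] at this
    refine ⟨(u, rep y), Finset.mem_product.2 ⟨Finset.mem_univ _,
      Finset.mem_filter.2 ⟨h1, ?_⟩⟩, hu⟩
    have := hrep' (rep y) u
    rw [hu] at this
    exact this.symm
  · exact fun ux h => (hF _ _ (Finset.mem_filter.1 (Finset.mem_product.1 h).2).1).symm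

variable (ρ : Representation k G V) (P : Subgroup G)

theorem _root_.CfsgLib.Blocks.asAlgebraHom_eq_sum' [Fintype G] (a : MonoidAlgebra k G) :
    ρ.asAlgebraHom a = ∑ g, a.coeff g • ρ g := by
  rw [Representation.asAlgebraHom_def, lift_apply, Finsupp.sum_fintype]
  exact fun _ => zero_smul _ _

/-- The fixed vectors. -/
def fixed : Submodule k V where
  carrier := {m | ∀ x ∈ P, ρ x m = m}
  zero_mem' := by simp
  add_mem' := fun ha hb x hx => by rw [map_add, ha x hx, hb x hx]
  smul_mem' := fun c m hm x hx => by rw [map_smul, hm x hx]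

variable {ρ P} in
theorem mem_fixed {m : V} : m ∈ fixed ρ P ↔ ∀ x ∈ P, ρ x m = m := Iff.rfl

/-- The norms from the trivial subgroup. -/
def norms [Fintype P] : Submodule k V := LinearMap.range (∑ x : P, ρ x)

variable {ρ P}

theorem conj_mem_iff {n : G} (hn : n ∈ Subgroup.normalizer (P : Set G)) {x : G} :
    n⁻¹ * x * n ∈ P ↔ x ∈ P := (Subgroup.mem_normalizer_iff''.1 hn x).symm

theorem rho_mem_fixed {n : G} (hn : n ∈ Subgroup.normalizer (P : Set G)) {m : V}
    (hm : m ∈ fixed ρ P) : ρ n m ∈ fixed ρ P := fun x hx => by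
  have h := hm (n⁻¹ * x * n) ((conj_mem_iff hn).2 hx)
  rw [← Module.End.mul_apply, ← map_mul, show x * n = n * (n⁻¹ * x * n) by group, map_mul,
    Module.End.mul_apply, h]

theorem rho_mem_norms [Fintype P] {n : G} (hn : n ∈ Subgroup.normalizer (P : Set G)) {m : V}
    (hm : m ∈ norms ρ P) : ρ n m ∈ norms ρ P := by
  obtain ⟨v, rfl⟩ := hm
  refine ⟨ρ n v, ?_⟩
  simp only [LinearMap.sum_apply, map_sum, ← Module.End.mul_apply, ← map_mul]
  let e : P ≃ P :=
    { toFun := fun x => ⟨n⁻¹ * x * n, (conj_mem_iff hn).2 x.2⟩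
      invFun := fun x => ⟨n * x * n⁻¹, (Subgroup.mem_normalizer_iff.1 hn x).1 x.2⟩
      left_inv := fun x => by ext; simp [mul_assoc]
      right_inv := fun x => by ext; simp [mul_assoc] }
  refine Fintype.sum_equiv e _ _ fun x => ?_
  show ρ ((x : G) * n) v = ρ (n * (n⁻¹ * x * n)) v
  rw [show (x : G) * n = n * (n⁻¹ * x * n) by group]

/-! ### The generator -/

variable {p : ℕ} [hp : Fact p.Prime] (hP : Nat.card P = p) [CharP k p]

include hP in
theorem exists_gen : ∃ g : G, g ∈ P ∧ Subgroup.zpowers g = P ∧ orderOf g = p := by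
  obtain ⟨g, hg⟩ := @exists_prime_orderOf_dvd_card' P _
    (Nat.finite_of_card_ne_zero (hP ▸ hp.out.ne_zero)) p hp (dvd_of_eq hP.symm)
  have := Nat.finite_of_card_ne_zero (hP ▸ hp.out.ne_zero : Nat.card P ≠ 0)
  refine ⟨g, g.2, Subgroup.eq_of_le_of_card_ge (Subgroup.zpowers_le.2 g.2) ?_,
    by rw [Subgroup.orderOf_coe, hg]⟩
  rw [hP, Nat.card_zpowers, Subgroup.orderOf_coe, hg]

theorem sum_pow_eq (x : Module.End k V) :
    ∑ i ∈ Finset.range p, x ^ i = (x - 1) ^ (p - 1) := by
  have h : ((Polynomial.X - 1 : Polynomial k)) ^ (p - 1) = ∑ i ∈ Finset.range p, Polynomial.X ^ i := by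
    refine mul_right_cancel₀ (b := (Polynomial.X - 1 : Polynomial k)) (fun h => ?_) ?_
    · simpa using congrArg (Polynomial.eval 0) h
    · rw [← pow_succ, Nat.sub_add_cancel hp.out.one_le, geom_sum_mul, sub_pow_char, one_pow]
  simpa using (congrArg (Polynomial.aeval x) h).symm

variable [Fintype P]

include hP in
theorem sum_rho_eq {g : G} (hg : g ∈ P) (ho : orderOf g = p) :
    ∑ x : P, ρ x = (ρ g - 1) ^ (p - 1) := by
  rw [← sum_pow_eq, Finset.sum_range]
  refine (Fintype.sum_bijective (fun i : Fin p => (⟨g ^ (i : ℕ), P.pow_mem hg i⟩ : P)) ?_ _ _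
    fun i => by simp).symm
  rw [Fintype.bijective_iff_injective_and_card]
  refine ⟨fun i j h => ?_, by rw [Fintype.card_fin, ← Nat.card_eq_fintype_card, hP]⟩
  exact Fin.ext (pow_injOn_Iio_orderOf (ho ▸ i.2 : (i : ℕ) ∈ Set.Iio (orderOf g))
    (ho ▸ j.2) (congrArg Subtype.val h))

include hP in
theorem pow_p_eq_zero {g : G} (ho : orderOf g = p) :
    ((ρ g - 1 : Module.End k V)) ^ (p - 1 + 1) = 0 := by
  rw [pow_succ, ← sum_pow_eq, geom_sum_mul, ← map_pow, ← ho, pow_orderOf_eq_one, map_one, sub_self]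

theorem mem_fixed_iff {g : G} (hg : g ∈ P) (hz : Subgroup.zpowers g = P) {m : V} :
    m ∈ fixed ρ P ↔ (ρ g - 1 : Module.End k V) m = 0 := by
  rw [LinearMap.sub_apply, Module.End.one_apply, sub_eq_zero]
  refine ⟨fun h => h g hg, fun h x hx => ?_⟩
  rw [← hz] at hx
  let S : Subgroup G :=
    { carrier := {y | ρ y m = m}
      one_mem' := by simp
      mul_mem' := fun ha hb => by
        simp only [Set.mem_setOf_eq] at *
        rw [map_mul, Module.End.mul_apply, hb, ha]
      inv_mem' := fun {a} ha => by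
        simp only [Set.mem_setOf_eq] at *
        conv_lhs => rw [← ha]
        rw [← Module.End.mul_apply, ← map_mul, inv_mul_cancel, map_one, Module.End.one_apply] }
  exact (Subgroup.zpowers_le.2 (show g ∈ S from h)) hx

include hP in
theorem norms_le_fixed : norms ρ P ≤ fixed ρ P := by
  rintro _ ⟨v, rfl⟩ x hx
  simp only [LinearMap.sum_apply, map_sum, ← Module.End.mul_apply, ← map_mul]
  exact Fintype.sum_equiv (Equiv.mulLeft ⟨x, hx⟩) _ _ fun y => rfl

/-! ### Scalars -/

variable [Fintype G]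

include hP in
theorem eq_of_le_conj {g : G}
    (hS : ¬ p ∣ P.index) (h : ∀ x ∈ P, g⁻¹ * x * g ∈ Subgroup.normalizer (P : Set G)) :
    g ∈ Subgroup.normalizer (P : Set G) := by
  set N := Subgroup.normalizer (P : Set G)
  have hnd : ¬ p ∣ P.relIndex N := fun hd => hS
    (hd.trans (Subgroup.relIndex_dvd_index_of_le P.le_normalizer))
  have hkey : ∀ y ∈ N, y ^ p = 1 → y ∈ P := by
    intro y hy hy1
    by_contra hyP
    refine hnd ?_
    have h1 : (QuotientGroup.mk' (P.subgroupOf N) ⟨y, hy⟩) ≠ 1 := fun e =>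
      hyP (Subgroup.mem_subgroupOf.1 ((QuotientGroup.eq_one_iff _).1 e))
    have h2 : (QuotientGroup.mk' (P.subgroupOf N) ⟨y, hy⟩) ^ p = 1 := by
      rw [← map_pow, show (⟨y, hy⟩ : N) ^ p = 1 from Subtype.ext hy1, map_one]
    have h3 := orderOf_eq_prime h2 h1
    rw [Subgroup.relIndex, Subgroup.index, ← h3]
    exact orderOf_dvd_natCard _
  refine Subgroup.mem_normalizer_iff''.2 fun x => ⟨fun hx => ?_, fun hx => ?_⟩
  · refine hkey _ (h x hx) ?_
    have : x ^ p = 1 := by
      have := congrArg Subtype.val (pow_card_eq_one' (x := (⟨x, hx⟩ : P)))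
      rwa [hP, Subgroup.coe_pow, Subgroup.coe_one] at this
    rw [show g⁻¹ * x * g = g⁻¹ * x * (g⁻¹)⁻¹ by group, conj_pow, this]
    group
  · obtain ⟨c, hcP, hc, ho⟩ := exists_gen hP
    have h1 : g⁻¹ * c * g ∈ P := hkey _ (h c hcP) (by
      rw [show g⁻¹ * c * g = g⁻¹ * c * (g⁻¹)⁻¹ by group, conj_pow, ← ho, pow_orderOf_eq_one]
      group)
    have h2 : Subgroup.zpowers (g⁻¹ * c * g) = P := by
      refine Subgroup.eq_of_le_of_card_ge (Subgroup.zpowers_le.2 h1) ?_
      rw [hP, Nat.card_zpowers, show g⁻¹ * c * g = MulAut.conj g⁻¹ c by simp, MulEquiv.orderOf_eq, ho]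
    rw [← h2, Subgroup.mem_zpowers_iff] at hx
    obtain ⟨j, hj⟩ := hx
    rw [show g⁻¹ * c * g = g⁻¹ * c * (g⁻¹)⁻¹ by group, conj_zpow] at hj
    have : x = c ^ j := by
      have e : g⁻¹ * c ^ j * g = g⁻¹ * x * g := by simpa using hj
      exact (mul_left_cancel (mul_right_cancel e)).symm
    rw [this]
    exact P.zpow_mem hcP j

include hP in
/-- Endomorphisms over the normalizer act on fixed vectors, modulo norms, by scalars. -/
theorem exists_scalar [IsAlgClosed k] [FiniteDimensional k V] [ρ.IsIrreducible]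
    (hS : ¬ p ∣ P.index) (φ : Module.End k V)
    (hφ : ∀ n ∈ Subgroup.normalizer (P : Set G), Commute φ (ρ n)) :
    ∃ s : k, ∀ m ∈ fixed ρ P, φ m - s • m ∈ norms ρ P := by
  classical
  set N := Subgroup.normalizer (P : Set G)
  let c : G → Module.End k V := fun g => ρ g * φ * ρ g⁻¹
  have hc : ∀ (g h : G), h ∈ N → c (g * h) = c g := fun g h hh => by
    have e : ρ h * φ * ρ h⁻¹ = φ := by
      rw [mul_assoc, (hφ h⁻¹ (inv_mem hh)).eq, ← mul_assoc, ← map_mul, mul_inv_cancel, map_one,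
        one_mul]
    calc c (g * h) = ρ g * (ρ h * φ * ρ h⁻¹) * ρ g⁻¹ := by
          simp only [c, mul_inv_rev, map_mul, mul_assoc]
      _ = c g := by rw [e]
  let C : G ⧸ N → Module.End k V := fun q => Quotient.liftOn' q c fun a b hab => by
    rw [QuotientGroup.leftRel_apply] at hab
    rw [show b = a * (a⁻¹ * b) by group, hc a _ hab]
  have hCsmul : ∀ (g : G) (q : G ⧸ N), C (g • q) = ρ g * C q * ρ g⁻¹ := fun g q => by
    induction q using QuotientGroup.induction_on with
    | H a => show c (g * a) = ρ g * c a * ρ g⁻¹; simp [c, mul_assoc]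
  have : Fintype (G ⧸ N) := Fintype.ofFinite _
  set Tr := ∑ q, C q with hTr
  have hcomm : ∀ g, Commute Tr (ρ g) := fun g => by
    show Tr * ρ g = ρ g * Tr
    rw [hTr, Finset.sum_mul, Finset.mul_sum]
    refine (Fintype.sum_equiv (MulAction.toPerm g) _ _ fun q => ?_).symm
    rw [MulAction.toPerm_apply, hCsmul]
    simp [mul_assoc, ← map_mul]
  obtain ⟨s, hs⟩ := (Representation.IsIrreducible.algebraMap_intertwiningMap_bijective_of_isAlgClosed
    (ρ := ρ)).2 (⟨Tr, fun g => (hcomm g).eq⟩ : Representation.IntertwiningMap ρ ρ)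
  refine ⟨s, fun m hm => ?_⟩
  have hsm : Tr m = s • m := by
    have := congrArg (fun T : Representation.IntertwiningMap ρ ρ => T.toLinearMap m) hs
    simpa using this.symm
  rw [← hsm, hTr, LinearMap.sum_apply, ← Finset.add_sum_erase _ _ (Finset.mem_univ ((1 : G) : G ⧸ N)),
    show C ((1 : G) : G ⧸ N) = φ from (by show c 1 = φ; simp [c]), sub_add_cancel_left]
  refine (norms ρ P).neg_mem (sum_free_mem ((MulAction.toPermHom G (G ⧸ N)).comp P.subtype) _ ?_ ?_
    (fun q => C q m) (fun x => ρ x) ?_)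
  · intro u q hq
    refine Finset.mem_erase.2 ⟨fun h => (Finset.mem_erase.1 hq).1 ?_, Finset.mem_univ _⟩
    have hu : ((u⁻¹ : P) : G) ∈ N := P.le_normalizer (u⁻¹).2
    have h' : (u : G) • q = ((1 : G) : G ⧸ N) := h
    rw [← inv_smul_eq_iff.2 h'.symm] at *
    show (((u : G)⁻¹ * 1 : G) : G ⧸ N) = _
    rw [QuotientGroup.eq]
    simpa using hu
  · intro u q hq h
    by_contra hu
    induction q using QuotientGroup.induction_on with
    | H a =>
      refine (Finset.mem_erase.1 hq).1 (QuotientGroup.eq.2 ?_)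
      rw [mul_one]
      refine inv_mem (eq_of_le_conj hP hS fun x hx => ?_)
      have hgen : Subgroup.zpowers (u : G) = P := by
        refine Subgroup.eq_of_le_of_card_ge (Subgroup.zpowers_le.2 u.2) ?_
        rw [hP, Nat.card_zpowers, Subgroup.orderOf_coe]
        have := orderOf_dvd_natCard u
        rw [hP] at this
        rcases (Nat.dvd_prime hp.out).1 this with h1 | h1
        · exact absurd (orderOf_eq_one_iff.1 h1) hu
        · exact h1.ge
      have h1 : a⁻¹ * (u : G) * a ∈ N := by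
        have h' : (((u : G) * a : G) : G ⧸ N) = (a : G ⧸ N) := h
        rw [QuotientGroup.eq] at h'
        have := inv_mem h'
        simpa [mul_assoc] using this
      rw [← hgen, Subgroup.mem_zpowers_iff] at hx
      obtain ⟨j, rfl⟩ := hx
      have := zpow_mem h1 j
      rwa [show a⁻¹ * (u : G) * a = a⁻¹ * (u : G) * (a⁻¹)⁻¹ by group, conj_zpow, inv_inv] at this
  · intro u q _
    show C ((u : G) • q) m = ρ u (C q m)
    rw [hCsmul]
    simp [hm _ (inv_mem u.2)]

include hP in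
/-- Operators preserving the fixed vectors and commuting with the normalizer there are scalars
modulo norms. -/
theorem exists_scalar_fixed [IsAlgClosed k] [FiniteDimensional k V] [ρ.IsIrreducible]
    (hS : ¬ p ∣ P.index) (A : Module.End k V)
    (hA : ∀ m ∈ fixed ρ P, A m ∈ fixed ρ P) (hAT : ∀ m ∈ norms ρ P, A m ∈ norms ρ P)
    (hAN : ∀ n ∈ Subgroup.normalizer (P : Set G), ∀ m ∈ fixed ρ P,
      A (ρ n m) - ρ n (A m) ∈ norms ρ P) :
    ∃ s : k, ∀ m ∈ fixed ρ P, A m - s • m ∈ norms ρ P := by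
  classical
  by_cases hne : fixed ρ P ≤ norms ρ P
  · exact ⟨0, fun m hm => by simpa using hne (hA m hm)⟩
  obtain ⟨m₀, hm₀, hm₀T⟩ := SetLike.not_le_iff_exists.1 hne
  obtain ⟨g, hgP, hz, ho⟩ := exists_gen hP
  set T := norms ρ P with hTdef
  have hT : T = LinearMap.range ((ρ g - 1 : Module.End k V) ^ (p - 1)) := by
    rw [hTdef, norms, sum_rho_eq hP hgP ho]
  obtain ⟨l, f, -, hl, hfl, hfid, hlift⟩ := exists_layer_lift (pow_p_eq_zero hP ho)
    ((mem_fixed_iff hgP hz).1 hm₀) (hT ▸ hm₀T)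
  set F := layer (ρ g - 1) l
  rw [← hT] at hl hfid
  have hFfix : ∀ m ∈ F, m ∈ fixed ρ P := fun m hm =>
    (mem_fixed_iff hgP hz).2 (LinearMap.mem_ker.1 hm.1)
  -- the layer is stable under the normalizer
  have hFN : ∀ n ∈ Subgroup.normalizer (P : Set G), ∀ m ∈ F, ρ n m ∈ F := by
    intro n hn m hm
    refine ⟨LinearMap.mem_ker.2 ((mem_fixed_iff hgP hz).1 (rho_mem_fixed hn (hFfix m hm))), ?_⟩
    obtain ⟨v, hv⟩ := hm.2
    obtain ⟨j, hj⟩ := Subgroup.mem_zpowers_iff.1
      (hz.symm ▸ (Subgroup.mem_normalizer_iff.1 hn g).1 hgP : n * g * n⁻¹ ∈ Subgroup.zpowers g)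
    have hfin : IsOfFinOrder g := isOfFinOrder_of_finite g
    obtain ⟨i, hi⟩ : ∃ i : ℕ, g ^ i = n * g * n⁻¹ := by
      have := hfin.mem_powers_iff_mem_zpowers.2 ⟨j, hj⟩
      exact this
    have hsemi : ρ n * (ρ g - 1) = (ρ g ^ i - 1) * ρ n := by
      rw [mul_sub, sub_mul, ← map_pow, hi, ← map_mul, ← map_mul, mul_one, one_mul]
      simp
    have hsemi' : ρ n * (ρ g - 1) ^ l = (ρ g ^ i - 1) ^ l * ρ n :=
      SemiconjBy.pow_right hsemi l
    refine ⟨((∑ j ∈ Finset.range i, ρ g ^ j) ^ l) (ρ n v), ?_⟩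
    have hc : Commute (ρ g - 1) (∑ j ∈ Finset.range i, ρ g ^ j) :=
      Commute.sum_right _ _ _ fun j _ => ((Commute.refl (ρ g)).pow_right j).sub_left (Commute.one_left _)
    rw [← hv, ← Module.End.mul_apply (ρ n), hsemi', ← geom_sum_mul, ← hc.eq, hc.mul_pow,
      Module.End.mul_apply, Module.End.mul_apply]
  -- averaging
  set N := Subgroup.normalizer (P : Set G) with hN
  set P' := P.subgroupOf N
  have : Fintype (N ⧸ P') := Fintype.ofFinite _
  have hindex : (Fintype.card (N ⧸ P') : k) ≠ 0 := by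
    rw [← Nat.card_eq_fintype_card, Ne, CharP.cast_eq_zero_iff k p]
    exact fun hd => hS (hd.trans (Subgroup.relIndex_dvd_index_of_le P.le_normalizer))
  have avg : ∀ φ : Module.End k V, Commute φ (ρ g - 1) → ∃ ψ : Module.End k V,
      (∀ n ∈ N, Commute ψ (ρ n)) ∧ ∀ m, ∃ r : N ⧸ P' → N,
        ψ m = (Fintype.card (N ⧸ P') : k)⁻¹ • ∑ q, ρ (r q) (φ (ρ (r q)⁻¹ m)) := by
    intro φ hφ
    have hφg : Commute φ (ρ g) := by simpa using hφ.add_right (Commute.one_right φ)
    have hφP : ∀ x ∈ P, Commute φ (ρ x) := fun x hx => by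
      obtain ⟨i, rfl⟩ := (isOfFinOrder_of_finite g).mem_powers_iff_mem_zpowers.2
        (hz.symm ▸ hx : x ∈ Subgroup.zpowers g)
      rw [map_pow]
      exact hφg.pow_right i
    let c : N → Module.End k V := fun a => ρ a * φ * ρ (a : G)⁻¹
    have hc : ∀ a b : N, b ∈ P' → c (a * b) = c a := fun a b hb => by
      have e : ρ (b : G) * φ * ρ (b : G)⁻¹ = φ := by
        rw [mul_assoc, (hφP _ (inv_mem (Subgroup.mem_subgroupOf.1 hb))).eq, ← mul_assoc, ← map_mul,
          mul_inv_cancel, map_one, one_mul]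
      calc c (a * b) = ρ (a : G) * (ρ (b : G) * φ * ρ (b : G)⁻¹) * ρ (a : G)⁻¹ := by
            simp only [c, Subgroup.coe_mul, mul_inv_rev, map_mul, mul_assoc]
        _ = c a := by rw [e]
    let C : N ⧸ P' → Module.End k V := fun q => Quotient.liftOn' q c fun a b hab => by
      rw [QuotientGroup.leftRel_apply] at hab
      rw [show b = a * (a⁻¹ * b) by group, hc a _ hab]
    have hCs : ∀ (a : N) (q : N ⧸ P'), C (a • q) = ρ a * C q * ρ (a : G)⁻¹ := fun a q => by
      induction q using QuotientGroup.induction_on with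
      | H b => show c (a * b) = ρ a * c b * _; simp [c, mul_assoc]
    refine ⟨(Fintype.card (N ⧸ P') : k)⁻¹ • ∑ q, C q, fun n hn => Commute.smul_left ?_ _,
      fun m => ⟨Quotient.out, ?_⟩⟩
    · show (∑ q, C q) * ρ n = ρ n * ∑ q, C q
      rw [Finset.sum_mul, Finset.mul_sum]
      refine (Fintype.sum_equiv (MulAction.toPerm (⟨n, hn⟩ : N)) _ _ fun q => ?_).symm
      rw [MulAction.toPerm_apply, hCs]
      simp [mul_assoc, ← map_mul]
    · simp only [LinearMap.smul_apply, LinearMap.sum_apply]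
      congr 1
      refine Finset.sum_congr rfl fun q _ => ?_
      conv_lhs => rw [← QuotientGroup.out_eq' q]
      rfl
  -- `φ` lifting `g₁ ∘ f`
  have key : ∀ g₁ : V →ₗ[k] V, ∃ s : k, ∀ m ∈ fixed ρ P, ∃ r : N ⧸ P' → N,
      (Fintype.card (N ⧸ P') : k)⁻¹ • ∑ q, ρ (r q) (f (g₁ (f (ρ (r q)⁻¹ m)))) - s • m ∈ T := by
    intro g₁
    obtain ⟨φ, hφ, hφ'⟩ := hlift g₁
    obtain ⟨ψ, hψ, hψ'⟩ := avg φ hφ
    obtain ⟨s, hs⟩ := exists_scalar hP hS ψ hψ
    refine ⟨s, fun m hm => ?_⟩
    obtain ⟨r, hr⟩ := hψ' m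
    refine ⟨r, ?_⟩
    have := hs m hm
    rw [hr] at this
    convert this using 5 with q
    exact (hφ' _ ((mem_fixed_iff hgP hz).1 (rho_mem_fixed (inv_mem (r q).2) hm))).symm
  -- the layer is everything
  have hall : ∀ m ∈ fixed ρ P, m ∈ F := by
    obtain ⟨s, hs⟩ := key LinearMap.id
    have hs1 : s = 1 := by
      obtain ⟨m, hmF, hmT⟩ := SetLike.not_le_iff_exists.1 hl
      obtain ⟨r, hr⟩ := hs m (hFfix m hmF)
      have h1 : (Fintype.card (N ⧸ P') : k)⁻¹ • ∑ q, ρ (r q) (f (f (ρ (r q)⁻¹ m))) - m ∈ T := by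
        have h2 : ∀ q, ρ (r q) (f (f (ρ (r q)⁻¹ m))) - m ∈ T := fun q => by
          have hq := hFN _ (inv_mem (r q).2) m hmF
          have := T.add_mem (hfid _ (hfl (ρ (r q)⁻¹ m))) (hfid _ hq)
          rw [sub_add_sub_cancel] at this
          have := rho_mem_norms (r q).2 this
          rw [map_sub, ← Module.End.mul_apply (ρ _) (ρ _), ← map_mul, mul_inv_cancel, map_one,
            Module.End.one_apply] at this
          exact this
        have := T.smul_mem (Fintype.card (N ⧸ P') : k)⁻¹ (T.sum_mem (t := Finset.univ) fun q _ => h2 q)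
        rwa [Finset.sum_sub_distrib, Finset.sum_const, Finset.card_univ, smul_sub,
          ← Nat.cast_smul_eq_nsmul k, smul_smul, inv_mul_cancel₀ hindex, one_smul] at this
      by_contra hne1
      refine hmT ?_
      have h3 := T.sub_mem hr h1
      simp only [LinearMap.id_apply] at h3
      rw [sub_sub_sub_cancel_left, ← one_smul k m, smul_smul, mul_one, ← sub_smul] at h3
      have := T.smul_mem (1 - s)⁻¹ h3
      rwa [smul_smul, inv_mul_cancel₀ (sub_ne_zero.2 (Ne.symm hne1)), one_smul] at this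
    intro m hm
    obtain ⟨r, hr⟩ := hs m hm
    rw [hs1, one_smul] at hr
    have h4 : (Fintype.card (N ⧸ P') : k)⁻¹ • ∑ q, ρ (r q) (f (f (ρ (r q)⁻¹ m))) ∈ F :=
      F.smul_mem _ (F.sum_mem fun q _ => hFN _ (r q).2 _ (hfl _))
    have hTF : T ≤ F := by
      rw [hT]
      refine le_inf (range_top_le_ker (pow_p_eq_zero hP ho)) (range_pow_le_range_pow ?_)
      by_contra hcon
      refine hl ?_
      rw [hT]
      exact inf_le_right.trans (range_pow_le_range_pow (by omega))
    have := F.sub_mem h4 (hTF hr)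
    simp only [LinearMap.id_apply] at this
    rwa [sub_sub_cancel] at this
  obtain ⟨s, hs⟩ := key A
  refine ⟨s, fun m hm => ?_⟩
  obtain ⟨r, hr⟩ := hs m hm
  have h1 : (Fintype.card (N ⧸ P') : k)⁻¹ • ∑ q, ρ (r q) (f (A (f (ρ (r q)⁻¹ m)))) - A m ∈ T := by
    have h2 : ∀ q, ρ (r q) (f (A (f (ρ (r q)⁻¹ m)))) - A m ∈ T := fun q => by
      have hm' := rho_mem_fixed (inv_mem (r q).2) hm
      have e1 := hfid _ (hall _ (hA _ (hFfix _ (hfl (ρ (r q)⁻¹ m)))))
      have e2 := hAT _ (hfid _ (hall _ hm'))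
      rw [map_sub] at e2
      have e3 := rho_mem_norms (r q).2 (T.add_mem e1 e2)
      rw [sub_add_sub_cancel, map_sub] at e3
      have e4 := hAN _ (r q).2 _ hm'
      rw [← Module.End.mul_apply (ρ _) (ρ _), ← map_mul, mul_inv_cancel, map_one,
        Module.End.one_apply] at e4
      have := T.sub_mem e3 e4
      rwa [show ∀ a b c : V, a - b - (c - b) = a - c from fun a b c => by abel] at this
    have := T.smul_mem (Fintype.card (N ⧸ P') : k)⁻¹ (T.sum_mem (t := Finset.univ) fun q _ => h2 q)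
    rwa [Finset.sum_sub_distrib, Finset.sum_const, Finset.card_univ, smul_sub,
      ← Nat.cast_smul_eq_nsmul k, smul_smul, inv_mul_cancel₀ hindex, one_smul] at this
  have := T.sub_mem hr h1
  rwa [show ∀ a b c : V, a - b - (a - c) = c - b from fun a b c => by abel] at this

include hP in
/-- Central elements act on fixed vectors, modulo norms, through their part on the centralizer. -/
theorem central_sub_mem {z : MonoidAlgebra k G} (hz : ∀ g h : G, z.coeff (h * g * h⁻¹) = z.coeff g)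
    [DecidablePred fun g => g ∈ Subgroup.centralizer (P : Set G)] {m : V} (hm : m ∈ fixed ρ P) :
    ρ.asAlgebraHom z m -
      (∑ g ∈ Finset.univ.filter (fun g => g ∈ Subgroup.centralizer (P : Set G)),
        z.coeff g • ρ g m) ∈ norms ρ P := by
  classical
  have hexp : ρ.asAlgebraHom z m = ∑ g, z.coeff g • ρ g m := by
    rw [Blocks.asAlgebraHom_eq_sum', LinearMap.sum_apply]
    rfl
  rw [hexp, ← Finset.sum_filter_add_sum_filter_not Finset.univ
    (fun g => g ∈ Subgroup.centralizer (P : Set G)), add_sub_cancel_left]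
  refine sum_free_mem ((MulAut.toPerm G).comp (MulAut.conj.comp P.subtype)) _ ?_ ?_
    (fun g => z.coeff g • ρ g m) (fun x => ρ x) ?_
  · intro u g hg
    refine Finset.mem_filter.2 ⟨Finset.mem_univ _, fun h => (Finset.mem_filter.1 hg).2 ?_⟩
    have h' : (u : G) * g * (u : G)⁻¹ ∈ Subgroup.centralizer (P : Set G) := h
    have e := h' u u.2
    have e1 : Commute (u : G) ((u : G) * g * (u : G)⁻¹) := e
    have e2 : (u : G) * g * (u : G)⁻¹ = g := by
      have : g = (u : G)⁻¹ * ((u : G) * g * (u : G)⁻¹) * u := by group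
      conv_rhs => rw [this, (e1.inv_left).eq, inv_mul_cancel_right]
    rwa [e2] at h'
  · intro u g hg h
    by_contra hu
    refine (Finset.mem_filter.1 hg).2 fun x hx => ?_
    have hgen : Subgroup.zpowers (u : G) = P := by
      refine Subgroup.eq_of_le_of_card_ge (Subgroup.zpowers_le.2 u.2) ?_
      rw [hP, Nat.card_zpowers, Subgroup.orderOf_coe]
      have := orderOf_dvd_natCard u
      rw [hP] at this
      rcases (Nat.dvd_prime hp.out).1 this with h1 | h1
      · exact absurd (orderOf_eq_one_iff.1 h1) hu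
      · exact h1.ge
    have h1 : Commute (u : G) g := mul_inv_eq_iff_eq_mul.1 h
    rw [SetLike.mem_coe, ← hgen, Subgroup.mem_zpowers_iff] at hx
    obtain ⟨j, rfl⟩ := hx
    exact (h1.zpow_left j).eq
  · intro u g _
    show z.coeff ((u : G) * g * (u : G)⁻¹) • ρ ((u : G) * g * (u : G)⁻¹) m = ρ u (z.coeff g • ρ g m)
    rw [hz, map_smul, map_mul, map_mul, Module.End.mul_apply, Module.End.mul_apply,
      hm _ (inv_mem u.2)]

end CfsgLib.Blocks.PrimeSylow
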