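import Cfsg.Agent.Lib.Blocks.PrimeSylow.Values
import Cfsg.Agent.Lib.Blocks.Kernel

/-!
# The principal block with a Sylow subgroup of order `p`
-/

set_option autoImplicit false

open scoped ComplexConjugate

namespace CfsgLib.Blocks.PrimeSylow

open Cfsg CfsgLib.Char

variable {G : Type*} [Group G] [Fintype G] {p : ℕ} [Fact p.Prime] {P V : Subgroup G}

namespace Setup

variable (h : Setup p P V) [Fintype P] [Fintype V]
include h

omit [Fintype G] [Fact p.Prime] [Fintype P] [Fintype V] in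
theorem cjFun_trivChar {n : G} (hn : n ∈ Subgroup.normalizer (P : Set G)) :
    cjFun ((trivChar V : IrrCharacter V) : V → ℂ) n = ((trivChar V : IrrCharacter V) : V → ℂ) := by
  funext v
  rw [h.cjFun_apply _ hn, trivChar_apply, trivChar_apply]

omit [Fact p.Prime] [Fintype P] [Fintype V] in
theorem inertialIndex_trivChar :
    h.inertialIndex ((trivChar V : IrrCharacter V) : V → ℂ) =
      (Subgroup.centralizer (P : Set G)).relIndex (Subgroup.normalizer (P : Set G)) := by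
  rw [inertialIndex]
  congr 1
  ext g
  exact ⟨fun hg => hg.1, fun hg => ⟨hg, h.cjFun_trivChar hg⟩⟩

theorem trivChar_mem_blockSet {M : Ideal AlgInt} [M.IsPrime] (hM : IsPModular p M) :
    trivChar G ∈ blockSet M P ((trivChar V : IrrCharacter V) : V → ℂ) := by
  obtain ⟨x, hx⟩ : ∃ x : P, x ≠ 1 := by
    have : Nontrivial P := Finite.one_lt_card_iff_nontrivial.1 (h.card ▸ h.prime.one_lt)
    exact exists_ne 1
  refine h.mem_blockSet_of_dval hM x.2 (fun e => hx (Subtype.ext e)) _ _ ?_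
  have : (fun v : V => ((trivChar G : IrrCharacter G) : G → ℂ) ((x : G) * v)) =
      ((trivChar V : IrrCharacter V) : V → ℂ) := funext fun v => by
    rw [trivChar_apply, trivChar_apply]
  rw [dval, this, classInner_irr_self]
  exact one_ne_zero

/-- The values in the principal block. -/
theorem exists_principal {M : Ideal AlgInt} [M.IsPrime] (hM : IsPModular p M) {e : ℕ}
    (he : (Subgroup.centralizer (P : Set G)).relIndex (Subgroup.normalizer (P : Set G)) = e) :
    Nat.card (principalBlock M G) = e + (p - 1) / e ∧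
    ∃ X Y : Set (IrrCharacter G), principalBlock M G = X ∪ Y ∧ Disjoint X Y ∧ Nat.card X = e ∧
      Nat.card Y = (p - 1) / e ∧ ∃ (εX : IrrCharacter G → ℤ) (ε : ℤ),
      (∀ χ ∈ X, (εX χ = 1 ∨ εX χ = -1) ∧ (charDegree (χ : G → ℂ) : ℤ) ≡ εX χ [ZMOD p] ∧
        ∀ x : G, x ∈ P → x ≠ 1 → ∀ y : G, y ∈ Subgroup.centralizer (P : Set G) →
          ¬ p ∣ orderOf y → (χ : G → ℂ) (x * y) = (εX χ : ℂ)) ∧
      (ε = 1 ∨ ε = -1) ∧ (∀ θ ∈ Y, (charDegree (θ : G → ℂ) : ℤ) ≡ ε * (e : ℤ) [ZMOD p]) ∧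
      (∀ θ ∈ Y, ∀ θ' ∈ Y, ∀ g : G, ¬ p ∣ orderOf g → (θ : G → ℂ) g = (θ' : G → ℂ) g) ∧
      ∀ θ ∈ Y, ∀ g : G, ¬ p ∣ orderOf g →
        (ε : ℂ) * (θ : G → ℂ) g = ∑ᶠ χ ∈ X, (εX χ : ℂ) * (χ : G → ℂ) g := by
  classical
  have := Fintype.ofFinite (IrrCharacter G)
  have := Fintype.ofFinite (IrrCharacter P)
  have := Fintype.ofFinite (IrrCharacter V)
  have hidx := h.inertialIndex_trivChar.trans he
  have hB := isPBlock_principalBlock (M := M) (G := G)
  have h1 := h.trivChar_mem_blockSet hM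
  have htriv := trivChar_mem_principalBlock (M := M) (G := G)
  obtain ⟨-, Y, ε, w, θ, hε, hYB, -, hYθ, hYcard, hXcard, hBcard, hX, hY, -, hrel⟩ :=
    h.exists_structure hM (trivChar V) hB htriv h1
  have hBeq := blockSet_eq hB htriv h1
  rw [hidx] at hYcard hXcard hBcard
  have horb : orbitV P (trivChar V : IrrCharacter V) = {trivChar V} := by
    ext ζ
    constructor
    · rintro ⟨n, hn, e'⟩
      exact Subtype.ext (e'.trans (h.cjFun_trivChar hn))
    · rintro rfl
      exact h.mem_orbit_self _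
  have hd1 : charDegree ((trivChar V : IrrCharacter V) : V → ℂ) = 1 := by
    have h2 := apply_one_eq_charDegree (trivChar V : IrrCharacter V)
    rw [trivChar_apply] at h2
    exact_mod_cast h2.symm
  have hmod : ∀ χ ∈ principalBlock M G, (charDegree (χ : G → ℂ) : ℤ) ≡
      ∑ l : IrrCharacter P, h.coef (trivChar V) χ l [ZMOD p] := fun χ hχ => by
    have := h.charDegree_modEq hM (hBeq ▸ hχ : χ ∈ blockSet M P _)
    rwa [horb, Nat.card_coe_set_eq, Set.ncard_singleton, hd1, one_mul,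
      Nat.cast_one, one_mul] at this
  refine ⟨hBcard, principalBlock M G \ Y, Y, (Set.sdiff_union_of_subset hYB).symm,
    disjoint_sdiff_self_left, hXcard, hYcard, fun χ => -w χ, ε, ?_, hε, ?_, ?_, ?_⟩
  · intro χ hχ
    obtain ⟨hw, hwc⟩ := hX χ hχ
    refine ⟨?_, (hmod χ hχ.1).trans (h.sum_coef_const _ _ hwc), ?_⟩
    · show -w χ = 1 ∨ -w χ = -1
      omega
    · intro x hx hx1 y hy hyo
      have hyV : y ∈ V := (h.mem_V y).2 ⟨hy, hyo⟩
      rw [h.apply_eq_sum (IsIrr.isClassFunction χ.2) hx ⟨y, hyV⟩,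
        Finset.sum_eq_single (trivChar V), h.dval_of_const _ _ hwc hx hx1, trivChar_apply]
      · simp
      · intro η' _ hne
        rw [h.dval_eq_zero_of_not_orbit hM (hBeq ▸ hχ.1 : χ ∈ blockSet M P _)
          (fun hm => hne (by rw [horb] at hm; exact hm)) hx hx1, zero_mul]
      · exact fun hi => absurd (Finset.mem_univ _) hi
  · intro χ hχ
    obtain ⟨μ, hμ, rfl⟩ := hYθ χ hχ
    have := hmod _ (hYB hχ)
    rwa [h.sum_coef_rel _ _ hμ (fun l hl => (hY l μ hl hμ).2.1) (fun l hl => (hY l μ hl hμ).2.2),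
      hidx] at this
  · intro χ hχ χ' hχ' g hg
    obtain ⟨μ, hμ, rfl⟩ := hYθ χ hχ
    obtain ⟨μ', hμ', rfl⟩ := hYθ χ' hχ'
    have e1 := hrel μ hμ g hg
    have e2 := hrel μ' hμ' g hg
    have hε0 : (ε : ℂ) ≠ 0 := by rcases hε with rfl | rfl <;> simp
    exact mul_left_cancel₀ hε0 (add_right_cancel (e1.trans e2.symm))
  · intro χ hχ g hg
    obtain ⟨μ, hμ, rfl⟩ := hYθ χ hχ
    rw [eq_neg_of_add_eq_zero_left (hrel μ hμ g hg)]
    simp only [Int.cast_neg, neg_mul, finsum_mem_eq_finite_toFinset_sum _ (Set.toFinite _),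
      Finset.sum_neg_distrib]

end Setup

end CfsgLib.Blocks.PrimeSylow
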