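import Cfsg.Agent.Lib.Blocks.PrimeSylow.Values
import Cfsg.Agent.Lib.CharDegree.SectionAction

/-!
# Counting characters of degree prime to `p`

Both the group and the normalizer of the Sylow subgroup give the same count, orbit by orbit.
-/

set_option autoImplicit false

open scoped ComplexConjugate

namespace CfsgLib.Blocks.PrimeSylow

open Cfsg CfsgLib.Char

variable {G : Type*} [Group G] [Fintype G] {p : ℕ} [Fact p.Prime] {P V : Subgroup G}

namespace Setup

variable (h : Setup p P V)
include h

omit [Fact p.Prime] in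
theorem indChar_cjFun (η : V → ℂ) {n : G}
    (hn : n ∈ Subgroup.normalizer (P : Set G)) (g : G) :
    indChar P (cjFun η n) g = indChar P η g := by
  classical
  have h1 : cjFun η n 1 = η 1 := by
    rw [h.cjFun_apply _ hn]; exact congrArg η (Subtype.ext (by simp))
  unfold indChar
  refine Finset.sum_bij'
    (fun x _ => (⟨n * x * n⁻¹, (Subgroup.mem_normalizer_iff.1 hn x).1 x.2⟩ : P))
    (fun x _ => (⟨n⁻¹ * x * n, (Subgroup.mem_normalizer_iff''.1 hn x).1 x.2⟩ : P))
    (fun _ _ => Finset.mem_univ _) (fun _ _ => Finset.mem_univ _)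
    (fun x _ => by ext; simp [mul_assoc]) (fun x _ => by ext; simp [mul_assoc]) fun x _ => ?_
  refine Fintype.sum_equiv (h.conjV hn).toEquiv _ _ fun v => ?_
  refine if_congr ?_ (by rw [h1, h.cjFun_eq_comp _ hn]; rfl) rfl
  show IsConj g ((x : G) * v) ↔ IsConj g (n * x * n⁻¹ * (n * v * n⁻¹))
  have hc : IsConj ((x : G) * v) (n * x * n⁻¹ * (n * v * n⁻¹)) := isConj_iff.2 ⟨n, by group⟩
  exact ⟨fun e => e.trans hc, fun e => e.trans hc.symm⟩

omit [Fact p.Prime] in
theorem blockSet_eq_of_mem_orbit {M : Ideal AlgInt} {η ζ : IrrCharacter V}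
    (hζ : ζ ∈ orbitV P η) : blockSet M P (ζ : V → ℂ) = blockSet M P (η : V → ℂ) := by
  obtain ⟨n, hn, e⟩ := hζ
  ext χ
  refine forall_congr' fun g => ?_
  rw [e, h.indChar_cjFun _ hn]

/-- The count of the characters of degree prime to `p`. -/
theorem mul_card_pPrime [Fintype P] [Fintype V] [Fintype (IrrCharacter V)] {M : Ideal AlgInt}
    [M.IsPrime] (hM : IsPModular p M) :
    (Subgroup.centralizer (P : Set G)).relIndex (Subgroup.normalizer (P : Set G)) *
        Nat.card {χ : IrrCharacter G // ¬ p ∣ charDegree (χ : G → ℂ)} =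
      ∑ η : IrrCharacter V, h.inertialIndex (η : V → ℂ) *
        (h.inertialIndex (η : V → ℂ) + (p - 1) / h.inertialIndex (η : V → ℂ)) := by
  classical
  have := Fintype.ofFinite (IrrCharacter G)
  have hblk : ∀ η : IrrCharacter V,
      (Finset.univ.filter fun χ => χ ∈ blockSet M P (η : V → ℂ)).card =
        h.inertialIndex (η : V → ℂ) + (p - 1) / h.inertialIndex (η : V → ℂ) := by
    intro η
    obtain ⟨χ, hχ⟩ := h.exists_blockSet hM η
    obtain ⟨-, Y, ε, w, θ, -, -, -, -, -, -, hBcard, -⟩ :=
      h.exists_structure hM η (isPBlock_blockOf χ) (mem_blockOf_self χ) hχ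
    rw [blockSet_eq (isPBlock_blockOf χ) (mem_blockOf_self χ) hχ, Nat.card_coe_set_eq] at hBcard
    rw [← hBcard, Set.ncard_eq_toFinset_card']
    exact congrArg Finset.card (by ext; simp)
  calc _ = ∑ χ : IrrCharacter G, if ¬ p ∣ charDegree (χ : G → ℂ) then
        (Subgroup.centralizer (P : Set G)).relIndex (Subgroup.normalizer (P : Set G)) else 0 := by
        rw [← Finset.sum_filter, Finset.sum_const, smul_eq_mul, mul_comm,
          Nat.card_eq_fintype_card, Fintype.card_subtype]
    _ = ∑ χ : IrrCharacter G, ∑ η : IrrCharacter V,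
        if χ ∈ blockSet M P (η : V → ℂ) then h.inertialIndex (η : V → ℂ) else 0 := by
        refine Finset.sum_congr rfl fun χ _ => ?_
        by_cases hd : p ∣ charDegree (χ : G → ℂ)
        · rw [if_neg (not_not.2 hd)]
          exact (Finset.sum_eq_zero fun η _ => if_neg fun hη => h.not_dvd_of_mem hM hη hd).symm
        · rw [if_pos hd]
          obtain ⟨η₀, hη₀⟩ := h.exists_mem_blockSet hM hd
          rw [← Finset.sum_filter]
          have hset : (Finset.univ.filter fun η => χ ∈ blockSet M P ((η : IrrCharacter V) : V → ℂ)) =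
              Finset.univ.filter (· ∈ orbitV P η₀) := by
            ext η
            simp only [Finset.mem_filter, Finset.mem_univ, true_and]
            exact ⟨fun hη => h.exists_conj_of_mem hM hη₀ hη,
              fun hη => h.blockSet_eq_of_mem_orbit hη ▸ hη₀⟩
          rw [hset, Finset.sum_congr rfl fun η hη => h.inertialIndex_eq_of_mem
            (Finset.mem_filter.1 hη).2, Finset.sum_const, smul_eq_mul, ← h.card_orbit_mul η₀,
            Nat.card_eq_fintype_card, ← Set.toFinset_card]
          congr 2
          ext; simp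
    _ = _ := by
        rw [Finset.sum_comm]
        refine Finset.sum_congr rfl fun η _ => ?_
        rw [← Finset.sum_filter, Finset.sum_const, smul_eq_mul, mul_comm, hblk η]

omit [Fintype G] [Fact p.Prime] in
theorem V_le_normalizer : V ≤ Subgroup.normalizer (P : Set G) := fun v hv =>
  Subgroup.mem_normalizer_iff.2 fun y => by
    constructor
    · intro hy
      rwa [← Subgroup.mem_centralizer_iff.1 (h.V_le hv) y hy, mul_inv_cancel_right]
    · intro hy
      have e := Subgroup.mem_centralizer_iff.1 (h.V_le hv) _ hy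
      have : y = v * y * v⁻¹ := by
        have e' : v⁻¹ * (v * y * v⁻¹ * v) = v⁻¹ * (v * (v * y * v⁻¹)) := by rw [e]
        simpa [mul_assoc] using e'
      rwa [this]

omit [Fintype G] [Fact p.Prime] in
theorem centralizer_subgroupOf :
    Subgroup.centralizer ((P.subgroupOf (Subgroup.normalizer (P : Set G))) :
        Set (Subgroup.normalizer (P : Set G))) =
      (Subgroup.centralizer (P : Set G)).subgroupOf (Subgroup.normalizer (P : Set G)) := by
  ext g
  rw [Subgroup.mem_subgroupOf, Subgroup.mem_centralizer_iff, Subgroup.mem_centralizer_iff]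
  constructor
  · intro hg y hy
    exact congrArg Subtype.val (hg ⟨y, Subgroup.le_normalizer hy⟩ hy)
  · intro hg y hy
    exact Subtype.ext (hg y hy)

omit [Fintype G] [Fact p.Prime] in
/-- The setup inside the normalizer. -/
theorem setup_normalizer :
    Setup p (P.subgroupOf (Subgroup.normalizer (P : Set G)))
      (V.subgroupOf (Subgroup.normalizer (P : Set G))) := by
  refine ⟨h.prime, ?_, ?_, fun v => ?_⟩
  · rw [Nat.card_congr (Subgroup.subgroupOfEquivOfLe P.le_normalizer).toEquiv, h.card]
  · exact fun hd => h.not_dvd (hd.trans (Subgroup.relIndex_dvd_index_of_le P.le_normalizer))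
  · rw [Subgroup.mem_subgroupOf, h.mem_V, h.centralizer_subgroupOf, Subgroup.mem_subgroupOf,
      Subgroup.orderOf_coe]

/-- The number of characters of degree prime to `p` is the class number of the normalizer. -/
theorem card_pPrime {M : Ideal AlgInt} [M.IsPrime] (hM : IsPModular p M) :
    Nat.card {χ : IrrCharacter G // ¬ p ∣ charDegree (χ : G → ℂ)} =
      Nat.card (ConjClasses (Subgroup.normalizer (P : Set G))) := by
  classical
  set N := Subgroup.normalizer (P : Set G) with hN
  have := Fintype.ofFinite P
  have := Fintype.ofFinite V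
  have := Fintype.ofFinite (IrrCharacter V)
  have := Fintype.ofFinite N
  have := Fintype.ofFinite (P.subgroupOf N)
  have := Fintype.ofFinite (V.subgroupOf N)
  have := Fintype.ofFinite (IrrCharacter (V.subgroupOf N))
  have hN' : Setup p (P.subgroupOf N) (V.subgroupOf N) := h.setup_normalizer
  have hnormal : (P.subgroupOf N).Normal := Subgroup.normal_subgroupOf_iff_le_normalizer
    P.le_normalizer |>.2 le_rfl
  have htop : Subgroup.normalizer ((P.subgroupOf N) : Set N) = ⊤ :=
    Subgroup.normalizer_eq_top_iff.2 hnormal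
  have hall : ∀ χ : IrrCharacter N, ¬ p ∣ charDegree (χ : N → ℂ) := fun χ hd =>
    hN'.not_dvd (hd.trans (CfsgLib.TwoDegrees.degree_dvd_index χ _ fun a ha b hb =>
      Subtype.ext (Subgroup.mem_centralizer_iff.1 (h.le_centralizer hb) a ha)))
  have hkN : Nat.card {χ : IrrCharacter N // ¬ p ∣ charDegree (χ : N → ℂ)} =
      Nat.card (ConjClasses N) := by
    rw [← card_irrCharacter]
    exact Nat.card_congr (Equiv.subtypeUnivEquiv hall)
  have hf : (Subgroup.centralizer ((P.subgroupOf N) : Set N)).relIndex
      (Subgroup.normalizer ((P.subgroupOf N) : Set N)) =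
      (Subgroup.centralizer (P : Set G)).relIndex N := by
    rw [htop, h.centralizer_subgroupOf, Subgroup.relIndex_top_right, Subgroup.relIndex]
  have hVN : V ≤ N := h.V_le_normalizer
  set ι := Subgroup.subgroupOfEquivOfLe hVN
  let Φ : IrrCharacter V ≃ IrrCharacter (V.subgroupOf N) :=
    { toFun := fun η => ⟨fun v => (η : V → ℂ) (ι v),
        IsIrr.comp_surjective ι.toMonoidHom ι.surjective η.2⟩
      invFun := fun η => ⟨fun v => (η : V.subgroupOf N → ℂ) (ι.symm v),
        IsIrr.comp_surjective ι.symm.toMonoidHom ι.symm.surjective η.2⟩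
      left_inv := fun η => irr_ext fun v => congrArg _ (ι.apply_symm_apply v)
      right_inv := fun η => irr_ext fun v => congrArg _ (ι.symm_apply_apply v) }
  have hidx : ∀ η : IrrCharacter V, hN'.inertialIndex (Φ η : V.subgroupOf N → ℂ) =
      h.inertialIndex (η : V → ℂ) := by
    intro η
    have hT : hN'.inertiaT (Φ η : V.subgroupOf N → ℂ) =
        (h.inertiaT (η : V → ℂ)).subgroupOf N := by
      ext g
      have hg : g ∈ Subgroup.normalizer ((P.subgroupOf N) : Set N) := htop ▸ Subgroup.mem_top g
      rw [hN'.mem_inertiaT, Subgroup.mem_subgroupOf, h.mem_inertiaT,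
        and_iff_right hg, and_iff_right g.2]
      have key : ∀ v, cjFun (Φ η : V.subgroupOf N → ℂ) g v = cjFun (η : V → ℂ) (g : G) (ι v) :=
        fun v => by
          rw [hN'.cjFun_apply _ hg, h.cjFun_apply _ g.2]
          show (η : V → ℂ) (ι _) = _
          exact congrArg _ (Subtype.ext rfl)
      constructor
      · intro e
        funext w
        obtain ⟨v, rfl⟩ := ι.surjective w
        rw [← key, e]
        rfl
      · intro e
        funext v
        rw [key, e]
        rfl
    rw [inertialIndex, inertialIndex, hT, h.centralizer_subgroupOf,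
      Subgroup.relIndex_subgroupOf fun g hg => (h.mem_inertiaT.1 hg).1]
  have e1 := h.mul_card_pPrime hM
  have e2 := hN'.mul_card_pPrime hM
  rw [hf, hkN, ← Equiv.sum_comp Φ] at e2
  simp only [hidx] at e2
  rw [← e2] at e1
  exact Nat.eq_of_mul_eq_mul_left (Nat.pos_of_ne_zero Subgroup.index_ne_zero_of_finite) e1

end Setup

end CfsgLib.Blocks.PrimeSylow
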