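import Cfsg.Agent.Lib.Blocks.PrimeSylow.Local
import Cfsg.Agent.Lib.Blocks.Principal
import Cfsg.Agent.Lib.Blocks.RegularValues
import Cfsg.Agent.Lib.Blocks.MajorSubsection
import Cfsg.Agent.Lib.Blocks.Union

/-!
# The block attached to a character of `V`

A nonzero local multiplicity of `η` puts `χ` in the block with central character induced from `η`.
-/

set_option autoImplicit false

open scoped ComplexConjugate

namespace CfsgLib.Blocks.PrimeSylow

open Cfsg CfsgLib.Char

section Residue

variable {M : Ideal AlgInt} [M.IsPrime]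

theorem memLocalIdeal_iff_rv {z : ℂ} : MemLocalIdeal M z ↔ z ∈ localRing M ∧ rv M z = 0 := by
  constructor
  · intro hz
    have hm := memLocalRing_of_memLocalIdeal hz
    exact ⟨hm, (rv_coe ⟨z, hm⟩).trans (residue_eq_zero_iff.2 hz)⟩
  · rintro ⟨hm, hr⟩
    rw [show z = ((⟨z, hm⟩ : localRing M) : ℂ) from rfl, rv_coe] at hr
    exact residue_eq_zero_iff.1 hr

theorem rv_add {a b : ℂ} (ha : a ∈ localRing M) (hb : b ∈ localRing M) :
    rv M (a + b) = rv M a + rv M b := by
  rw [show a + b = ((⟨a, ha⟩ + ⟨b, hb⟩ : localRing M) : ℂ) from rfl, rv_coe, map_add, ← rv_coe,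
    ← rv_coe]

theorem rv_neg {a : ℂ} (ha : a ∈ localRing M) : rv M (-a) = -rv M a := by
  rw [show -a = ((-⟨a, ha⟩ : localRing M) : ℂ) from rfl, rv_coe, map_neg, ← rv_coe]

theorem rv_sub {a b : ℂ} (ha : a ∈ localRing M) (hb : b ∈ localRing M) :
    rv M (a - b) = rv M a - rv M b := by
  rw [show a - b = ((⟨a, ha⟩ - ⟨b, hb⟩ : localRing M) : ℂ) from rfl, rv_coe, map_sub, ← rv_coe,
    ← rv_coe]

theorem rv_zero : rv M (0 : ℂ) = 0 := by simpa using rv_natCast (M := M) 0

theorem rv_one : rv M (1 : ℂ) = 1 := by simpa using rv_natCast (M := M) 1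

theorem memLocalIdeal_sub_iff {a b : ℂ} (hb : b ∈ localRing M) :
    MemLocalIdeal M (a - b) ↔ a ∈ localRing M ∧ rv M a = rv M b := by
  rw [memLocalIdeal_iff_rv]
  constructor
  · rintro ⟨hm, hr⟩
    have ha : a ∈ localRing M := by simpa using add_mem hm hb
    refine ⟨ha, ?_⟩
    rwa [rv_sub ha hb, sub_eq_zero] at hr
  · rintro ⟨ha, hr⟩
    exact ⟨sub_mem ha hb, by rw [rv_sub ha hb, hr, sub_self]⟩

theorem rv_root_unity {p : ℕ} (hM : IsPModular p M) {z : ℂ} {k : ℕ} (hz : z ^ p ^ k = 1) :
    rv M z = 1 := by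
  have hm := mem_localRing_of_pow_eq_one (M := M) (pow_ne_zero k hM.1.ne_zero) hz
  rw [show z = ((⟨z, hm⟩ : localRing M) : ℂ) from rfl, rv_coe]
  exact residue_eq_one_of_pow_prime_pow hM (k := k) (Subtype.ext (by simpa using hz))

theorem centralChar_mem {G : Type*} [Group G] [Fintype G] (χ : IrrCharacter G) (g : G) :
    centralChar (χ : G → ℂ) g ∈ localRing M :=
  mem_localRing_of_isIntegral (isIntegral_centralChar χ g)

end Residue

variable {G : Type*} [Group G] [Fintype G] {p : ℕ} {P V : Subgroup G}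

open scoped Classical in
/-- The central character on `G` induced from `η`. -/
noncomputable def indChar (P : Subgroup G) {V : Subgroup G} (η : V → ℂ) (g : G) : ℂ :=
  ∑ x : P, ∑ v : V, if IsConj g ((x : G) * v) then η v / η 1 else 0

/-- The characters whose central character is induced from `η`. -/
def blockSet (M : Ideal AlgInt) (P : Subgroup G) {V : Subgroup G} (η : V → ℂ) :
    Set (IrrCharacter G) :=
  {χ | ∀ g, MemLocalIdeal M (indChar P η g - centralChar (χ : G → ℂ) g)}

variable {M : Ideal AlgInt} [M.IsPrime]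

theorem sameBlock_of_mem {η : V → ℂ} {χ ψ : IrrCharacter G} (hχ : χ ∈ blockSet M P η)
    (hψ : ψ ∈ blockSet M P η) : SameBlock M (χ : G → ℂ) (ψ : G → ℂ) := fun g => by
  have h1 := (memLocalIdeal_sub_iff (centralChar_mem χ g)).1 (hχ g)
  have h2 := (memLocalIdeal_sub_iff (centralChar_mem ψ g)).1 (hψ g)
  exact (memLocalIdeal_sub_iff (centralChar_mem ψ g)).2
    ⟨centralChar_mem χ g, h1.2.symm.trans h2.2⟩

theorem blockSet_eq {η : V → ℂ} {B : Set (IrrCharacter G)} (hB : IsPBlock M B) {χ : IrrCharacter G}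
    (hχB : χ ∈ B) (hχ : χ ∈ blockSet M P η) : B = blockSet M P η := by
  rw [IsPBlock.eq_blockOf hB hχB]
  ext ψ
  refine ⟨fun hψ g => ?_, fun hψ => sameBlock_of_mem hχ hψ⟩
  have h1 := (memLocalIdeal_sub_iff (centralChar_mem χ g)).1 (hχ g)
  have h2 := (memLocalIdeal_sub_iff (centralChar_mem ψ g)).1 (hψ g)
  exact (memLocalIdeal_sub_iff (centralChar_mem ψ g)).2 ⟨h1.1, h1.2.trans h2.2⟩

namespace Setup

variable (h : Setup p P V)
include h

/-- The elements `x v` exhaust the centralizer. -/
noncomputable def mulEquiv' {x : G} (hx : x ∈ P) (hx1 : x ≠ 1) :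
    P × V ≃ Subgroup.centralizer ({x} : Set G) :=
  Equiv.ofBijective (fun q => ⟨(q.1 : G) * q.2, by
    rw [h.centralizer_singleton hx hx1]
    exact mul_mem (h.le_centralizer q.1.2) (h.V_le q.2.2)⟩)
    ⟨fun a b e => by
      obtain ⟨e1, e2⟩ := h.mul_inj a.1.2 b.1.2 a.2.2 b.2.2 (congrArg Subtype.val e)
      exact Prod.ext (Subtype.ext e1) (Subtype.ext e2),
    fun c => by
      obtain ⟨y, hy, v, hv, e⟩ := h.exists_mul
        (show (c : G) ∈ Subgroup.centralizer (P : Set G) from h.centralizer_singleton hx hx1 ▸ c.2)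
      exact ⟨(⟨y, hy⟩, ⟨v, hv⟩), Subtype.ext e⟩⟩

theorem coe_mulEquiv' {x : G} (hx : x ∈ P) (hx1 : x ≠ 1) (q : P × V) :
    ((h.mulEquiv' hx hx1 q : Subgroup.centralizer ({x} : Set G)) : G) = (q.1 : G) * q.2 := rfl

/-- A character of `C(x)` is `ω ⊗ ξ|V`. -/
theorem exists_omega {x : G} (hx : x ∈ P) (hx1 : x ≠ 1)
    (ξ : IrrCharacter (Subgroup.centralizer ({x} : Set G))) :
    ∃ ω : P → ℂ, (∀ y, ω y ^ p = 1) ∧ ∀ (y : P) (v : V),
      (ξ : Subgroup.centralizer ({x} : Set G) → ℂ) (h.mulEquiv' hx hx1 (y, v)) =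
        ω y * (ξ : Subgroup.centralizer ({x} : Set G) → ℂ) (h.mulEquiv' hx hx1 (1, v)) := by
  have : Fintype (Subgroup.centralizer ({x} : Set G)) := Fintype.ofFinite _
  set E := h.mulEquiv' hx hx1
  set f := (ξ : Subgroup.centralizer ({x} : Set G) → ℂ)
  have hmul : ∀ (y z : P) (v : V), E (y * z, v) = E (y, 1) * E (z, v) := fun y z v =>
    Subtype.ext (by simp [E, coe_mulEquiv', mul_assoc])
  have hcen : ∀ y : P, ∀ c : Subgroup.centralizer ({x} : Set G), c * E (y, 1) = E (y, 1) * c :=
    fun y c => Subtype.ext (by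
      simp only [Subgroup.coe_mul, E, coe_mulEquiv', OneMemClass.coe_one, mul_one]
      exact (Subgroup.mem_centralizer_iff.1 (h.centralizer_singleton hx hx1 ▸ c.2 :
        (c : G) ∈ Subgroup.centralizer (P : Set G)) y y.2).symm)
  have h1 : f 1 ≠ 0 := Char.IsIrr.apply_one_ne_zero ξ.2
  have hω : ∀ (y : P) (w : Subgroup.centralizer ({x} : Set G)),
      f (E (y, 1) * w) = f (E (y, 1)) / f 1 * f w := by
    intro y w
    rw [div_mul_eq_mul_div, eq_div_iff h1]
    exact apply_central_mul ξ (hcen y) w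
  refine ⟨fun y => f (E (y, 1)) / f 1, fun y => ?_, fun y v => ?_⟩
  · have hpow : ∀ n : ℕ, f (E (y ^ n, 1)) / f 1 = (f (E (y, 1)) / f 1) ^ n := by
      intro n
      induction n with
      | zero =>
        rw [pow_zero, pow_zero, show E (1, 1) = 1 from Subtype.ext (by simp [E, coe_mulEquiv']),
          div_self h1]
      | succ n ih =>
        rw [pow_succ', hmul, hω, mul_div_assoc, ih, pow_succ']
    have hy : y ^ p = 1 := Subtype.ext (h.pow_eq_one y.2)
    rw [← hpow, hy, show E (1, 1) = 1 from Subtype.ext (by simp [E, coe_mulEquiv']), div_self h1]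
  · conv_lhs => rw [← mul_one y, hmul, hω]

/-- The multiplicity of an irreducible constituent. -/
theorem restrict_eq [Fintype V] {x : G} (hx : x ∈ P) (hx1 : x ≠ 1)
    (ξ : IrrCharacter (Subgroup.centralizer ({x} : Set G))) (η : IrrCharacter V)
    (hne : classInner (fun v : V =>
      (ξ : Subgroup.centralizer ({x} : Set G) → ℂ) (h.mulEquiv' hx hx1 (1, v))) (η : V → ℂ) ≠ 0) :
    ∀ v : V, (ξ : Subgroup.centralizer ({x} : Set G) → ℂ) (h.mulEquiv' hx hx1 (1, v)) =
      (η : V → ℂ) v := by
  classical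
  have : Fintype (Subgroup.centralizer ({x} : Set G)) := Fintype.ofFinite _
  obtain ⟨ω, hω, hξ⟩ := h.exists_omega hx hx1 ξ
  set E := h.mulEquiv' hx hx1
  set r : V → ℂ := fun v => (ξ : Subgroup.centralizer ({x} : Set G) → ℂ) (E (1, v))
  let ι : V →* Subgroup.centralizer ({x} : Set G) :=
    { toFun := fun v => E (1, v)
      map_one' := Subtype.ext (by simp [E, coe_mulEquiv'])
      map_mul' := fun a b => Subtype.ext (by simp [E, coe_mulEquiv']) }
  have hr : IsCharacter V r := Char.IsChar.comp ι (Char.IsIrr.isCharacter ξ.2)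
  have hnorm : classInner r r = 1 := by
    have hself := classInner_irr_self ξ
    rw [classInner, ← Equiv.sum_comp E, Fintype.sum_prod_type] at hself
    have hcard : (Nat.card (Subgroup.centralizer ({x} : Set G)) : ℂ) =
        (Nat.card P : ℂ) * (Nat.card V : ℂ) := by
      rw [← Nat.card_congr E, Nat.card_prod, Nat.cast_mul]
    have hone : ∀ y : P, ω y * conj (ω y) = 1 := fun y => by
      rw [Complex.mul_conj']
      norm_num [Complex.norm_eq_one_of_pow_eq_one (hω y) h.prime.ne_zero]
    have hre : ∀ (y : P) (v : V), ω y * r v * (conj (ω y) * conj (r v)) = r v * conj (r v) :=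
      fun y v => by linear_combination (r v * conj (r v)) * hone y
    rw [Finset.sum_congr rfl fun y _ => Finset.sum_congr rfl fun v _ =>
      (show _ * conj _ = r v * conj (r v) by rw [hξ y v, map_mul]; exact hre y v)] at hself
    simp only [Finset.sum_const, Finset.card_univ, nsmul_eq_mul, hcard,
      ← Nat.card_eq_fintype_card] at hself
    rw [classInner]
    have hP0 : (Nat.card P : ℂ) ≠ 0 := by rw [h.card]; exact_mod_cast h.prime.ne_zero
    rw [← hself]
    field_simp
  have hri := (Char.IsChar.isIrr_of_classInner_eq_one hr hnorm)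
  intro v
  by_contra hv
  exact hne (classInner_irr_of_ne (χ := ⟨r, hri⟩) fun e => hv (congrFun (congrArg Subtype.val e) v))

/-- A nonzero local multiplicity puts `χ` in the block of `η`. -/
theorem mem_blockSet_of_dval [Fact p.Prime] [Fintype V] (hM : IsPModular p M) {x : G} (hx : x ∈ P)
    (hx1 : x ≠ 1) (χ : IrrCharacter G) (η : IrrCharacter V)
    (hne : dval (χ : G → ℂ) x (η : V → ℂ) ≠ 0) : χ ∈ blockSet M P (η : V → ℂ) := by
  classical
  have : Fintype (Subgroup.centralizer ({x} : Set G)) := Fintype.ofFinite _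
  have := Fintype.ofFinite
    {b : Set (IrrCharacter (Subgroup.centralizer ({x} : Set G))) // IsPBlock M b}
  set E := h.mulEquiv' hx hx1
  set θ : Subgroup.centralizer ({x} : Set G) → ℂ := fun c => (χ : G → ℂ) (x * c) with hθ
  have hθc := Blocks.isClassFunction_translate (x := x) χ
  have hx' : ∃ k : ℕ, orderOf x = p ^ k := ⟨1, by rw [h.orderOf_eq hx hx1, pow_one]⟩
  have hd : dval (χ : G → ℂ) x (η : V → ℂ) = ∑ b : {b : Set (IrrCharacter
      (Subgroup.centralizer ({x} : Set G))) // IsPBlock M b},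
      classInner (fun v : V => blockPart b.1 θ (E (1, v))) (η : V → ℂ) := by
    have hfun : (fun v : V => (χ : G → ℂ) (x * v)) = ∑ b : {b : Set (IrrCharacter
        (Subgroup.centralizer ({x} : Set G))) // IsPBlock M b},
        fun v : V => blockPart b.1 θ (E (1, v)) := by
      funext v
      rw [Finset.sum_apply, sum_blockPart hθc]
      simp [hθ, E, coe_mulEquiv']
    rw [dval, hfun, classInner_sum_left]
  rw [hd] at hne
  obtain ⟨b, -, hb⟩ := Finset.exists_ne_zero_of_sum_ne_zero hne
  have hind : IsInducedBlock M (Subgroup.centralizer ({x} : Set G)) b.1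
      (blockOf M (χ : G → ℂ)) := by
    by_contra hnot
    refine hb ?_
    have : (fun v : V => blockPart b.1 θ (E (1, v))) = (0 : V → ℂ) := funext fun v =>
      blockPart_eq_zero_of_not_induced hM hx' (isPBlock_blockOf χ) (mem_blockOf_self χ) b.2 hnot
        (by
          rw [← Subgroup.orderOf_coe, coe_mulEquiv', OneMemClass.coe_one, one_mul]
          exact h.not_dvd_orderOf v.2)
    rw [this]
    exact classInner_zero_left (G := V) _
  obtain ⟨ξ, hξb, hξ⟩ : ∃ ξ ∈ b.1, classInner
      (fun v : V => (ξ : Subgroup.centralizer ({x} : Set G) → ℂ) (E (1, v))) (η : V → ℂ) ≠ 0 := by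
    by_contra hcon
    push Not at hcon
    refine hb ?_
    have : (fun v : V => blockPart b.1 θ (E (1, v))) = ∑ ξ ∈ (Set.toFinite b.1).toFinset,
        classInner θ (ξ : Subgroup.centralizer ({x} : Set G) → ℂ) •
          fun v : V => (ξ : Subgroup.centralizer ({x} : Set G) → ℂ) (E (1, v)) := by
      funext v
      rw [blockPart_eq, finsum_mem_eq_finite_toFinset_sum _ (Set.toFinite b.1), Finset.sum_apply]
      rfl
    rw [this, classInner_sum_left]
    refine Finset.sum_eq_zero fun ξ hξ => ?_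
    rw [classInner_smul_left, hcon ξ ((Set.Finite.mem_toFinset _).1 hξ), mul_zero]
  have hres := h.restrict_eq hx hx1 ξ η hξ
  obtain ⟨ω, hω, hξω⟩ := h.exists_omega hx hx1 ξ
  intro g
  have h1 := (memLocalIdeal_sub_iff (centralChar_mem χ g)).1
    (hind.2.2 ξ hξb χ (mem_blockOf_self χ) g)
  have hind' : inducedCentralChar (Subgroup.centralizer ({x} : Set G))
      (ξ : Subgroup.centralizer ({x} : Set G) → ℂ) g =
      ∑ y : P, ∑ v : V, if IsConj g ((y : G) * v) then
        ω y * ((η : V → ℂ) v / (η : V → ℂ) 1) else 0 := by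
    rw [inducedCentralChar, finsum_mem_eq_finite_toFinset_sum _ (Set.toFinite _)]
    rw [show (Set.toFinite {c : Subgroup.centralizer ({x} : Set G) | IsConj g (c : G)}).toFinset =
      Finset.univ.filter (fun c : Subgroup.centralizer ({x} : Set G) => IsConj g (c : G)) by ext; simp, Finset.sum_filter,
      ← Equiv.sum_comp E, Fintype.sum_prod_type]
    refine Finset.sum_congr rfl fun y _ => Finset.sum_congr rfl fun v _ => ?_
    rw [coe_mulEquiv']
    refine if_congr Iff.rfl ?_ rfl
    rw [hξω y v, hres v, mul_div_assoc]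
    congr 2
    rw [show (1 : Subgroup.centralizer ({x} : Set G)) = E (1, 1) from
      Subtype.ext (by simp [E, coe_mulEquiv']), hres 1]
  have hη1 : ∀ v, (η : V → ℂ) v / (η : V → ℂ) 1 ∈ localRing M := by
    intro v
    rw [div_eq_mul_inv, apply_one_eq_charDegree η]
    refine mul_mem (mem_localRing_of_isIntegral (Char.IsChar.isIntegral (Char.IsIrr.isCharacter η.2) v))
      (inv_natCast_mem hM fun hd => ?_)
    have hcV : ¬ p ∣ Nat.card V := fun hd' => by
      obtain ⟨w, hw⟩ := exists_prime_orderOf_dvd_card' p hd'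
      exact h.not_dvd_orderOf w.2 (by rw [Subgroup.orderOf_coe, hw])
    exact hcV (hd.trans (Blocks.charDegree_dvd_card η))
  have hωm : ∀ y, ω y ∈ localRing M := fun y => mem_localRing_of_pow_eq_one h.prime.ne_zero (hω y)
  have hJ : indChar P (η : V → ℂ) g ∈ localRing M := by
    unfold indChar
    refine sum_mem fun y _ => sum_mem fun v _ => ?_
    split_ifs
    · exact hη1 v
    · exact zero_mem _
  refine (memLocalIdeal_sub_iff (centralChar_mem χ g)).2 ⟨hJ, ?_⟩
  rw [← h1.2, hind', indChar,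
    rv_sum _ _ (fun y _ => sum_mem fun v _ => by split_ifs <;> [exact hη1 v; exact zero_mem _]),
    rv_sum _ _ (fun y _ => sum_mem fun v _ => by
      split_ifs <;> [exact mul_mem (hωm y) (hη1 v); exact zero_mem _])]
  refine Finset.sum_congr (by ext; simp) fun y _ => ?_
  rw [rv_sum _ _ (fun v _ => by split_ifs <;> [exact hη1 v; exact zero_mem _]),
    rv_sum _ _ (fun v _ => by split_ifs <;> [exact mul_mem (hωm y) (hη1 v); exact zero_mem _])]
  refine Finset.sum_congr (by ext; simp) fun v _ => ?_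
  split_ifs
  · rw [rv_mul (hωm y) (hη1 v), rv_root_unity hM (z := ω y) (k := 1) (by rw [pow_one]; exact hω y), one_mul]
  · rfl

end Setup

end CfsgLib.Blocks.PrimeSylow
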