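import Cfsg.Agent.Lib.Blocks.PrimeSylow.Orbit
import Cfsg.Prelude.Def_BlockRank

/-!
# The integral coefficients of the local multiplicities

`coef h η χ` is the vector of Fourier coefficients of `x ↦ dval χ x η`, normalized at the trivial
character of `P`; its Gram matrix is `δ + e` on inertial orbits.
-/

set_option autoImplicit false

open scoped ComplexConjugate

namespace CfsgLib.Blocks.PrimeSylow

open Cfsg CfsgLib.Char

variable {G : Type*} [Group G] [Fintype G] {p : ℕ} [Fact p.Prime] {P V : Subgroup G}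

namespace Setup

variable (h : Setup p P V)
include h

/-- The inertial group of `η` in the normalizer. -/
noncomputable def inertiaT (η : V → ℂ) : Subgroup G where
  carrier := {g | g ∈ Subgroup.normalizer (P : Set G) ∧ cjFun η g = η}
  one_mem' := ⟨one_mem _, h.cjFun_one η⟩
  mul_mem' := fun ha hb => ⟨mul_mem ha.1 hb.1, by rw [← h.cjFun_mul _ ha.1 hb.1, ha.2, hb.2]⟩
  inv_mem' := fun {a} ha => ⟨inv_mem ha.1, by
    conv_lhs => rw [← ha.2]
    rw [h.cjFun_mul _ ha.1 (inv_mem ha.1), mul_inv_cancel, h.cjFun_one]⟩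

omit [Fintype G] [Fact p.Prime] in
theorem mem_inertiaT {η : V → ℂ} {g : G} :
    g ∈ h.inertiaT η ↔ g ∈ Subgroup.normalizer (P : Set G) ∧ cjFun η g = η := Iff.rfl

omit [Fact p.Prime] in
theorem centralizer_le_inertiaT (η : IrrCharacter V) :
    Subgroup.centralizer (P : Set G) ≤ h.inertiaT (η : V → ℂ) := fun c hc =>
  ⟨Subgroup.mem_normalizer_iff.2 fun y => ⟨fun hy => by
      rwa [← Subgroup.mem_centralizer_iff.1 hc y hy, mul_inv_cancel_right], fun hy => by
      have e := Subgroup.mem_centralizer_iff.1 hc _ hy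
      have : y = c * y * c⁻¹ := by
        have e' : c⁻¹ * (c * y * c⁻¹ * c) = c⁻¹ * (c * (c * y * c⁻¹)) := by rw [e]
        simpa [mul_assoc] using e'
      rwa [this]⟩,
    h.cjFun_of_centralizer (Char.IsIrr.isClassFunction η.2) hc⟩

/-- The inertial index. -/
noncomputable def inertialIndex (η : V → ℂ) : ℕ :=
  (Subgroup.centralizer (P : Set G)).relIndex (h.inertiaT η)

omit [Fact p.Prime] in
theorem card_centralizer : Nat.card (Subgroup.centralizer (P : Set G)) = p * Nat.card V := by
  have hP1 : ∃ x ∈ P, x ≠ 1 := by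
    by_contra hcon
    push Not at hcon
    have : P = ⊥ := (Subgroup.eq_bot_iff_forall P).2 hcon
    have hc := h.card
    rw [this, Subgroup.card_bot] at hc
    exact h.prime.ne_one hc.symm
  obtain ⟨x, hx, hx1⟩ := hP1
  rw [← h.centralizer_singleton hx hx1, ← Nat.card_congr (h.mulEquiv' hx hx1), Nat.card_prod, h.card]

omit [Fact p.Prime] in
theorem card_inertiaT (η : IrrCharacter V) :
    Nat.card (h.inertiaT (η : V → ℂ)) = h.inertialIndex (η : V → ℂ) * (p * Nat.card V) := by
  rw [← h.card_centralizer, inertialIndex]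
  have := Subgroup.relIndex_mul_relIndex ⊥ _ _ bot_le (h.centralizer_le_inertiaT η)
  rw [Subgroup.relIndex_bot_left, Subgroup.relIndex_bot_left] at this
  rw [← this, mul_comm]

omit [Fact p.Prime] in
theorem inertialIndex_pos (η : IrrCharacter V) : 0 < h.inertialIndex (η : V → ℂ) := by
  rcases Nat.eq_zero_or_pos (h.inertialIndex (η : V → ℂ)) with e | e
  · have := h.card_inertiaT η
    rw [e, zero_mul] at this
    exact absurd this Nat.card_pos.ne'
  · exact e

variable [Fintype P]

omit [Fintype G] [Fact p.Prime] in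
theorem lchar_one (l : IrrCharacter P) : (l : P → ℂ) 1 = 1 := by
  classical
  have : Fintype (IrrCharacter P) := Fintype.ofFinite _
  have := Fact.mk h.prime
  haveI : IsCyclic P := isCyclic_of_prime_card h.card
  have hinj : Function.Injective (ConjClasses.mk : P → ConjClasses P) := fun a b e => by
    obtain ⟨c, hc⟩ := isConj_iff.1 (ConjClasses.mk_eq_mk_iff_isConj.1 e)
    rw [← hc, mul_comm' c a, mul_inv_cancel_right]
  have hcard : Fintype.card (IrrCharacter P) = Nat.card P := by
    rw [← Nat.card_eq_fintype_card, card_irrCharacter,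
      ← Nat.card_congr (Equiv.ofBijective _ ⟨hinj, ConjClasses.mk_surjective⟩)]
  choose d hd0 hd using fun ψ : IrrCharacter P => IsIrr.exists_degree ψ.2
  have hs := sum_sq_degree (G := P)
  simp only [hd, ← hcard, ← Finset.card_univ, Finset.card_eq_sum_ones] at hs
  have hs' : ∑ ψ, d ψ ^ 2 = ∑ _ψ : IrrCharacter P, 1 := by exact_mod_cast hs
  have := (Finset.sum_eq_sum_iff_of_le fun ψ _ => Nat.one_le_pow 2 _ (hd0 ψ)).1 hs'.symm l
    (Finset.mem_univ _)
  rw [hd, show d l = 1 from (pow_eq_one_iff_left (by norm_num : (2:ℕ) ≠ 0)).1 this.symm, Nat.cast_one]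

omit [Fintype G] [Fact p.Prime] in
theorem lchar_injective {l : IrrCharacter P} (hl : l ≠ trivChar P) :
    Function.Injective (l : P → ℂ) := by
  obtain ⟨φ, hφ⟩ := exists_linear_of_degree_one (IsIrr.isCharacter l.2) (h.lchar_one l)
  have hφ' : ∀ x, (l : P → ℂ) x = (φ x : ℂ) := fun x => by simp [hφ]
  intro x y e
  rw [hφ', hφ', Units.val_inj] at e
  by_contra hne
  refine hl (irr_ext fun z => ?_)
  rw [trivChar_apply, hφ']
  have hk : x * y⁻¹ ∈ φ.ker := by rw [MonoidHom.mem_ker, map_mul, map_inv, e, mul_inv_cancel]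
  have hne' : x * y⁻¹ ≠ 1 := fun e => hne (mul_inv_eq_one.1 e)
  have := Fact.mk h.prime
  have : z ∈ φ.ker := by
    have h1 : Subgroup.zpowers (x * y⁻¹) = ⊤ := zpowers_eq_top_of_prime_card h.card hne'
    exact Subgroup.zpowers_le.2 hk (h1 ▸ Subgroup.mem_top z)
  rw [MonoidHom.mem_ker] at this
  simp [this]

variable [Fintype V]

theorem exists_coef (χ : IrrCharacter G) (η : IrrCharacter V) (l : IrrCharacter P) :
    ∃ c : ℤ, (p : ℂ) * c =
      ∑ x : P, dval (χ : G → ℂ) (x : G) (η : V → ℂ) * (conj ((l : P → ℂ) x) - 1) := by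
  obtain ⟨m, hm⟩ := h.exists_mult (IsIrr.isCharacter χ.2) (IsIrr.isCharacter η.2) (IsIrr.isCharacter l.2)
  obtain ⟨n, hn⟩ := h.exists_mult (IsIrr.isCharacter χ.2) (IsIrr.isCharacter η.2)
    (IsIrr.isCharacter (trivChar P).2)
  refine ⟨(m : ℤ) - n, ?_⟩
  have hP : (Nat.card P : ℂ) = p := by rw [h.card]
  have hp0 : (p : ℂ) ≠ 0 := Nat.cast_ne_zero.2 h.prime.ne_zero
  simp only [classInner, trivChar_apply, map_one, mul_one, hP] at hm hn
  push_cast
  rw [← hm, ← hn, mul_sub, ← mul_assoc, ← mul_assoc, mul_inv_cancel₀ hp0, one_mul, one_mul,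
    ← Finset.sum_sub_distrib]
  exact Finset.sum_congr rfl fun x _ => by ring

/-- The normalized Fourier coefficients. -/
noncomputable def coef (η : IrrCharacter V) (χ : IrrCharacter G) (l : IrrCharacter P) : ℤ :=
  Classical.choose (h.exists_coef χ η l)

theorem coef_spec (η : IrrCharacter V) (χ : IrrCharacter G) (l : IrrCharacter P) :
    (p : ℂ) * (h.coef η χ l : ℂ) =
      ∑ x : P, dval (χ : G → ℂ) (x : G) (η : V → ℂ) * (conj ((l : P → ℂ) x) - 1) :=
  Classical.choose_spec (h.exists_coef χ η l)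

theorem coef_trivChar (η : IrrCharacter V) (χ : IrrCharacter G) : h.coef η χ (trivChar P) = 0 := by
  have := h.coef_spec η χ (trivChar P)
  simp only [trivChar_apply, map_one, sub_self, mul_zero, Finset.sum_const_zero, mul_eq_zero] at this
  exact_mod_cast this.resolve_left (Nat.cast_ne_zero.2 h.prime.ne_zero)

theorem dval_eq_sum [Fintype (IrrCharacter P)] (η : IrrCharacter V) (χ : IrrCharacter G) {x : P}
    (hx : x ≠ 1) :
    dval (χ : G → ℂ) (x : G) (η : V → ℂ) =
      ∑ l : IrrCharacter P, (h.coef η χ l : ℂ) * (l : P → ℂ) x := by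
  classical
  have hp0 : (p : ℂ) ≠ 0 := Nat.cast_ne_zero.2 h.prime.ne_zero
  refine mul_left_cancel₀ hp0 ?_
  rw [Finset.mul_sum]
  simp only [← mul_assoc, h.coef_spec, Finset.sum_mul]
  rw [Finset.sum_comm]
  have hcol : ∀ y : P, ∑ l : IrrCharacter P, (conj ((l : P → ℂ) y) - 1) * (l : P → ℂ) x =
      if y = x then (p : ℂ) else 0 := by
    intro y
    have h2 : ∑ l : IrrCharacter P, (l : P → ℂ) x = 0 := by
      rw [← sum_degree_mul_apply_of_ne_one hx]
      exact Finset.sum_congr rfl fun l _ => by rw [h.lchar_one l, one_mul]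
    simp only [sub_mul, one_mul, Finset.sum_sub_distrib, h2, sub_zero]
    rw [Finset.sum_congr rfl fun l _ => mul_comm _ _, column_orthogonality]
    have := Fact.mk h.prime
    haveI : IsCyclic P := isCyclic_of_prime_card h.card
    have hiff : IsConj x y ↔ y = x := by
      refine ⟨fun e => ?_, fun e => e ▸ IsConj.refl x⟩
      obtain ⟨c, hc⟩ := isConj_iff.1 e
      rw [← hc, mul_comm' c x, mul_inv_cancel_right]
    have hC : Nat.card (Subgroup.centralizer ({x} : Set P)) = p := by
      rw [show Subgroup.centralizer ({x} : Set P) = ⊤ by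
        ext z; simp [Subgroup.mem_centralizer_iff, mul_comm' x z], Subgroup.card_top, h.card]
    simp only [hiff, hC]
  simp only [mul_assoc, ← Finset.mul_sum, hcol, mul_ite, mul_zero, Finset.sum_ite_eq',
    Finset.mem_univ, if_true]
  ring

omit [Fintype V] [Fact p.Prime] [Fintype P] in
theorem isIrr_cjFunP (μ : IrrCharacter P) {g : G} (hg : g ∈ Subgroup.normalizer (P : Set G)) :
    IsIrrCharacter P (cjFun (μ : P → ℂ) g) := by
  let e : P ≃* P :=
    { toFun := fun x => ⟨g * x * g⁻¹, (Subgroup.mem_normalizer_iff.1 hg x).1 x.2⟩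
      invFun := fun x => ⟨g⁻¹ * x * g, (Subgroup.mem_normalizer_iff''.1 hg x).1 x.2⟩
      left_inv := fun x => by ext; simp [mul_assoc]
      right_inv := fun x => by ext; simp [mul_assoc]
      map_mul' := fun a b => by ext; simp [mul_assoc] }
  have : cjFun (μ : P → ℂ) g = fun x => (μ : P → ℂ) (e x) := funext fun x =>
    extendByZero_coe (μ : P → ℂ) (e x)
  rw [this]
  exact IsIrr.comp_surjective e.toMonoidHom e.surjective μ.2

omit [Fintype V] [Fact p.Prime] [Fintype P] [Fintype G] in
theorem cjFunP_apply (μ : P → ℂ) {g : G} (hg : g ∈ Subgroup.normalizer (P : Set G)) (x : P) :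
    cjFun μ g x = μ ⟨g * x * g⁻¹, (Subgroup.mem_normalizer_iff.1 hg x).1 x.2⟩ :=
  extendByZero_coe μ ⟨_, (Subgroup.mem_normalizer_iff.1 hg x).1 x.2⟩

omit [Fintype V] [Fact p.Prime] [Fintype P] [Fintype G] in
theorem cjFunP_mul (μ : P → ℂ) {a b : G} (ha : a ∈ Subgroup.normalizer (P : Set G))
    (hb : b ∈ Subgroup.normalizer (P : Set G)) : cjFun (cjFun μ a) b = cjFun μ (a * b) := by
  funext x
  rw [h.cjFunP_apply _ hb, h.cjFunP_apply _ ha, h.cjFunP_apply _ (mul_mem ha hb)]
  congr 1
  ext
  simp [mul_assoc]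

open scoped Classical in
omit [Fintype P] [Fintype V] [Fact p.Prime] in
/-- The fibres of the inertial action on the characters of `P`. -/
theorem card_fiber [Fintype P] (η : IrrCharacter V) (l μ : IrrCharacter P) (hμ : μ ≠ trivChar P) :
    (Finset.univ.filter fun g : G =>
        g ∈ h.inertiaT (η : V → ℂ) ∧ cjFun (μ : P → ℂ) g = (l : P → ℂ)).card =
      if ∃ g ∈ h.inertiaT (η : V → ℂ), cjFun (μ : P → ℂ) g = (l : P → ℂ) then p * Nat.card V
      else 0 := by
  classical
  split_ifs with hc
  · obtain ⟨g₀, hg₀, hl⟩ := hc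
    rw [← h.card_centralizer, Nat.card_eq_fintype_card, ← Fintype.card_coe]
    symm
    refine Fintype.card_congr
      { toFun := fun c => ⟨(c : G) * g₀, Finset.mem_filter.2 ⟨Finset.mem_univ _,
          mul_mem (h.centralizer_le_inertiaT η c.2) hg₀, ?_⟩⟩
        invFun := fun g => ⟨(g : G) * g₀⁻¹, ?_⟩
        left_inv := fun c => by simp
        right_inv := fun g => by simp }
    · rw [← h.cjFunP_mul _ (h.centralizer_le_inertiaT η c.2).1 hg₀.1, ← hl]
      congr 1
      funext x
      rw [h.cjFunP_apply _ (h.centralizer_le_inertiaT η c.2).1]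
      refine congrArg _ (Subtype.ext ?_)
      show (c : G) * x * (c : G)⁻¹ = x
      rw [← Subgroup.mem_centralizer_iff.1 c.2 x x.2, mul_inv_cancel_right]
    · obtain ⟨-, hgT, hgl⟩ := Finset.mem_filter.1 g.2
      have hn := mul_mem hgT (inv_mem hg₀)
      refine Subgroup.mem_centralizer_iff.2 fun x hx => ?_
      have hfix : cjFun (μ : P → ℂ) ((g : G) * g₀⁻¹) = (μ : P → ℂ) := by
        rw [← h.cjFunP_mul _ hgT.1 (inv_mem hg₀.1), hgl, ← hl,
          h.cjFunP_mul _ hg₀.1 (inv_mem hg₀.1), mul_inv_cancel]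
        funext y
        simp [cjFun, extendByZero_coe]
      have e := congrFun hfix ⟨x, hx⟩
      rw [h.cjFunP_apply _ hn.1] at e
      have e' := congrArg Subtype.val (h.lchar_injective hμ e)
      simp only at e'
      conv_lhs => rw [← e']
      rw [inv_mul_cancel_right]
  · rw [Finset.card_eq_zero, Finset.filter_eq_empty_iff]
    exact fun g _ hg => hc ⟨g, hg⟩

open scoped Classical in
/-- The Gram matrix of the coefficients. -/
theorem sum_coef_mul [Fintype (IrrCharacter G)] (η : IrrCharacter V) (l μ : IrrCharacter P)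
    (hl : l ≠ trivChar P) (hμ : μ ≠ trivChar P) :
    ∑ χ : IrrCharacter G, h.coef η χ l * h.coef η χ μ =
      (if ∃ g ∈ h.inertiaT (η : V → ℂ), cjFun (μ : P → ℂ) g = (l : P → ℂ) then 1 else 0) +
        (h.inertialIndex (η : V → ℂ) : ℤ) := by
  classical
  have hp0 : (p : ℂ) ≠ 0 := Nat.cast_ne_zero.2 h.prime.ne_zero
  have hV0 : (Nat.card V : ℂ) ≠ 0 := Nat.cast_ne_zero.2 Nat.card_pos.ne'
  set T := h.inertiaT (η : V → ℂ)
  set a : IrrCharacter P → P → ℂ := fun l x => conj ((l : P → ℂ) x) - 1
  have ha1 : ∀ l : IrrCharacter P, a l 1 = 0 := fun l => by simp [a, h.lchar_one]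
  have hsum : ∀ x y : P, a l x * conj (a μ y) * (∑ χ : IrrCharacter G,
      dval (χ : G → ℂ) (x : G) (η : V → ℂ) * conj (dval (χ : G → ℂ) (y : G) (η : V → ℂ))) =
      a l x * conj (a μ y) * (((Finset.univ.filter fun g => g ∈ T ∧ g * (x : G) * g⁻¹ = y).card : ℂ) /
        (Nat.card V : ℂ)) := by
    intro x y
    by_cases hx : x = 1
    · simp [hx, ha1]
    · rw [h.sum_dval_mul η x.2 (fun e => hx (Subtype.ext e)) y.2]
      congr 4
      refine Finset.filter_congr fun g _ => ?_
      rw [h.mem_inertiaT, and_assoc]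
  have hstep : ((p : ℂ) * p) * ((∑ χ : IrrCharacter G, h.coef η χ l * h.coef η χ μ : ℤ) : ℂ) =
      ∑ g ∈ Finset.univ.filter (· ∈ T), (Nat.card V : ℂ)⁻¹ * ∑ x : P, a l x *
        if hg : g ∈ Subgroup.normalizer (P : Set G) then
          conj (a μ ⟨g * x * g⁻¹, (Subgroup.mem_normalizer_iff.1 hg x).1 x.2⟩) else 0 := by
    have e1 : ((p : ℂ) * p) * ((∑ χ : IrrCharacter G, h.coef η χ l * h.coef η χ μ : ℤ) : ℂ) =
        ∑ χ : IrrCharacter G, ((p : ℂ) * h.coef η χ l) * conj ((p : ℂ) * h.coef η χ μ) := by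
      push_cast
      rw [Finset.mul_sum]
      exact Finset.sum_congr rfl fun χ _ => by simp; ring
    rw [e1]
    calc _ = ∑ x : P, ∑ y : P, a l x * conj (a μ y) * ∑ χ : IrrCharacter G,
          dval (χ : G → ℂ) (x : G) (η : V → ℂ) * conj (dval (χ : G → ℂ) (y : G) (η : V → ℂ)) := by
          simp only [h.coef_spec, map_sum, map_mul, Finset.sum_mul, Finset.mul_sum]
          conv_rhs => rw [Finset.sum_comm]
          rw [Finset.sum_comm]
          refine Finset.sum_congr rfl fun x _ => ?_
          rw [Finset.sum_comm]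
          exact Finset.sum_congr rfl fun y _ => Finset.sum_congr rfl fun χ _ => by
            simp [a]
            ring
      _ = _ := by
          simp only [hsum]
          simp only [← Finset.sum_boole, Finset.sum_div, Finset.mul_sum]
          simp only [Finset.sum_comm (t := (Finset.univ : Finset G))]
          rw [Finset.sum_filter]
          refine Finset.sum_congr rfl fun g _ => ?_
          by_cases hg : g ∈ T
          · rw [if_pos hg]
            refine Finset.sum_congr rfl fun x _ => ?_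
            rw [Finset.sum_eq_single ⟨g * x * g⁻¹, (Subgroup.mem_normalizer_iff.1 hg.1 x).1 x.2⟩]
            · rw [if_pos ⟨hg, rfl⟩, dif_pos hg.1]
              ring
            · intro y _ hy
              rw [if_neg fun e => hy (Subtype.ext e.2.symm)]
              simp
            · simp
          · rw [if_neg hg]
            exact Finset.sum_eq_zero fun x _ => Finset.sum_eq_zero fun y _ => by
              rw [if_neg fun e => hg e.1]; simp
  have hinner : ∀ g ∈ T, ∑ x : P, a l x *
      (if hg : g ∈ Subgroup.normalizer (P : Set G) then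
        conj (a μ ⟨g * x * g⁻¹, (Subgroup.mem_normalizer_iff.1 hg x).1 x.2⟩) else 0) =
      (p : ℂ) * (if cjFun (μ : P → ℂ) g = (l : P → ℂ) then 1 else 0) + p := by
    intro g hg
    set μ' : IrrCharacter P := ⟨_, h.isIrr_cjFunP μ hg.1⟩
    have hμ' : μ' ≠ trivChar P := fun e => hμ (irr_ext fun z => by
      have e' := congrFun (congrArg Subtype.val e)
        ⟨g⁻¹ * z * g, (Subgroup.mem_normalizer_iff''.1 hg.1 z).1 z.2⟩
      rw [trivChar_apply] at e' ⊢
      rw [← e']
      show _ = cjFun (μ : P → ℂ) g _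
      rw [h.cjFunP_apply _ hg.1]
      exact congrArg _ (Subtype.ext (by simp [mul_assoc])))
    have horth : ∀ ψ φ : IrrCharacter P, ∑ x : P, (ψ : P → ℂ) x * conj ((φ : P → ℂ) x) =
        if ψ = φ then (p : ℂ) else 0 := fun ψ φ => by
      have := classInner_irr ψ φ
      rw [classInner, h.card, inv_mul_eq_iff_eq_mul₀ hp0] at this
      rw [this]
      split_ifs <;> simp
    have hz : ∀ ψ : IrrCharacter P, ψ ≠ trivChar P → ∑ x : P, (ψ : P → ℂ) x = 0 := fun ψ hψ => by
      simpa [hψ] using horth ψ (trivChar P)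
    have hterm : ∀ x : P, a l x * (if hg' : g ∈ Subgroup.normalizer (P : Set G) then
        conj (a μ ⟨g * x * g⁻¹, (Subgroup.mem_normalizer_iff.1 hg' x).1 x.2⟩) else 0) =
        (μ' : P → ℂ) x * conj ((l : P → ℂ) x) - (μ' : P → ℂ) x - conj ((l : P → ℂ) x) + 1 := fun x => by
      rw [dif_pos hg.1, show (μ' : P → ℂ) x = _ from h.cjFunP_apply _ hg.1 x]
      simp [a]
      ring
    rw [Finset.sum_congr rfl fun x _ => hterm x, Finset.sum_add_distrib, Finset.sum_sub_distrib,
      Finset.sum_sub_distrib, horth, hz μ' hμ', ← map_sum, hz l hl, map_zero, Finset.sum_const,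
      Finset.card_univ, ← Nat.card_eq_fintype_card, h.card, nsmul_one]
    have hiff : μ' = l ↔ cjFun (μ : P → ℂ) g = (l : P → ℂ) := Subtype.ext_iff
    simp only [sub_zero, hiff]
    split_ifs <;> simp
  replace hstep := hstep.trans (Finset.sum_congr rfl fun g hg =>
    congrArg ((Nat.card V : ℂ)⁻¹ * ·) (hinner g (Finset.mem_filter.1 hg).2))
  rw [← Finset.mul_sum, Finset.sum_add_distrib, ← Finset.mul_sum, Finset.sum_boole,
    Finset.filter_filter, h.card_fiber η l μ hμ, Finset.sum_const, nsmul_eq_mul] at hstep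
  have hT : (Finset.univ.filter (· ∈ T)).card = h.inertialIndex (η : V → ℂ) * (p * Nat.card V) := by
    rw [← h.card_inertiaT η, Nat.card_eq_fintype_card, ← Fintype.card_coe]
    exact Fintype.card_congr (Equiv.subtypeEquivRight fun g => by simp [T])
  rw [hT] at hstep
  apply Int.cast_injective (α := ℂ)
  refine mul_left_cancel₀ (mul_ne_zero hp0 hp0) (hstep.trans ?_)
  split_ifs <;> push_cast <;> field_simp <;> ring

/-- Characters outside the block have zero coefficients. -/
theorem coef_eq_zero_of_not_mem {M : Ideal AlgInt} [M.IsPrime] (hM : IsPModular p M)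
    (η : IrrCharacter V) {χ : IrrCharacter G} (hχ : χ ∉ blockSet M P (η : V → ℂ))
    (l : IrrCharacter P) : h.coef η χ l = 0 := by
  have := h.coef_spec η χ l
  rw [Finset.sum_eq_zero fun x _ => ?_, mul_eq_zero] at this
  · exact_mod_cast this.resolve_left (Nat.cast_ne_zero.2 h.prime.ne_zero)
  · by_cases hx : x = 1
    · simp [hx, h.lchar_one]
    · rw [by_contradiction fun hne => hχ
        (h.mem_blockSet_of_dval hM x.2 (fun e => hx (Subtype.ext e)) χ η hne), zero_mul]

/-- The coefficients are orthogonal to the values at `p`-regular elements. -/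
theorem sum_coef_regular [Fintype (IrrCharacter G)] (η : IrrCharacter V) (l : IrrCharacter P)
    {g : G} (hg : ¬ p ∣ orderOf g) :
    ∑ χ : IrrCharacter G, (h.coef η χ l : ℂ) * (χ : G → ℂ) g = 0 := by
  refine (mul_eq_zero.1 (?_ : (p : ℂ) * _ = 0)).resolve_left (Nat.cast_ne_zero.2 h.prime.ne_zero)
  simp only [Finset.mul_sum, ← mul_assoc, h.coef_spec, Finset.sum_mul]
  rw [Finset.sum_comm]
  refine Finset.sum_eq_zero fun x _ => ?_
  by_cases hx : x = 1
  · simp [hx, h.lchar_one]
  · have h0 := h.sum_dval_regular (η : V → ℂ) (g := g⁻¹) x.2 (fun e => hx (Subtype.ext e))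
      (by rwa [orderOf_inv])
    simp only [IsIrr.map_inv (Subtype.prop _), Complex.conj_conj] at h0
    calc _ = (conj ((l : P → ℂ) x) - 1) * ∑ χ : IrrCharacter G,
          dval (χ : G → ℂ) (x : G) (η : V → ℂ) * (χ : G → ℂ) g := by
          rw [Finset.mul_sum]
          exact Finset.sum_congr rfl fun χ _ => by ring
      _ = 0 := by rw [h0, mul_zero]

end Setup

end CfsgLib.Blocks.PrimeSylow
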