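import Cfsg.Agent.Lib.CharDegree.CyclicExtend
import Cfsg.Agent.Lib.Char.CliffordCorr
import Cfsg.Agent.Lib.Char.Gallagher

/-!
# Characters over an orbit when the quotient embeds in a cyclic group
-/

set_option autoImplicit false

namespace CfsgLib.Blocks.PrimeSylow

open Cfsg CfsgLib.Char CfsgLib.Clifford CfsgLib.Gallagher

/-- Over an orbit of `θ` there are as many characters as the inertial index. -/
theorem exists_over_orbit {H : Type*} [Group H] [Fintype H] (W : Subgroup H) [hW : W.Normal]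
    [Fintype W] (θ : IrrCharacter W) (T : Subgroup H)
    (hT : ∀ g, g ∈ T ↔ conjFn hW (θ : W → ℂ) g = (θ : W → ℂ)) {A : Type*} [Group A] [IsCyclic A]
    (f : H →* A) (hf : f.ker = W) :
    ∃ ψ : Fin (W.relIndex T) → IrrCharacter H, Function.Injective ψ ∧
      ∀ i, ∃ r : ℂ, ∀ w : W, (ψ i : H → ℂ) w = r * ∑ x : H, conjFn hW (θ : W → ℂ) x w := by
  classical
  have hle : W ≤ T := fun g hg => (hT g).2 <| funext fun w => by
    rw [conjFn_apply]
    exact Char.IsIrr.isClassFunction θ.2 w ⟨g, hg⟩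
  have : Fintype T := Fintype.ofFinite T
  let W' : Subgroup T := W.subgroupOf T
  haveI : W'.Normal := by infer_instance
  have : Fintype W' := Fintype.ofFinite W'
  let e : W' ≃* W := Subgroup.subgroupOfEquivOfLe hle
  obtain ⟨n, σ₀, hσ₀, hσc⟩ := θ.2
  let σ : Representation ℂ W' (Fin n → ℂ) := σ₀.comp e.toMonoidHom
  have hσirr : σ.IsIrreducible := CharExt.isIrreducible_of_restrict σ e.symm.toMonoidHom σ₀
    fun x => congrArg σ₀ (e.apply_symm_apply x)
  have hσch : σ.character = fun w : W' => (θ : W → ℂ) (e w) := by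
    funext w
    rw [← hσc]
    rfl
  have hinv : ∀ (g : T) (w : W'), σ.character (CharExt.cn g w) = σ.character w := by
    intro g w
    rw [hσch]
    have h1 := congrFun ((hT g).1 g.2) (e w)
    rw [conjFn_apply] at h1
    refine Eq.trans ?_ h1
    exact congrArg _ (Subtype.ext rfl)
  have hfT : ∀ t : T, t ∈ W' ↔ f t = 1 := fun t => by
    rw [Subgroup.mem_subgroupOf, ← hf, MonoidHom.mem_ker]
  let fq : T ⧸ W' →* A := QuotientGroup.lift W' (f.comp T.subtype) fun t ht => (hfT t).1 ht
  have hfq : Function.Injective fq := (injective_iff_map_eq_one fq).2 fun q => by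
    induction q using QuotientGroup.induction_on with
    | H t =>
      intro ht
      exact (QuotientGroup.eq_one_iff t).2 ((hfT t).2 ht)
  have hcyc : IsCyclic (T ⧸ W') := isCyclic_of_injective fq hfq
  obtain ⟨ρ, hρ⟩ := CharDegree.exists_extension_of_cyclic σ hinv hcyc
  have hres : IsIrrCharacter W' fun w : W' => ρ.character w := by
    have e1 : (fun w : W' => ρ.character w) = σ.character := funext fun w => by
      show LinearMap.trace ℂ _ (ρ w) = LinearMap.trace ℂ _ (σ w)
      rw [hρ]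
    rw [e1]
    exact isIrrCharacter_rep σ
  have hρc : ∀ w : W', ρ.character w = (θ : W → ℂ) (e w) := fun w => by
    rw [← congrFun hσch w]
    show LinearMap.trace ℂ _ (ρ w) = LinearMap.trace ℂ _ (σ w)
    rw [hρ]
  -- the linear characters of the quotient
  have hcard : Nat.card (IrrCharacter (T ⧸ W')) = W.relIndex T := by
    rw [card_irrCharacter]
    refine (Nat.card_congr (Equiv.ofBijective _ ⟨?_, ConjClasses.mk_surjective⟩).symm).trans rfl
    intro a b h
    obtain ⟨c, hc⟩ := isConj_iff.1 (ConjClasses.mk_eq_mk_iff_isConj.1 h)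
    rw [← hc, mul_comm' c a, mul_inv_cancel_right]
  have : Fintype (IrrCharacter (T ⧸ W')) := Fintype.ofFinite _
  let β : Fin (W.relIndex T) ≃ IrrCharacter (T ⧸ W') :=
    (finCongr (hcard.symm.trans Nat.card_eq_fintype_card)).trans (Fintype.equivFin _).symm
  have hb1 : ∀ b : IrrCharacter (T ⧸ W'), ∀ w : W',
      twistBy ρ.character (b : T ⧸ W' → ℂ) w = (b : T ⧸ W' → ℂ) 1 * (θ : W → ℂ) (e w) := fun b w => by
    rw [twistBy_apply_coe, hρc]
  let ξ : Fin (W.relIndex T) → T → ℂ := fun i => twistBy ρ.character (β i : T ⧸ W' → ℂ)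
  have hξ : ∀ i, IsIrrCharacter T (ξ i) := fun i => isIrr_twistBy (isCharacter_rep ρ) hres (β i)
  have hresξ : ∀ i, resTo hle (ξ i) = (β i : T ⧸ W' → ℂ) 1 • (θ : W → ℂ) := fun i => funext fun w => by
    exact hb1 (β i) ⟨⟨w, hle w.2⟩, w.2⟩
  have hc : ∀ i, classInner (resTo hle (ξ i)) (θ : W → ℂ) ≠ 0 := fun i => by
    rw [hresξ, classInner_smul_left, classInner_irr_self, mul_one]
    exact IsIrr.apply_one_ne_zero (β i).2
  refine ⟨fun i => ⟨_, isIrr_indFun_of_over hW θ.2 hT hle (hξ i) (hc i)⟩, fun i j hij => ?_,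
    fun i => ⟨(Nat.card T : ℂ)⁻¹ * (β i : T ⧸ W' → ℂ) 1, fun w => ?_⟩⟩
  · have h1 := indFun_injective_of_over hW θ.2 hT hle (hξ i) (hξ j) (hc i) (hc j)
      (congrArg Subtype.val hij)
    exact β.injective (twistBy_injective (isCharacter_rep ρ) hres h1)
  · show indFun T (ξ i) (w : H) = _
    rw [indFun, mul_assoc]
    congr 1
    rw [Finset.mul_sum]
    refine Fintype.sum_equiv (Equiv.inv H) _ _ fun x => ?_
    have hmem : x⁻¹ * (w : H) * x ∈ W := by
      have := hW.conj_mem w w.2 x⁻¹
      rwa [inv_inv] at this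
    rw [extendByZero_of_mem T _ (hle hmem)]
    have h1 := congrFun (hresξ i) ⟨_, hmem⟩
    rw [Pi.smul_apply, smul_eq_mul] at h1
    refine Eq.trans h1 ?_
    rw [conjFn_apply]
    exact congrArg _ (congrArg _ (Subtype.ext (by simp)))

end CfsgLib.Blocks.PrimeSylow
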