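import Mathlib

/-!
# The combinatorics of exceptional characters

Integral vectors with Gram matrix `1 + e J`, orthogonal to a positive vector, with `e + t`
coordinates or more and no zero row: one signed exceptional coordinate per column, the remaining
`e` coordinates constant signs.
-/

set_option autoImplicit false

namespace CfsgLib.Blocks.PrimeSylow

variable {ι J : Type*} [Fintype ι] [Fintype J] [DecidableEq ι] [DecidableEq J]

/-- A vector of norm two orthogonal to a positive vector is a difference of two unit vectors. -/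
theorem exists_diff_of_norm_two {v : ι → ℤ} (h : ∑ x, v x ^ 2 = 2) {d : ι → ℤ} (hd : ∀ x, 0 < d x)
    (h0 : ∑ x, v x * d x = 0) :
    ∃ a b, a ≠ b ∧ v a = 1 ∧ v b = -1 ∧ ∀ x, x ≠ a → x ≠ b → v x = 0 := by
  have hsmall : ∀ x, v x = 0 ∨ v x = 1 ∨ v x = -1 := fun x => by
    have h1 : v x ^ 2 ≤ 2 := h ▸ Finset.single_le_sum (f := fun x => v x ^ 2)
      (fun _ _ => sq_nonneg _) (Finset.mem_univ x)
    have : -2 < v x ∧ v x < 2 := by constructor <;> nlinarith
    omega
  have hex : ∀ w : ι → ℤ, (∑ x, w x * d x = 0) → (∃ x, w x ≠ 0) → ∃ x, 0 < w x := fun w hw hne => by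
    by_contra hcon
    push Not at hcon
    obtain ⟨x, hx⟩ := hne
    have := Finset.sum_lt_sum (s := Finset.univ) (f := fun x => w x * d x) (g := fun _ => (0 : ℤ))
      (fun y _ => mul_nonpos_of_nonpos_of_nonneg (hcon y) (hd y).le)
      ⟨x, Finset.mem_univ x, mul_neg_of_neg_of_pos (lt_of_le_of_ne (hcon x) hx) (hd x)⟩
    simp [hw] at this
  have hne : ∃ x, v x ≠ 0 := by
    by_contra hcon
    push Not at hcon
    simp [hcon] at h
  obtain ⟨a, ha⟩ := hex v h0 hne
  obtain ⟨b, hb⟩ := hex (fun x => -v x) (by simp [h0]) (by simpa using hne)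
  have ha1 : v a = 1 := by rcases hsmall a with h | h | h <;> omega
  have hb1 : v b = -1 := by rcases hsmall b with h | h | h <;> omega
  have hab : a ≠ b := fun e => by rw [e, hb1] at ha1; omega
  refine ⟨a, b, hab, ha1, hb1, fun x hxa hxb => ?_⟩
  have h3 : ∑ y ∈ ({a, b, x} : Finset ι), v y ^ 2 ≤ 2 :=
    h ▸ Finset.sum_le_univ_sum_of_nonneg (fun y => sq_nonneg _)
  rw [Finset.sum_insert (by simp [hab, Ne.symm hxa]), Finset.sum_insert (by simp [Ne.symm hxb]),
    Finset.sum_singleton, ha1, hb1] at h3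
  exact pow_eq_zero_iff two_ne_zero |>.1 (by nlinarith [sq_nonneg (v x)])

/-- The inner product of two differences of unit vectors. -/
theorem sum_diff_mul (a b c d : ι) :
    ∑ x, ((if x = a then (1 : ℤ) else 0) - if x = b then 1 else 0) *
        ((if x = c then (1 : ℤ) else 0) - if x = d then 1 else 0) =
      ((if a = c then (1 : ℤ) else 0) + if b = d then 1 else 0) -
        ((if a = d then (1 : ℤ) else 0) + if b = c then 1 else 0) := by
  simp only [sub_mul, mul_sub, Finset.sum_sub_distrib, ite_mul, one_mul, zero_mul,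
    Finset.sum_ite_eq', Finset.mem_univ, if_true]
  ring

theorem exists_center {j₀ : J} {a b : J → ι}
    (hpair : ∀ i j, i ≠ j₀ → j ≠ j₀ → i ≠ j → (a i = a j ∧ b i ≠ b j) ∨ (a i ≠ a j ∧ b i = b j)) :
    (∀ i j, i ≠ j₀ → j ≠ j₀ → a i = a j) ∨ (∀ i j, i ≠ j₀ → j ≠ j₀ → b i = b j) := by
  by_cases h : ∀ i j, i ≠ j₀ → j ≠ j₀ → a i = a j
  · exact Or.inl h
  push Not at h
  obtain ⟨i, j, hi, hj, hij⟩ := h
  refine Or.inr fun k l hk hl => ?_
  have hne : i ≠ j := fun e => hij (by rw [e])
  have hb : b i = b j := ((hpair i j hi hj hne).resolve_left fun h => hij h.1).2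
  have key : ∀ k, k ≠ j₀ → b k = b i := by
    intro k hk
    by_cases hki : k = i
    · rw [hki]
    by_cases hkj : k = j
    · rw [hkj, hb]
    rcases hpair k i hk hi hki with ⟨h1, h2⟩ | ⟨h1, h2⟩
    · rcases hpair k j hk hj hkj with ⟨h3, h4⟩ | ⟨h3, h4⟩
      · exact absurd (h1.symm.trans h3) hij
      · rw [h4, hb]
    · exact h2
  rw [key k hk, key l hl]

/-- The exceptional coordinates. -/
theorem exists_exceptional [Nonempty J] {e : ℕ} (he : 1 ≤ e) (c : J → ι → ℤ)
    (hgram : ∀ i j, ∑ x, c i x * c j x = (if i = j then 1 else 0) + (e : ℤ))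
    {d : ι → ℤ} (hd : ∀ x, 0 < d x) (hdeg : ∀ i, ∑ x, c i x * d x = 0)
    (hrow : ∀ x, ∃ i, c i x ≠ 0) (hcard : e + Fintype.card J ≤ Fintype.card ι) :
    ∃ (θ : J → ι) (ε : ℤ), Function.Injective θ ∧ (ε = 1 ∨ ε = -1) ∧
      Fintype.card ι = e + Fintype.card J ∧
      (∀ i j, c i (θ j) = if i = j then ε else 0) ∧
      ∀ x, (∀ j, θ j ≠ x) → ∃ w : ℤ, (w = 1 ∨ w = -1) ∧ ∀ i, c i x = w := by
  classical
  obtain ⟨j₀⟩ := ‹Nonempty J›
  by_cases ht : Fintype.card J = 1
  · have huniq : ∀ i : J, i = j₀ := fun i => Fintype.card_le_one_iff.1 ht.le i j₀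
    have hnz : ∀ x, (1 : ℤ) ≤ c j₀ x ^ 2 := fun x => by
      obtain ⟨i, hi⟩ := hrow x
      rw [huniq i] at hi
      nlinarith [mul_self_pos.2 hi]
    have hnorm : ∑ x, c j₀ x ^ 2 = 1 + (e : ℤ) := by
      simpa [sq] using hgram j₀ j₀
    have h1 : (Fintype.card ι : ℤ) ≤ 1 + e := by
      rw [← hnorm]
      calc (Fintype.card ι : ℤ) = ∑ _x : ι, (1 : ℤ) := by simp
        _ ≤ _ := Finset.sum_le_sum fun x _ => hnz x
    have hall : ∀ x, c j₀ x ^ 2 = 1 := by
      have hs : ∑ x, (c j₀ x ^ 2 - 1) = 0 := by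
        rw [Finset.sum_sub_distrib, hnorm, Finset.sum_const, Finset.card_univ, nsmul_eq_mul,
          mul_one]
        omega
      intro x
      have := (Finset.sum_eq_zero_iff_of_nonneg fun x _ => by linarith [hnz x]).1 hs x
        (Finset.mem_univ x)
      linarith
    have hpm : ∀ x, c j₀ x = 1 ∨ c j₀ x = -1 := fun x => sq_eq_one_iff.1 (hall x)
    obtain ⟨x₀⟩ : Nonempty ι := Fintype.card_pos_iff.1 (by omega)
    refine ⟨fun _ => x₀, c j₀ x₀, fun i j _ => (huniq i).trans (huniq j).symm, hpm x₀, by omega,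
      fun i j => by rw [huniq i, huniq j, if_pos rfl], fun x _ => ⟨c j₀ x, hpm x, fun i => by
        rw [huniq i]⟩⟩
  · have ht2 : 2 ≤ Fintype.card J := by
      have : 0 < Fintype.card J := Fintype.card_pos_iff.2 ⟨j₀⟩
      omega
    have hD : ∀ i, i ≠ j₀ → ∃ a b, a ≠ b ∧
        ∀ x, c i x - c j₀ x = (if x = a then 1 else 0) - if x = b then 1 else 0 := by
      intro i hi
      obtain ⟨a, b, hab, ha, hb, hz⟩ := exists_diff_of_norm_two (v := fun x => c i x - c j₀ x) (by
        have : ∀ x, (c i x - c j₀ x) ^ 2 = c i x * c i x - 2 * (c i x * c j₀ x) + c j₀ x * c j₀ x :=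
          fun x => by ring
        rw [Finset.sum_congr rfl fun x _ => this x, Finset.sum_add_distrib, Finset.sum_sub_distrib,
          ← Finset.mul_sum, hgram, hgram, hgram, if_pos rfl, if_neg hi, if_pos rfl]
        ring) hd (by
        simp only [sub_mul, Finset.sum_sub_distrib, hdeg, sub_self])
      refine ⟨a, b, hab, fun x => ?_⟩
      by_cases hxa : x = a
      · subst hxa; simp [ha, hab]
      · by_cases hxb : x = b
        · subst hxb; simp [hb, hxa]
        · simp [hz x hxa hxb, hxa, hxb]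
    have : Nonempty ι := Fintype.card_pos_iff.1 (by omega)
    choose! a b hab hDab using hD
    have hpair : ∀ i j, i ≠ j₀ → j ≠ j₀ → i ≠ j →
        (a i = a j ∧ b i ≠ b j) ∨ (a i ≠ a j ∧ b i = b j) := by
      intro i j hi hj hij
      have h1 : ∑ x, (c i x - c j₀ x) * (c j x - c j₀ x) = 1 := by
        simp only [sub_mul, mul_sub, Finset.sum_sub_distrib, hgram]
        simp [hij, hi, Ne.symm hj]
      simp only [hDab i hi, hDab j hj] at h1
      rw [sum_diff_mul] at h1
      have h2 := hab i hi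
      have h3 := hab j hj
      by_cases e1 : a i = a j <;> by_cases e2 : b i = b j
      · exfalso
        rw [if_pos e1, if_pos e2, if_neg (fun e => h3 (e1.symm.trans e)),
          if_neg (fun e => h2 (e1.trans e.symm))] at h1
        omega
      · exact Or.inl ⟨e1, e2⟩
      · exact Or.inr ⟨e1, e2⟩
      · exfalso
        rw [if_neg e1, if_neg e2] at h1
        split_ifs at h1 <;> omega
    obtain ⟨i₁, hi₁⟩ := Fintype.exists_ne_of_one_lt_card (by omega) j₀
    obtain ⟨σ, θ, hσ, hθinj, hθ⟩ : ∃ (σ : ℤ) (θ : J → ι), (σ = 1 ∨ σ = -1) ∧ Function.Injective θ ∧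
        ∀ i x, c i x - c j₀ x = σ * ((if x = θ i then 1 else 0) - if x = θ j₀ then 1 else 0) := by
      rcases exists_center hpair with h | h
      · refine ⟨-1, fun i => if i = j₀ then a i₁ else b i, Or.inr rfl, fun i j hij => ?_,
          fun i x => ?_⟩
        · simp only at hij
          split_ifs at hij with h1 h2 h2
          · rw [h1, h2]
          · exact absurd ((h i₁ j hi₁ h2).symm.trans hij) (hab j h2)
          · exact absurd ((h i₁ i hi₁ h1).symm.trans hij.symm) (hab i h1)
          · by_contra hne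
            rcases hpair i j h1 h2 hne with ⟨-, h3⟩ | ⟨h3, -⟩
            · exact h3 hij
            · exact h3 (h i j h1 h2)
        · by_cases hi : i = j₀
          · simp [hi]
          · rw [hDab i hi x, h i i₁ hi hi₁]
            simp [hi]
      · refine ⟨1, fun i => if i = j₀ then b i₁ else a i, Or.inl rfl, fun i j hij => ?_,
          fun i x => ?_⟩
        · simp only at hij
          split_ifs at hij with h1 h2 h2
          · rw [h1, h2]
          · exact absurd (hij.symm.trans (h i₁ j hi₁ h2)) (hab j h2)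
          · exact absurd (hij.trans (h i₁ i hi₁ h1)) (hab i h1)
          · by_contra hne
            rcases hpair i j h1 h2 hne with ⟨-, h3⟩ | ⟨h3, -⟩
            · exact h3 (h i j h1 h2)
            · exact h3 hij
        · by_cases hi : i = j₀
          · simp [hi]
          · rw [hDab i hi x, h i i₁ hi hi₁]
            simp [hi]
    obtain ⟨Z, hc⟩ : ∃ Z : ι → ℤ, ∀ i x, c i x = Z x + σ * (if x = θ i then 1 else 0) :=
      ⟨fun x => c j₀ x - σ * (if x = θ j₀ then 1 else 0), fun i x => by linarith [hθ i x]⟩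
    have hσ2 : σ ^ 2 = 1 := sq_eq_one_iff.2 hσ
    have hN : ∀ i, ∑ x, Z x ^ 2 + 2 * σ * Z (θ i) = e := by
      intro i
      have := hgram i i
      rw [if_pos rfl] at this
      have hexp : ∀ x, c i x * c i x =
          Z x ^ 2 + if x = θ i then 2 * σ * Z x + σ ^ 2 else 0 := by
        intro x
        rw [hc]
        split_ifs <;> ring
      rw [Finset.sum_congr rfl fun x _ => hexp x, Finset.sum_add_distrib,
        Finset.sum_ite_eq' Finset.univ (θ i), if_pos (Finset.mem_univ _), hσ2] at this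
      linarith
    set z := Z (θ j₀) with hz
    have hZθ : ∀ i, Z (θ i) = z := fun i => by
      have h1 := hN i
      have h2 := hN j₀
      have h3 : σ * (Z (θ i) - z) = 0 := by linarith
      rcases hσ with hs | hs <;> rw [hs] at h3 <;> linarith
    set X : Finset ι := Finset.univ \ Finset.univ.image θ with hX
    have hXmem : ∀ x, x ∈ X ↔ ∀ j, θ j ≠ x := fun x => by simp [hX]
    have hXc : ∀ x ∈ X, ∀ i, c i x = Z x := fun x hx i => by
      rw [hc, if_neg fun h => (hXmem x).1 hx i h.symm]; ring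
    have hXnz : ∀ x ∈ X, (1 : ℤ) ≤ Z x ^ 2 := fun x hx => by
      obtain ⟨i, hi⟩ := hrow x
      rw [hXc x hx] at hi
      nlinarith [mul_self_pos.2 hi]
    have hXcard : X.card + Fintype.card J = Fintype.card ι := by
      have h1 := Finset.card_sdiff_add_card_eq_card (Finset.subset_univ (Finset.univ.image θ))
      rwa [Finset.card_image_of_injective _ hθinj, Finset.card_univ, Finset.card_univ] at h1
    have hsum : ∑ x, Z x ^ 2 = ∑ x ∈ X, Z x ^ 2 + (Fintype.card J : ℤ) * z ^ 2 := by
      rw [← Finset.sum_sdiff (Finset.subset_univ (Finset.univ.image θ)),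
        Finset.sum_image fun i _ j _ h => hθinj h]
      simp [hZθ, hX]
    have h0 := hN j₀
    rw [hsum] at h0
    have hRX : (X.card : ℤ) ≤ ∑ x ∈ X, Z x ^ 2 := by
      calc (X.card : ℤ) = ∑ _x ∈ X, (1 : ℤ) := by simp
        _ ≤ _ := Finset.sum_le_sum hXnz
    have hkey : (Fintype.card J : ℤ) * z ^ 2 + 2 * σ * z ≤ 0 := by
      have : (e : ℤ) ≤ X.card := by omega
      linarith
    have hzcase : z = 0 ∨ (Fintype.card J = 2 ∧ σ * z = -1) := by
      by_cases hz0 : z = 0
      · exact Or.inl hz0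
      right
      have hw : σ * z ≠ 0 := mul_ne_zero (by rcases hσ with h | h <;> omega) hz0
      have hw2 : (σ * z) ^ 2 = z ^ 2 := by rw [mul_pow, hσ2, one_mul]
      have hkey' : (Fintype.card J : ℤ) * (σ * z) ^ 2 + 2 * (σ * z) ≤ 0 := by rw [hw2]; linarith
      have hneg : σ * z < 0 := lt_of_le_of_ne (by nlinarith [sq_nonneg (σ * z)]) hw
      have hJ : (2 : ℤ) ≤ Fintype.card J := by exact_mod_cast ht2
      have h5 : (Fintype.card J : ℤ) * (σ * z) + 2 ≥ 0 := by
        by_contra hcon
        push Not at hcon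
        nlinarith [mul_pos_of_neg_of_neg hneg hcon]
      have h6 : σ * z = -1 := by
        nlinarith
      refine ⟨?_, h6⟩
      rw [h6] at h5
      omega
    have hRe : ∑ x ∈ X, Z x ^ 2 = e := by
      rcases hzcase with h | ⟨hJ2, hw⟩
      · rw [show ∑ x, Z x ^ 2 = _ from hsum] at *
        have hz2 : z ^ 2 = 0 := by rw [h]; ring
        rw [hz2, show 2 * σ * z = 0 by rw [h]; ring] at h0
        linarith
      · have hw2 : z ^ 2 = 1 := by
          have := congrArg (· ^ 2) hw
          simpa [mul_pow, hσ2] using this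
        rw [hJ2, hw2, mul_assoc, hw] at h0
        push_cast at h0
        linarith
    have hXe : X.card = e := by omega
    have hcardeq : Fintype.card ι = e + Fintype.card J := by omega
    have hpm : ∀ x ∈ X, Z x = 1 ∨ Z x = -1 := by
      intro x hx
      have hs : ∑ y ∈ X, (Z y ^ 2 - 1) = 0 := by
        rw [Finset.sum_sub_distrib, hRe, Finset.sum_const, hXe, nsmul_eq_mul, mul_one, sub_self]
      have := (Finset.sum_eq_zero_iff_of_nonneg fun y hy => by linarith [hXnz y hy]).1 hs x hx
      exact sq_eq_one_iff.1 (by linarith)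
    rcases hzcase with hz0 | ⟨hJ2, hw⟩
    · refine ⟨θ, σ, hθinj, hσ, hcardeq, fun i j => ?_, fun x hx => ⟨Z x, hpm x ((hXmem x).2 hx),
        hXc x ((hXmem x).2 hx)⟩⟩
      rw [hc, hZθ, hz0, zero_add]
      by_cases hij : i = j
      · subst hij; simp
      · simp [hij, Ne.symm hij, hθinj.eq_iff]
    · have hfor : ∀ i, i ≠ j₀ → i = i₁ := by
        intro i hi
        by_contra hne
        have : ({j₀, i₁, i} : Finset J).card ≤ 2 := hJ2 ▸ Finset.card_le_univ _
        rw [Finset.card_insert_of_notMem (by simp [Ne.symm hi₁, Ne.symm hi]),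
          Finset.card_insert_of_notMem (by simp [Ne.symm hne]), Finset.card_singleton] at this
        omega
      have hzσ : z = -σ := by
        have : σ ^ 2 * z = -σ := by rw [sq, mul_assoc, hw]; ring
        rwa [hσ2, one_mul] at this
      refine ⟨fun j => θ (Equiv.swap j₀ i₁ j), -σ, hθinj.comp (Equiv.injective _),
        (by omega), hcardeq, fun i j => ?_, fun x hx => ⟨Z x, hpm x ((hXmem x).2 fun j =>
          by simpa using hx (Equiv.swap j₀ i₁ j)),
          hXc x ((hXmem x).2 fun j => by simpa using hx (Equiv.swap j₀ i₁ j))⟩⟩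
      rw [hc, hZθ, hzσ]
      simp only [hθinj.eq_iff]
      have hi₁' := Ne.symm hi₁
      rcases (em (i = j₀)) with hi | hi <;> rcases (em (j = j₀)) with hj | hj
      · subst hi; subst hj; simp [hi₁]
      · subst hi; rw [hfor j hj]; simp [hi₁, hi₁']
      · subst hj; rw [hfor i hi]; simp [hi₁, hi₁']
      · rw [hfor i hi, hfor j hj]; simp [hi₁, hi₁']

end CfsgLib.Blocks.PrimeSylow
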