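import Cfsg.Agent.Lib.Blocks.PrimeSylow.Values

/-!
# `p`-conjugacy in a block with Sylow defect group of order `p`

For `k ≡ 1` modulo the `p'`-part of the order of `G` and prime to `p`, the power map permutes the
exceptional characters transitively and fixes all other members of the block.
-/

set_option autoImplicit false

open scoped ComplexConjugate

namespace CfsgLib.Blocks.PrimeSylow

open Cfsg CfsgLib.Char

variable {G : Type*} [Group G] [Fintype G] {p : ℕ} [Fact p.Prime] {P V : Subgroup G}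

namespace Setup

variable (h : Setup p P V)
include h

/-- The power map of `P`. -/
def powP (k : ℕ) : P →* P where
  toFun x := x ^ k
  map_one' := one_pow k
  map_mul' a b := by
    have := Fact.mk h.prime
    haveI : IsCyclic P := isCyclic_of_prime_card h.card
    exact (show Commute a b from mul_comm' a b).mul_pow k

omit [Fintype G] [Fact p.Prime] in
theorem powP_surjective {k : ℕ} (hk : k.Coprime p) : Function.Surjective (h.powP k) := fun y =>
  ⟨(powCoprime (G := P) (by rw [h.card]; exact hk.symm)).symm y,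
    (powCoprime (G := P) (by rw [h.card]; exact hk.symm)).apply_symm_apply y⟩

/-- The power of a character of `P`. -/
def powChar {k : ℕ} (hk : k.Coprime p) (μ : IrrCharacter P) : IrrCharacter P :=
  ⟨fun x => (μ : P → ℂ) (x ^ k), IsIrr.comp_surjective (h.powP k) (h.powP_surjective hk) μ.2⟩

omit [Fintype G] [Fact p.Prime] in
theorem powChar_apply {k : ℕ} (hk : k.Coprime p) (μ : IrrCharacter P) (x : P) :
    (h.powChar hk μ : P → ℂ) x = (μ : P → ℂ) (x ^ k) := rfl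

omit [Fintype G] [Fact p.Prime] in
theorem powChar_injective {k : ℕ} (hk : k.Coprime p) : Function.Injective (h.powChar hk) :=
  fun μ ν e => irr_ext fun y => by
    obtain ⟨x, rfl⟩ := h.powP_surjective hk y
    exact congrFun (congrArg Subtype.val e) x

omit [Fintype G] [Fact p.Prime] in
theorem powChar_ne {k : ℕ} (hk : k.Coprime p) {μ : IrrCharacter P} (hμ : μ ≠ trivChar P) :
    h.powChar hk μ ≠ trivChar P := fun e => hμ (h.powChar_injective hk (e.trans
      (irr_ext fun x => by rw [h.powChar_apply, trivChar_apply, trivChar_apply]).symm))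

omit [Fintype G] [Fact p.Prime] in
theorem rel_powChar (η : V → ℂ) {k : ℕ} (hk : k.Coprime p) {l μ : IrrCharacter P}
    (hr : h.Rel η l μ) : h.Rel η (h.powChar hk l) (h.powChar hk μ) := by
  obtain ⟨g, hg, e⟩ := hr
  refine ⟨g, hg, funext fun x => ?_⟩
  rw [h.cjFunP_apply _ hg.1, h.powChar_apply, h.powChar_apply, ← e, h.cjFunP_apply _ hg.1]
  refine congrArg _ (Subtype.ext ?_)
  simp [conj_pow]

omit [Fintype G] in
theorem lchar_pow [Fintype P] (l : IrrCharacter P) (x : P) (i : ℕ) :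
    (l : P → ℂ) (x ^ i) = (l : P → ℂ) x ^ i := by
  obtain ⟨φ, hφ⟩ := exists_linear_of_degree_one (IsIrr.isCharacter l.2) (h.lchar_one l)
  have hφ' : ∀ x, (l : P → ℂ) x = (φ x : ℂ) := fun x => by simp [hφ]
  rw [hφ', hφ', map_pow, Units.val_pow_eq_pow_val]

omit [Fintype G] in
theorem exists_powChar [Fintype P] {n : ℕ} (hn : n.Coprime p) {μ ν : IrrCharacter P} (hμ : μ ≠ trivChar P)
    (hν : ν ≠ trivChar P) :
    ∃ k, ∃ hk : k.Coprime p, k ≡ 1 [MOD n] ∧ h.powChar hk μ = ν := by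
  obtain ⟨x₀, hx₀⟩ : ∃ x : P, x ≠ 1 := by
    have : Nontrivial P := Finite.one_lt_card_iff_nontrivial.1 (h.card ▸ h.prime.one_lt)
    exact exists_ne 1
  have hx₀p : ∀ l : IrrCharacter P, (l : P → ℂ) x₀ ^ p = 1 := fun l => by
    rw [← h.lchar_pow, show x₀ ^ p = 1 from Subtype.ext (h.pow_eq_one x₀.2), h.lchar_one]
  have hne : ∀ l : IrrCharacter P, l ≠ trivChar P → (l : P → ℂ) x₀ ≠ 1 := fun l hl e =>
    hx₀ (h.lchar_injective hl (e.trans (h.lchar_one l).symm))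
  have hprim : IsPrimitiveRoot ((μ : P → ℂ) x₀) p := by
    rw [IsPrimitiveRoot.iff_orderOf]
    exact orderOf_eq_prime (hx₀p μ) (hne μ hμ)
  have : NeZero p := ⟨h.prime.ne_zero⟩
  obtain ⟨j, -, hj⟩ := hprim.eq_pow_of_pow_eq_one (hx₀p ν)
  have hjp : j.Coprime p := by
    refine (h.prime.coprime_iff_not_dvd.2 fun hd => hne ν hν ?_).symm
    rw [← hj, hprim.pow_eq_one_iff_dvd]
    exact hd
  obtain ⟨k, hk1, hk2⟩ := Nat.chineseRemainder hn 1 j
  have hk : k.Coprime p := by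
    rw [Nat.coprime_iff_gcd_eq_one] at hjp ⊢
    rw [hk2.gcd_eq, hjp]
  refine ⟨k, hk, hk1, irr_ext fun x => ?_⟩
  obtain ⟨i, rfl⟩ : ∃ i : ℕ, x₀ ^ i = x := by
    have h1 : Subgroup.zpowers x₀ = ⊤ := zpowers_eq_top_of_prime_card h.card hx₀
    have h2 : x ∈ Subgroup.zpowers x₀ := h1 ▸ Subgroup.mem_top x
    rw [← mem_powers_iff_mem_zpowers, Submonoid.mem_powers_iff] at h2
    exact h2
  rw [h.powChar_apply, ← pow_mul, mul_comm, pow_mul, h.lchar_pow, h.lchar_pow, h.lchar_pow]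
  rw [show (μ : P → ℂ) x₀ ^ k = (ν : P → ℂ) x₀ by
    rw [← hj, pow_eq_pow_mod k (hx₀p μ), pow_eq_pow_mod j (hx₀p μ), hk2]]

omit [Fintype G] [Fact p.Prime] in
theorem pow_regular {k : ℕ} (hk : k ≡ 1 [MOD P.index]) {g : G} (hg : ¬ p ∣ orderOf g) :
    g ^ k = g := by
  have h1 : orderOf g ∣ P.index := by
    have := orderOf_dvd_natCard g
    rw [← P.card_mul_index, h.card] at this
    exact (h.prime.coprime_iff_not_dvd.2 hg).symm.dvd_of_dvd_mul_left this
  conv_rhs => rw [← pow_one g]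
  exact pow_eq_pow_iff_modEq.2 (hk.of_dvd h1)

omit [Fact p.Prime] in
theorem dval_comp_pow [Fintype V] (χ : G → ℂ) {k : ℕ} (hk : k ≡ 1 [MOD P.index]) {x : G}
    (hx : x ∈ P) (η : V → ℂ) :
    dval (fun g => χ (g ^ k)) x η = dval χ (x ^ k) η := by
  refine congrArg (fun f : V → ℂ => classInner f η) (funext fun v => ?_)
  show χ ((x * v) ^ k) = χ (x ^ k * v)
  rw [(h.commute hx v.2).mul_pow, h.pow_regular hk (h.not_dvd_orderOf v.2)]

omit [Fintype G] [Fact p.Prime] in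
theorem pow_ne_one {k : ℕ} (hk : k.Coprime p) {x : G} (hx : x ∈ P) (hx1 : x ≠ 1) : x ^ k ≠ 1 :=
  fun e => by
    have h1 := orderOf_dvd_of_pow_eq_one e
    rw [h.orderOf_eq hx hx1] at h1
    exact (h.prime.coprime_iff_not_dvd.1 hk.symm) h1

variable [Fintype P] [Fintype V] [Fintype (IrrCharacter G)]

/-- The exceptional family of a block. -/
theorem exists_families {M : Ideal AlgInt} [M.IsPrime] (hM : IsPModular p M) (η : IrrCharacter V)
    {B : Set (IrrCharacter G)} (hB : IsPBlock M B) {χ₀ : IrrCharacter G} (hχ₀B : χ₀ ∈ B)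
    (hχ₀ : χ₀ ∈ blockSet M P (η : V → ℂ)) :
    ∃ (Y : Set (IrrCharacter G)) (δ : IrrCharacter G → ℤ), Y ⊆ B ∧ Y.Nonempty ∧
      Nat.card Y ∣ p - 1 ∧ Nat.card B = Nat.card Y + (p - 1) / Nat.card Y ∧
      (∀ k : ℕ, k.Coprime p → k ≡ 1 [MOD P.index] →
        (∀ θ ∈ Y, ∃ ψ ∈ Y, ∀ g, (ψ : G → ℂ) g = (θ : G → ℂ) (g ^ k)) ∧
        ∀ χ ∈ B \ Y, ∀ g, (χ : G → ℂ) (g ^ k) = (χ : G → ℂ) g) ∧
      (∀ θ ∈ Y, ∀ ψ ∈ Y, ∃ k : ℕ, k.Coprime p ∧ k ≡ 1 [MOD P.index] ∧
        ∀ g, (ψ : G → ℂ) g = (θ : G → ℂ) (g ^ k)) ∧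
      (∀ χ ∈ B, δ χ = 1 ∨ δ χ = -1) ∧
      ∀ x : G, ¬ p ∣ orderOf x → ∀ θ ∈ Y,
        (∑ᶠ χ ∈ B \ Y, (δ χ : ℂ) * (χ : G → ℂ) x) + (δ θ : ℂ) * (θ : G → ℂ) x = 0 := by
  classical
  have := Fintype.ofFinite (IrrCharacter P)
  obtain ⟨hdvd, Y, ε, w, θ, hε, hYB, hθY, hYθ, hYcard, hXcard, hBcard, hX, hY, -, hrel⟩ :=
    h.exists_structure hM η hB hχ₀B hχ₀
  have hBeq := blockSet_eq hB hχ₀B hχ₀
  have hε0 : (ε : ℂ) ≠ 0 := by rcases hε with rfl | rfl <;> simp
  have hd : ∀ μ, μ ≠ trivChar P → ∀ x : P, x ≠ 1 → dval (θ μ : G → ℂ) (x : G) (η : V → ℂ) =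
      (ε : ℂ) * ∑ l ∈ Finset.univ.filter (fun l => h.Rel (η : V → ℂ) l μ), (l : P → ℂ) x :=
    fun μ hμ x hx => h.dval_of_rel η _ hμ (fun l hl => (hY l μ hl hμ).2.1)
      (fun l hl => (hY l μ hl hμ).2.2) hx
  have hcf : ∀ (χ : IrrCharacter G) (k : ℕ), IsClassFunction G fun g => (χ : G → ℂ) (g ^ k) :=
    fun χ k a b => by
      show (χ : G → ℂ) ((b * a * b⁻¹) ^ k) = _
      rw [conj_pow]
      exact IsIrr.isClassFunction χ.2 _ _
  -- the power map on the exceptional characters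
  have hθk : ∀ μ, μ ≠ trivChar P → ∀ k (hk : k.Coprime p), k ≡ 1 [MOD P.index] →
      (θ (h.powChar hk μ) : G → ℂ) = fun g => (θ μ : G → ℂ) (g ^ k) := by
    intro μ hμ k hk hk1
    have hν := h.powChar_ne hk hμ
    refine h.eq_of_dval_eq (IsIrr.isClassFunction (θ _).2) (hcf _ k) (fun g hg => ?_)
      fun x hx hx1 η' => ?_
    · show _ = (θ μ : G → ℂ) (g ^ k)
      rw [h.pow_regular hk1 hg]
      exact mul_left_cancel₀ hε0
        (add_right_cancel ((hrel _ hν g hg).trans (hrel μ hμ g hg).symm))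
    · rw [h.dval_comp_pow _ hk1 hx]
      have hxk := h.pow_ne_one hk hx hx1
      by_cases hη' : η' ∈ orbitV P η
      · obtain ⟨n, hn, e⟩ := hη'
        have hy : n * x * n⁻¹ ∈ P := (Subgroup.mem_normalizer_iff.1 hn x).1 hx
        have hy1 : n * x * n⁻¹ ≠ 1 := fun e' => hx1 (conj_eq_one_iff.1 e')
        rw [e, ← h.dval_conj (IsIrr.isClassFunction (θ _).2) x _ hn,
          ← h.dval_conj (IsIrr.isClassFunction (θ μ).2) (x ^ k) _ hn, ← conj_pow]
        have e1 := hd _ hν ⟨_, hy⟩ fun e' => hy1 (congrArg Subtype.val e')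
        have e2 := hd μ hμ (⟨_, hy⟩ ^ k) fun e' =>
          h.pow_ne_one hk hy hy1 (by simpa using congrArg Subtype.val e')
        rw [Subgroup.coe_pow] at e2
        rw [e1, e2]
        congr 1
        set S := Finset.univ.filter fun l => h.Rel (η : V → ℂ) l μ
        have himg : S.image (h.powChar hk) =
            Finset.univ.filter fun l => h.Rel (η : V → ℂ) l (h.powChar hk μ) := by
          refine Finset.eq_of_subset_of_card_le (fun l hl => ?_) ?_
          · obtain ⟨l', hl', rfl⟩ := Finset.mem_image.1 hl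
            exact Finset.mem_filter.2 ⟨Finset.mem_univ _,
              h.rel_powChar _ hk (Finset.mem_filter.1 hl').2⟩
          · rw [Finset.card_image_of_injective _ (h.powChar_injective hk), h.card_orbit η μ hμ,
              h.card_orbit η _ hν]
        rw [← himg, Finset.sum_image fun a _ b _ e' => h.powChar_injective hk e']
        exact Finset.sum_congr rfl fun l _ => h.powChar_apply hk l _
      · rw [h.dval_eq_zero_of_not_orbit hM (hBeq ▸ hYB (hθY _ hν) : θ _ ∈ _) hη' hx hx1,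
          h.dval_eq_zero_of_not_orbit hM (hBeq ▸ hYB (hθY μ hμ) : θ μ ∈ _) hη'
            (P.pow_mem hx k) hxk]
  refine ⟨Y, fun χ => if χ ∈ Y then ε else w χ, hYB, ?_, ?_, ?_, fun k hk hk1 => ⟨?_, ?_⟩, ?_, ?_, ?_⟩
  · obtain ⟨μ, hμ⟩ : ∃ μ : IrrCharacter P, μ ≠ trivChar P := by
      have h2 : 1 < Fintype.card (IrrCharacter P) := by
        rw [← Nat.card_eq_fintype_card, h.card_lchar]; exact h.prime.one_lt
      exact Fintype.exists_ne_of_one_lt_card h2 _
    exact ⟨θ μ, hθY μ hμ⟩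
  · rw [hYcard]; exact Nat.div_dvd_of_dvd hdvd
  · rw [hYcard, hBcard, Nat.div_div_self hdvd (by have := h.prime.two_le; omega), add_comm]
  · intro χ hχ
    obtain ⟨μ, hμ, rfl⟩ := hYθ χ hχ
    exact ⟨θ (h.powChar hk μ), hθY _ (h.powChar_ne hk hμ), congrFun (hθk μ hμ k hk hk1)⟩
  · rintro χ ⟨hχB, hχY⟩
    obtain ⟨hw, hwc⟩ := hX χ ⟨hχB, hχY⟩
    refine congrFun (h.eq_of_dval_eq (hcf χ k) (IsIrr.isClassFunction χ.2) (fun g hg => ?_)
      fun x hx hx1 η' => ?_)
    · show (χ : G → ℂ) (g ^ k) = _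
      rw [h.pow_regular hk1 hg]
    · rw [h.dval_comp_pow _ hk1 hx]
      have hxk := h.pow_ne_one hk hx hx1
      by_cases hη' : η' ∈ orbitV P η
      · obtain ⟨n, hn, e⟩ := hη'
        have hy : n * x * n⁻¹ ∈ P := (Subgroup.mem_normalizer_iff.1 hn x).1 hx
        have hy1 : n * x * n⁻¹ ≠ 1 := fun e' => hx1 (conj_eq_one_iff.1 e')
        rw [e, ← h.dval_conj (IsIrr.isClassFunction χ.2) (x ^ k) _ hn,
          ← h.dval_conj (IsIrr.isClassFunction χ.2) x _ hn, ← conj_pow,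
          h.dval_of_const η χ hwc (P.pow_mem hy k) (h.pow_ne_one hk hy hy1),
          h.dval_of_const η χ hwc hy hy1]
      · rw [h.dval_eq_zero_of_not_orbit hM (hBeq ▸ hχB : χ ∈ _) hη' hx hx1,
          h.dval_eq_zero_of_not_orbit hM (hBeq ▸ hχB : χ ∈ _) hη' (P.pow_mem hx k) hxk]
  · intro χ hχ ψ hψ
    obtain ⟨μ, hμ, rfl⟩ := hYθ χ hχ
    obtain ⟨ν, hν, rfl⟩ := hYθ ψ hψ
    obtain ⟨k, hk, hk1, rfl⟩ := h.exists_powChar
      (h.prime.coprime_iff_not_dvd.2 h.not_dvd).symm hμ hν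
    exact ⟨k, hk, hk1, congrFun (hθk μ hμ k hk hk1)⟩
  · intro χ hχ
    show (if χ ∈ Y then ε else w χ) = 1 ∨ (if χ ∈ Y then ε else w χ) = -1
    split_ifs with hc
    · exact hε
    · exact (hX χ ⟨hχ, hc⟩).1
  · intro g hg χ hχ
    obtain ⟨μ, hμ, rfl⟩ := hYθ χ hχ
    simp only [if_pos hχ]
    rw [← hrel μ hμ g hg, add_comm]
    congr 1
    exact finsum_mem_congr rfl fun ψ hψ => by simp only [if_neg hψ.2]

end Setup

end CfsgLib.Blocks.PrimeSylow
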