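import Cfsg.Agent.Lib.Blocks.PrimeSylow.Values
import Cfsg.Agent.Lib.Blocks.DefectTwo

/-!
# Blocks induced from the centralizer of a Sylow subgroup of order `p`
-/

set_option autoImplicit false

open scoped ComplexConjugate

namespace CfsgLib.Blocks.PrimeSylow

open Cfsg CfsgLib.Char

variable {G : Type*} [Group G] [Fintype G] {p : ℕ} {P V : Subgroup G}

namespace Setup

variable (h : Setup p P V)
include h

/-- Multiplication onto the centralizer. -/
noncomputable def centEquiv : P × V ≃ Subgroup.centralizer (P : Set G) :=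
  Equiv.ofBijective
    (fun q => ⟨(q.1 : G) * q.2, mul_mem (h.le_centralizer q.1.2) (h.V_le q.2.2)⟩)
    ⟨fun a b e => by
      obtain ⟨e1, e2⟩ := h.mul_inj a.1.2 b.1.2 a.2.2 b.2.2 (congrArg Subtype.val e)
      exact Prod.ext (Subtype.ext e1) (Subtype.ext e2),
    fun c => by
      obtain ⟨x, hx, v, hv, e⟩ := h.exists_mul c.2
      exact ⟨(⟨x, hx⟩, ⟨v, hv⟩), Subtype.ext e⟩⟩

theorem coe_centEquiv (q : P × V) : ((h.centEquiv q : Subgroup.centralizer (P : Set G)) : G) =
    (q.1 : G) * q.2 := rfl

/-- A character of the centralizer trivial on `P` is inflated from `V`. -/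
theorem exists_restrict (θ : IrrCharacter (Subgroup.centralizer (P : Set G)))
    (hθP : ∀ x : Subgroup.centralizer (P : Set G), (x : G) ∈ P →
      (θ : Subgroup.centralizer (P : Set G) → ℂ) x = (θ : Subgroup.centralizer (P : Set G) → ℂ) 1) :
    ∃ η : IrrCharacter V, ∀ (x : P) (v : V),
      (θ : Subgroup.centralizer (P : Set G) → ℂ) (h.centEquiv (x, v)) = (η : V → ℂ) v := by
  classical
  have : Fintype (Subgroup.centralizer (P : Set G)) := Fintype.ofFinite _
  have : Fintype V := Fintype.ofFinite _
  have : Fintype P := Fintype.ofFinite _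
  have hval : ∀ (x : P) (v : V), (θ : Subgroup.centralizer (P : Set G) → ℂ) (h.centEquiv (x, v)) =
      (θ : Subgroup.centralizer (P : Set G) → ℂ) (Subgroup.inclusion h.V_le v) := by
    intro x v
    have e : h.centEquiv (x, v) = Subgroup.inclusion h.le_centralizer x *
        Subgroup.inclusion h.V_le v := Subtype.ext rfl
    rw [e]
    exact Blocks.apply_mul_of_apply_eq_one (χ := θ) (x := Subgroup.inclusion h.le_centralizer x)
      (fun g => Subtype.ext (Subgroup.mem_centralizer_iff.1 g.2 x x.2).symm) (hθP (Subgroup.inclusion h.le_centralizer x) x.2) _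
  set r : V → ℂ := fun v => (θ : Subgroup.centralizer (P : Set G) → ℂ) (Subgroup.inclusion h.V_le v)
  have hr : IsCharacter V r := Char.IsChar.comp (Subgroup.inclusion h.V_le) (Char.IsIrr.isCharacter θ.2)
  have hnorm : classInner r r = 1 := by
    have hself := classInner_irr_self θ
    rw [classInner, ← Equiv.sum_comp h.centEquiv, Fintype.sum_prod_type] at hself
    simp only [hval, Finset.sum_const, Finset.card_univ, nsmul_eq_mul,
      ← Nat.card_eq_fintype_card] at hself
    rw [← Nat.card_congr h.centEquiv, Nat.card_prod, Nat.cast_mul, mul_inv] at hself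
    rw [classInner]
    have hP0 : (Nat.card P : ℂ) ≠ 0 := Nat.cast_ne_zero.2 Nat.card_pos.ne'
    rw [← hself]
    field_simp
    exact Finset.sum_congr rfl fun v _ => rfl
  exact ⟨⟨r, Char.IsChar.isIrr_of_classInner_eq_one hr hnorm⟩, hval⟩

theorem inducedCentralChar_eq [Fintype P] [Fintype V]
    (θ : Subgroup.centralizer (P : Set G) → ℂ) (η : V → ℂ)
    (hη : ∀ (x : P) (v : V), θ (h.centEquiv (x, v)) = η v) (g : G) :
    inducedCentralChar (Subgroup.centralizer (P : Set G)) θ g = indChar P η g := by
  classical
  have : Fintype (Subgroup.centralizer (P : Set G)) := Fintype.ofFinite _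
  have h1 : θ 1 = η 1 := by
    rw [← hη 1 1]
    exact congrArg θ (Subtype.ext (by simp [coe_centEquiv]))
  rw [inducedCentralChar, finsum_mem_eq_finite_toFinset_sum _ (Set.toFinite _),
    show (Set.toFinite {c : Subgroup.centralizer (P : Set G) | IsConj g (c : G)}).toFinset =
      Finset.univ.filter (fun c : Subgroup.centralizer (P : Set G) => IsConj g (c : G)) by ext; simp,
    Finset.sum_filter, ← Equiv.sum_comp h.centEquiv, Fintype.sum_prod_type, indChar, h1]
  refine Finset.sum_congr (by ext; simp) fun x _ => Finset.sum_congr (by ext; simp) fun v _ => ?_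
  simp only [coe_centEquiv, hη]

end Setup

end CfsgLib.Blocks.PrimeSylow
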