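import Cfsg.Agent.Lib.Blocks.PrimeSylow.Setup
import Cfsg.Agent.Lib.Char.Complete

/-!
# Local multiplicities at a Sylow subgroup of order `p`

`dval χ x η` is the multiplicity function of `η ∈ Irr V` in `v ↦ χ (x v)`.
-/

set_option autoImplicit false

open scoped ComplexConjugate

namespace CfsgLib.Blocks.PrimeSylow

open Cfsg CfsgLib.Char

variable {G : Type*} [Group G]

/-- The multiplicity of `η` in `v ↦ χ (x v)`. -/
noncomputable def dval {V : Subgroup G} [Fintype V] (χ : G → ℂ) (x : G) (η : V → ℂ) : ℂ :=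
  classInner (fun v : V => χ (x * v)) η

/-- The conjugate `v ↦ η (n v n⁻¹)`. -/
noncomputable def cjFun {V : Subgroup G} (η : V → ℂ) (n : G) : V → ℂ :=
  fun v => extendByZero V η (n * v * n⁻¹)

theorem extendByZero_coe {V : Subgroup G} (η : V → ℂ) (v : V) : extendByZero V η v = η v :=
  Subtype.val_injective.extend_apply η 0 v

variable [Fintype G] {p : ℕ} {P V : Subgroup G}

namespace Setup

variable (h : Setup p P V)
include h

omit [Fintype G] in
theorem cjFun_apply (η : V → ℂ) {n : G} (hn : n ∈ Subgroup.normalizer (P : Set G)) (v : V) :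
    cjFun η n v = η ⟨n * v * n⁻¹, h.conj_mem hn v.2⟩ :=
  extendByZero_coe η ⟨_, h.conj_mem hn v.2⟩

/-- Conjugation by an element of the normalizer, on `V`. -/
noncomputable def conjV {n : G} (hn : n ∈ Subgroup.normalizer (P : Set G)) : V ≃* V where
  toFun v := ⟨n * v * n⁻¹, h.conj_mem hn v.2⟩
  invFun v := ⟨n⁻¹ * v * n, by simpa using h.conj_mem (inv_mem hn) v.2⟩
  left_inv v := by ext; simp [mul_assoc]
  right_inv v := by ext; simp [mul_assoc]
  map_mul' a b := by ext; simp [mul_assoc]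

omit [Fintype G] in
theorem cjFun_eq_comp (η : V → ℂ) {n : G} (hn : n ∈ Subgroup.normalizer (P : Set G)) :
    cjFun η n = fun v => η (h.conjV hn v) :=
  funext fun v => h.cjFun_apply η hn v

omit [Fintype G] in
theorem isIrr_cjFun {η : V → ℂ} (hη : IsIrrCharacter V η) {n : G}
    (hn : n ∈ Subgroup.normalizer (P : Set G)) : IsIrrCharacter V (cjFun η n) := by
  rw [h.cjFun_eq_comp η hn]
  exact Char.IsIrr.comp_surjective (h.conjV hn).toMonoidHom (h.conjV hn).surjective hη

omit [Fintype G] in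
theorem cjFun_mul (η : V → ℂ) {m n : G} (hm : m ∈ Subgroup.normalizer (P : Set G))
    (hn : n ∈ Subgroup.normalizer (P : Set G)) :
    cjFun (cjFun η m) n = cjFun η (m * n) := by
  funext v
  rw [h.cjFun_apply _ hn, h.cjFun_apply _ hm, h.cjFun_apply _ (mul_mem hm hn)]
  congr 1
  ext
  simp [mul_assoc]

omit [Fintype G] in
theorem cjFun_one (η : V → ℂ) : cjFun η (1 : G) = η := by
  funext v
  simp [cjFun, extendByZero_coe]

theorem cjFun_of_centralizer {η : V → ℂ} (hη : IsClassFunction V η) {c : G}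
    (hc : c ∈ Subgroup.centralizer (P : Set G)) : cjFun η c = η := by
  funext v
  have hcn : c ∈ Subgroup.normalizer (P : Set G) := Subgroup.mem_normalizer_iff.2 fun y => by
    constructor
    · intro hy
      rwa [← Subgroup.mem_centralizer_iff.1 hc y hy, mul_inv_cancel_right]
    · intro hy
      have e := Subgroup.mem_centralizer_iff.1 hc _ hy
      have : y = c * y * c⁻¹ := by
        have e' : c⁻¹ * (c * y * c⁻¹ * c) = c⁻¹ * (c * (c * y * c⁻¹)) := by rw [e]
        simpa [mul_assoc] using e'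
      rwa [this]
  rw [h.cjFun_apply _ hcn]
  obtain ⟨x, hx, w, hw, rfl⟩ := h.exists_mul hc
  rw [show (⟨x * w * v * (x * w)⁻¹, h.conj_mem hcn v.2⟩ : V) = ⟨w, hw⟩ * v * ⟨w, hw⟩⁻¹ from
    Subtype.ext (by
      show x * w * v * (x * w)⁻¹ = w * v * w⁻¹
      rw [show x * w * (v : G) * (x * w)⁻¹ = x * (w * v * w⁻¹) * x⁻¹ by group,
        (h.commute hx (V.mul_mem (V.mul_mem hw v.2) (V.inv_mem hw))).eq, mul_inv_cancel_right])]
  exact hη v ⟨w, hw⟩

omit [Fintype G] in
theorem dval_conj [Fintype V] {χ : G → ℂ} (hχ : IsClassFunction G χ) (x : G) (η : V → ℂ) {n : G}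
    (hn : n ∈ Subgroup.normalizer (P : Set G)) :
    dval χ (n * x * n⁻¹) η = dval χ x (cjFun η n) := by
  simp only [dval, classInner]
  congr 1
  refine (Fintype.sum_equiv (h.conjV hn).toEquiv _ _ fun v => ?_).symm
  rw [h.cjFun_apply _ hn]
  show _ = χ (n * x * n⁻¹ * (n * v * n⁻¹)) * _
  rw [show n * x * n⁻¹ * (n * v * n⁻¹) = n * (x * v) * n⁻¹ by group, hχ]
  rfl

omit [Fintype G] in
theorem isClassFunction_translate {χ : G → ℂ} (hχ : IsClassFunction G χ) {x : G} (hx : x ∈ P) :
    IsClassFunction V (fun v : V => χ (x * v)) := by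
  intro v w
  show χ (x * ((w * v * w⁻¹ : V) : G)) = χ (x * v)
  rw [Subgroup.coe_mul, Subgroup.coe_mul, Subgroup.coe_inv, ← mul_assoc, ← mul_assoc,
    (h.commute hx w.2).eq, show (w : G) * x * v * (w : G)⁻¹ = w * (x * v) * (w : G)⁻¹ by group, hχ]

/-- `χ (x v) = ∑ η, dval χ x η * η v`. -/
theorem apply_eq_sum [Fintype V] [Fintype (IrrCharacter V)] {χ : G → ℂ}
    (hχ : IsClassFunction G χ) {x : G} (hx : x ∈ P) (v : V) :
    χ (x * v) = ∑ η : IrrCharacter V, dval χ x (η : V → ℂ) * (η : V → ℂ) v :=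
  classFunction_apply_eq_sum (h.isClassFunction_translate hχ hx) v

/-- The multiplication map `P × V → G`. -/
noncomputable def mulHom : P × V →* G where
  toFun q := (q.1 : G) * q.2
  map_one' := by simp
  map_mul' a b := by
    simp only [Prod.fst_mul, Prod.snd_mul, Subgroup.coe_mul]
    rw [mul_assoc, mul_assoc, ← mul_assoc (b.1 : G), (h.commute b.1.2 a.2.2).eq, mul_assoc]

/-- Fourier coefficients of `x ↦ dval χ x η` are natural numbers. -/
theorem exists_mult [Fintype P] [Fintype V] {χ : G → ℂ} (hχ : IsCharacter G χ) {η : V → ℂ}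
    (hη : IsCharacter V η) {l : P → ℂ} (hl : IsCharacter P l) :
    ∃ m : ℕ, classInner (fun x : P => dval χ (x : G) η) l = m := by
  obtain ⟨m, hm⟩ := IsChar.classInner_eq_natCast (Char.IsChar.comp h.mulHom hχ)
    (Char.IsChar.mul (Char.IsChar.comp (MonoidHom.fst P V) hl) (Char.IsChar.comp (MonoidHom.snd P V) hη))
  refine ⟨m, hm ▸ ?_⟩
  simp only [classInner, dval, Pi.mul_apply, MonoidHom.coe_fst, MonoidHom.coe_snd, map_mul,
    Nat.card_prod, Nat.cast_mul, mul_inv, Fintype.sum_prod_type, Finset.mul_sum, Finset.sum_mul]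
  refine Finset.sum_congr rfl fun x _ => Finset.sum_congr rfl fun v _ => ?_
  show _ = _ * ((χ ((x : G) * v)) * _)
  ring

end Setup

open scoped Classical in
theorem sum_irr_mul_conj [Fintype (IrrCharacter G)] (a b : G) :
    ∑ χ : IrrCharacter G, (χ : G → ℂ) a * conj ((χ : G → ℂ) b) =
      ((Finset.univ.filter fun g => g * a * g⁻¹ = b).card : ℂ) := by
  rw [column_orthogonality]
  split_ifs with hc
  · obtain ⟨g₀, hg₀⟩ := isConj_iff.1 hc
    congr 1
    rw [Nat.card_eq_fintype_card, ← Fintype.card_coe]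
    refine Fintype.card_congr
      { toFun := fun c => ⟨g₀ * c, Finset.mem_filter.2 ⟨Finset.mem_univ _, ?_⟩⟩
        invFun := fun g => ⟨g₀⁻¹ * g, ?_⟩
        left_inv := fun c => by simp
        right_inv := fun g => by simp }
    · have hcc : (c : G) * a = a * c := (Subgroup.mem_centralizer_iff.1 c.2 a rfl).symm
      rw [show g₀ * (c : G) * a * (g₀ * c)⁻¹ = g₀ * ((c : G) * a * (c : G)⁻¹) * g₀⁻¹ by group,
        hcc, mul_inv_cancel_right, hg₀]
    · refine Subgroup.mem_centralizer_iff.2 fun y hy => ?_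
      rw [Set.mem_singleton_iff.1 hy]
      have hg := (Finset.mem_filter.1 g.2).2
      calc a * (g₀⁻¹ * g) = g₀⁻¹ * (g₀ * a * g₀⁻¹) * g := by group
        _ = g₀⁻¹ * ((g : G) * a * (g : G)⁻¹) * g := by rw [hg₀, hg]
        _ = g₀⁻¹ * g * a := by group
  · rw [Finset.filter_eq_empty_iff.2 fun g _ e => hc (isConj_iff.2 ⟨g, e⟩)]
    simp

namespace Setup

variable (h : Setup p P V) [Fintype V] [Fintype (IrrCharacter G)]
include h

open scoped Classical in
/-- The Gram relation of the local multiplicities. -/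
theorem sum_dval_mul (η : IrrCharacter V) {x x' : G} (hx : x ∈ P) (hx1 : x ≠ 1) (hx' : x' ∈ P) :
    ∑ χ : IrrCharacter G, dval (χ : G → ℂ) x (η : V → ℂ) * conj (dval (χ : G → ℂ) x' (η : V → ℂ)) =
      ((Finset.univ.filter fun g => g ∈ Subgroup.normalizer (P : Set G) ∧
        cjFun (η : V → ℂ) g = (η : V → ℂ) ∧ g * x * g⁻¹ = x').card : ℂ) / (Nat.card V : ℂ) := by
  simp only [dval, classInner, map_mul, map_sum, map_inv₀, map_natCast, Finset.sum_mul,
    Finset.mul_sum, Complex.conj_conj]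
  rw [Finset.sum_comm]
  simp only [Finset.sum_comm (s := (Finset.univ : Finset (IrrCharacter G)))]
  have hcol : ∀ v w : V, ∑ χ : IrrCharacter G, (χ : G → ℂ) (x * v) * conj ((χ : G → ℂ) (x' * w)) =
      ∑ g : G, if g ∈ Subgroup.normalizer (P : Set G) ∧ g * x * g⁻¹ = x' ∧
        g * (v : G) * g⁻¹ = w then (1 : ℂ) else 0 := by
    intro v w
    rw [sum_irr_mul_conj, Finset.sum_boole]
    congr 2
    refine Finset.filter_congr fun g _ => ⟨fun e => h.fusion hx hx' hx1 v.2 w.2 e, ?_⟩
    rintro ⟨-, e1, e2⟩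
    rw [← e1, ← e2]
    group
  have hinner : ∀ g ∈ Subgroup.normalizer (P : Set G),
      classInner (cjFun (η : V → ℂ) g) (η : V → ℂ) =
        if cjFun (η : V → ℂ) g = (η : V → ℂ) then 1 else 0 := by
    intro g hg
    split_ifs with e
    · rw [e]; exact classInner_irr_self η
    · exact classInner_irr_of_ne (χ := ⟨_, h.isIrr_cjFun η.2 hg⟩)
        (fun e' => e (congrArg Subtype.val e'))
  calc _ = ∑ v : V, ∑ w : V, (Nat.card V : ℂ)⁻¹ ^ 2 * (conj ((η : V → ℂ) v) * (η : V → ℂ) w *
        ∑ χ : IrrCharacter G, (χ : G → ℂ) (x * v) * conj ((χ : G → ℂ) (x' * w))) := by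
        rw [Finset.sum_comm]
        refine Finset.sum_congr rfl fun v _ => Finset.sum_congr rfl fun w _ => ?_
        simp only [Finset.mul_sum]
        exact Finset.sum_congr rfl fun χ _ => by ring
    _ = ∑ g : G, (Nat.card V : ℂ)⁻¹ * if g ∈ Subgroup.normalizer (P : Set G) ∧ g * x * g⁻¹ = x' then
          classInner (cjFun (η : V → ℂ) g) (η : V → ℂ) else 0 := by
        simp only [hcol, Finset.mul_sum]
        simp only [Finset.sum_comm (t := (Finset.univ : Finset G))]
        refine Finset.sum_congr rfl fun g _ => ?_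
        split_ifs with hg
        · rw [classInner, Finset.mul_sum, Finset.mul_sum]
          refine Finset.sum_congr rfl fun v _ => ?_
          rw [Finset.sum_eq_single ⟨g * v * g⁻¹, h.conj_mem hg.1 v.2⟩]
          · rw [if_pos ⟨hg.1, hg.2, rfl⟩, h.cjFun_apply _ hg.1]
            ring
          · intro w _ hw
            rw [if_neg fun e => hw (Subtype.ext e.2.2.symm)]
            ring
          · simp
        · refine (Finset.sum_eq_zero fun v _ => Finset.sum_eq_zero fun w _ => ?_).trans (mul_zero _).symm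
          rw [if_neg fun e => hg ⟨e.1, e.2.1⟩]
          ring
    _ = _ := by
        rw [← Finset.mul_sum, div_eq_mul_inv, mul_comm, ← Finset.sum_boole]
        congr 1
        refine Finset.sum_congr rfl fun g _ => ?_
        by_cases hg : g ∈ Subgroup.normalizer (P : Set G)
        · rw [hinner g hg]
          split_ifs <;> simp_all
        · simp [hg]

/-- Orthogonality to the `p`-regular elements. -/
theorem sum_dval_regular (η : V → ℂ) {x g : G} (hx : x ∈ P) (hx1 : x ≠ 1)
    (hg : ¬ p ∣ orderOf g) :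
    ∑ χ : IrrCharacter G, dval (χ : G → ℂ) x η * conj ((χ : G → ℂ) g) = 0 := by
  classical
  simp only [dval, classInner, Finset.mul_sum, Finset.sum_mul]
  rw [Finset.sum_comm]
  refine Finset.sum_eq_zero fun v _ => ?_
  have h0 : ∑ χ : IrrCharacter G, (χ : G → ℂ) (x * v) * conj ((χ : G → ℂ) g) = 0 := by
    rw [column_orthogonality, if_neg]
    intro hc
    have hd : p ∣ orderOf (x * v) := (IsPPart.dvd_orderOf_iff h.prime (h.isPPart hx v.2)).2 hx1
    obtain ⟨c, hc⟩ := isConj_iff.1 hc
    rw [← hc, show c * (x * v) * c⁻¹ = MulAut.conj c (x * v) by simp, MulEquiv.orderOf_eq] at hg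
    exact hg hd
  calc _ = (Nat.card V : ℂ)⁻¹ * conj (η v) *
        ∑ χ : IrrCharacter G, (χ : G → ℂ) (x * v) * conj ((χ : G → ℂ) g) := by
        rw [Finset.mul_sum]
        exact Finset.sum_congr rfl fun χ _ => by ring
    _ = 0 := by rw [h0, mul_zero]

end Setup

end CfsgLib.Blocks.PrimeSylow
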