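import Cfsg.Agent.Lib.Blocks.PrimeSylow.Stable
import Cfsg.Agent.Lib.Blocks.GroupAlg
import Cfsg.Agent.Lib.Blocks.FirstMain

/-!
# Simple modules attached to idempotents of `N_G(P) / P`

Orthogonal central idempotents of `k[N_G(P)/P]` below the Brauer image of a central idempotent `z`
give independent trace functions of modules fixed by `z`.
-/

set_option autoImplicit false

namespace CfsgLib.Blocks.PrimeSylow

open MonoidAlgebra

universe u

variable {k : Type} [Field k] {G : Type u} [Group G] (P : Subgroup G)

/-- `P` in its normalizer. -/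
abbrev PN : Subgroup (Subgroup.normalizer (P : Set G)) := P.subgroupOf _

/-- The quotient `N_G(P) / P`. -/
abbrev NBar : Type u := (Subgroup.normalizer (P : Set G)) ⧸ PN P

variable [Fintype G] [Fintype (NBar P)]
variable {V : Type*} [AddCommGroup V] [Module k V] (ρ : Representation k G V)

/-- The operator of an element of `k[N_G(P)/P]` through chosen representatives. -/
noncomputable def op (β : MonoidAlgebra k (NBar P)) : Module.End k V :=
  ∑ q : NBar P, β.coeff q • ρ ((Quotient.out q : Subgroup.normalizer (P : Set G)) : G)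

variable {P ρ}

omit [Fintype G] in
theorem op_apply (β : MonoidAlgebra k (NBar P)) (m : V) :
    op P ρ β m =
      ∑ q : NBar P, β.coeff q • ρ ((Quotient.out q : Subgroup.normalizer (P : Set G)) : G) m := by
  simp [op]

omit [Fintype G] [Fintype (NBar P)] in
theorem rho_out {m : V} (hm : m ∈ fixed ρ P) (n : Subgroup.normalizer (P : Set G)) :
    ρ ((Quotient.out (QuotientGroup.mk n : NBar P) : Subgroup.normalizer (P : Set G)) : G) m =
      ρ (n : G) m := by
  have h : (Quotient.out (QuotientGroup.mk n : NBar P))⁻¹ * n ∈ PN P :=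
    QuotientGroup.eq.1 (QuotientGroup.out_eq' _)
  have h' := hm _ (Subgroup.mem_subgroupOf.1 h)
  conv_lhs => rw [← h', ← Module.End.mul_apply, ← map_mul]
  simp

omit [Fintype G] in
theorem op_mem_fixed (β : MonoidAlgebra k (NBar P)) {m : V} (hm : m ∈ fixed ρ P) :
    op P ρ β m ∈ fixed ρ P := by
  rw [op_apply]
  exact Submodule.sum_mem _ fun q _ => Submodule.smul_mem _ _ (rho_mem_fixed (Quotient.out q).2 hm)

omit [Fintype G] in
theorem op_mem_norms [Fintype P] (β : MonoidAlgebra k (NBar P)) {m : V} (hm : m ∈ norms ρ P) :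
    op P ρ β m ∈ norms ρ P := by
  rw [op_apply]
  exact Submodule.sum_mem _ fun q _ => Submodule.smul_mem _ _ (rho_mem_norms (Quotient.out q).2 hm)

omit [Fintype G] in
theorem op_mul (β γ : MonoidAlgebra k (NBar P)) {m : V} (hm : m ∈ fixed ρ P) :
    op P ρ (β * γ) m = op P ρ β (op P ρ γ m) := by
  classical
  simp only [op_apply, coeff_mul_eq_sum, Finset.sum_smul, map_sum, map_smul, Finset.smul_sum,
    smul_smul]
  rw [Finset.sum_comm]
  conv_rhs => rw [Finset.sum_comm]
  refine Finset.sum_congr rfl fun r _ => (Fintype.sum_equiv (Equiv.mulLeft r) _ _ fun s => ?_).symm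
  rw [Equiv.coe_mulLeft, inv_mul_cancel_left, ← Module.End.mul_apply, ← map_mul]
  congr 1
  · ring
  rw [← Subgroup.coe_mul]
  have : (QuotientGroup.mk (Quotient.out r * Quotient.out s) : NBar P) = r * s := by
    rw [QuotientGroup.mk_mul, QuotientGroup.out_eq', QuotientGroup.out_eq']
  show _ = ρ ((Quotient.out (r * s) : Subgroup.normalizer (P : Set G)) : G) m
  rw [← this, rho_out hm]

omit [Fintype G] in
theorem op_single (n : Subgroup.normalizer (P : Set G)) {m : V} (hm : m ∈ fixed ρ P) :
    op P ρ (single (QuotientGroup.mk n : NBar P) 1) m = ρ (n : G) m := by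
  classical
  rw [op_apply, Finset.sum_eq_single (QuotientGroup.mk n : NBar P)]
  · rw [coeff_single, Finsupp.single_eq_same, one_smul, rho_out hm]
  · intro q _ hq
    rw [coeff_single, Finsupp.single_eq_of_ne hq, zero_smul]
  · simp

omit [Fintype G] in
theorem op_comm {β : MonoidAlgebra k (NBar P)} (hβ : IsCentralElt β) {n : G}
    (hn : n ∈ Subgroup.normalizer (P : Set G)) {m : V} (hm : m ∈ fixed ρ P) :
    op P ρ β (ρ n m) = ρ n (op P ρ β m) := by
  have h1 := op_single (ρ := ρ) ⟨n, hn⟩ hm
  have h2 := op_single (ρ := ρ) ⟨n, hn⟩ (op_mem_fixed β hm)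
  simp only at h1 h2
  rw [← h1, ← h2, ← op_mul _ _ hm, ← op_mul _ _ hm, (hβ.commute _).eq]

omit [Fintype G] in
theorem op_zero (m : V) : op P ρ (0 : MonoidAlgebra k (NBar P)) m = 0 := by simp [op_apply]

/-! ### The Brauer image -/

open scoped Classical in
/-- The image of `z` in `k[N_G(P)/P]` under the Brauer map. -/
noncomputable def brBar (z : MonoidAlgebra k G) : MonoidAlgebra k (NBar P) :=
  ofFun fun q => ∑ n : Subgroup.normalizer (P : Set G),
    if (QuotientGroup.mk n : NBar P) = q ∧ (n : G) ∈ Subgroup.centralizer (P : Set G) then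
      z.coeff n else 0

open scoped Classical in
theorem op_brBar (z : MonoidAlgebra k G) {m : V} (hm : m ∈ fixed ρ P) :
    op P ρ (brBar z) m =
      ∑ g ∈ Finset.univ.filter (fun g => g ∈ Subgroup.centralizer (P : Set G)),
        z.coeff g • ρ g m := by
  rw [op_apply]
  simp only [brBar, coeff_ofFun, Finset.sum_smul]
  rw [Finset.sum_comm]
  have : ∀ n : Subgroup.normalizer (P : Set G), (∑ q : NBar P,
      (if (QuotientGroup.mk n : NBar P) = q ∧ (n : G) ∈ Subgroup.centralizer (P : Set G) then
        z.coeff n else 0) • ρ ((Quotient.out q : Subgroup.normalizer (P : Set G)) : G) m) =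
      if (n : G) ∈ Subgroup.centralizer (P : Set G) then z.coeff n • ρ (n : G) m else 0 := by
    intro n
    by_cases hn : (n : G) ∈ Subgroup.centralizer (P : Set G)
    · rw [if_pos hn, Finset.sum_eq_single (QuotientGroup.mk n : NBar P)]
      · rw [if_pos ⟨rfl, hn⟩, rho_out hm]
      · intro q _ hq
        rw [if_neg fun h => hq h.1.symm, zero_smul]
      · simp
    · rw [if_neg hn]
      exact Finset.sum_eq_zero fun q _ => by rw [if_neg fun h => hn h.2, zero_smul]
  rw [Finset.sum_congr rfl fun n _ => this n, ← Finset.sum_filter]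
  refine Finset.sum_bij (fun n _ => (n : G)) (fun n hn => ?_) (fun a _ b _ h => Subtype.ext h)
    (fun g hg => ?_) fun _ _ => rfl
  · simpa using hn
  · simp only [Finset.mem_filter, Finset.mem_univ, true_and] at hg
    exact ⟨⟨g, Blocks.centralizer_le_normalizer' P hg⟩, by simpa using hg, rfl⟩

variable {p : ℕ} [hp : Fact p.Prime] [CharP k p] [Fintype P] (hP : Nat.card P = p)

/-- A vector witnessing `β` on fixed vectors modulo norms. -/
def Good (ρ : Representation k G V) (β : MonoidAlgebra k (NBar P)) : Prop :=
  ∃ m ∈ fixed ρ P, op P ρ β m = m ∧ m ∉ norms ρ P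

variable (P) in
/-- The permutation representation on the cosets. -/
def permRep : Representation k G (G ⧸ P → k) where
  toFun g :=
    { toFun := fun f q => f (g⁻¹ • q)
      map_add' := fun _ _ => rfl
      map_smul' := fun _ _ => rfl }
  map_one' := LinearMap.ext fun f => funext fun q => by simp
  map_mul' a b := LinearMap.ext fun f => funext fun q => by simp [mul_smul]

include hP in
omit [Fintype G] in
theorem good_perm {β : MonoidAlgebra k (NBar P)} (hne : β ≠ 0) (hidem : β * β = β) :
    Good (permRep P) β := by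
  classical
  set δ : G ⧸ P → k := fun q => if q = ((1 : G) : G ⧸ P) then 1 else 0 with hδ
  have hfix : δ ∈ fixed (permRep P) P := fun x hx => funext fun q => by
    show δ (x⁻¹ • q) = δ q
    simp only [hδ]
    refine if_congr ?_ rfl rfl
    rw [inv_smul_eq_iff]
    have : x • ((1 : G) : G ⧸ P) = ((1 : G) : G ⧸ P) :=
      QuotientGroup.eq.2 (by simpa using P.inv_mem hx)
    rw [this]
  refine ⟨op P (permRep P) β δ, op_mem_fixed β hfix, by rw [← op_mul _ _ hfix, hidem], fun h => ?_⟩
  obtain ⟨f, hf⟩ := h
  obtain ⟨q₀, hq₀⟩ : ∃ q, β.coeff q ≠ 0 := by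
    by_contra hcon
    push Not at hcon
    exact hne (by ext q; simp [hcon q])
  set n := ((Quotient.out q₀ : Subgroup.normalizer (P : Set G)) : G)
  have hv := congrFun hf (n : G ⧸ P)
  have hl : ((∑ x : P, permRep (k := k) P (x : G)) f) (n : G ⧸ P) = 0 := by
    simp only [LinearMap.sum_apply, Finset.sum_apply]
    have : ∀ x : P, permRep (k := k) P (x : G) f (n : G ⧸ P) = f (n : G ⧸ P) := fun x => by
      show f (((x : G)⁻¹ * n : G) : G ⧸ P) = _
      congr 1
      refine QuotientGroup.eq.2 ?_
      rw [mul_inv_rev, inv_inv]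
      exact (conj_mem_iff (Quotient.out q₀).2).2 x.2
    rw [Finset.sum_congr rfl fun x _ => this x, Finset.sum_const, Finset.card_univ,
      ← Nat.card_eq_fintype_card, hP, nsmul_eq_mul, CharP.cast_eq_zero, zero_mul]
  rw [hl, op_apply, Finset.sum_apply, Finset.sum_eq_single q₀] at hv
  · refine hq₀ ?_
    have e : δ (n⁻¹ • (n : G ⧸ P)) = 1 := by
      show δ ((n⁻¹ * n : G) : G ⧸ P) = 1
      simp [hδ]
    have : β.coeff q₀ * δ (n⁻¹ • (n : G ⧸ P)) = 0 := hv.symm
    rwa [e, mul_one] at this
  · intro q _ hq
    show β.coeff q * δ (_⁻¹ • _) = 0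
    rw [hδ]
    simp only
    rw [if_neg, mul_zero]
    intro h
    have h' : (((((Quotient.out q : Subgroup.normalizer (P : Set G)) : G))⁻¹ * n : G) : G ⧸ P) =
      ((1 : G) : G ⧸ P) := h
    rw [QuotientGroup.eq, mul_one, mul_inv_rev, inv_inv] at h'
    refine hq ?_
    rw [← QuotientGroup.out_eq' q, ← QuotientGroup.out_eq' q₀]
    refine (QuotientGroup.eq.2 (Subgroup.mem_subgroupOf.2 ?_)).symm
    simpa using h'
  · simp

include hP in
theorem exists_irreducible_of_good {β : MonoidAlgebra k (NBar P)}
    (hidem : β * β = β) : ∀ (d : ℕ) {V : Type u} [AddCommGroup V] [Module k V]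
      [FiniteDimensional k V] (ρ : Representation k G V), Module.finrank k V = d → Good ρ β →
      ∃ (W : Type u) (_ : AddCommGroup W) (_ : Module k W) (_ : FiniteDimensional k W)
        (σ : Representation k G W), σ.IsIrreducible ∧ Good σ β := by
  intro d
  induction d using Nat.strong_induction_on with
  | _ d ih =>
  intro V _ _ _ ρ hd hg
  by_cases hirr : ρ.IsIrreducible
  · exact ⟨V, inferInstance, inferInstance, inferInstance, ρ, hirr, hg⟩
  obtain ⟨m, hm, hem, hmT⟩ := hg
  have : Nontrivial (Subrepresentation ρ) := ⟨⟨⊥, ⊤, fun h => hmT (by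
    have h0 : m ∈ (⊥ : Subrepresentation ρ).toSubmodule := by rw [h]; trivial
    rw [(Submodule.mem_bot k).1 h0]
    exact Submodule.zero_mem _)⟩⟩
  obtain ⟨S, hS0, hS1⟩ : ∃ S : Subrepresentation ρ, S ≠ ⊥ ∧ S ≠ ⊤ := by
    by_contra hcon
    push Not at hcon
    exact hirr ⟨fun a => (em (a = ⊥)).imp id fun h => hcon a h⟩
  have hS0' : S.toSubmodule ≠ ⊥ := fun h => hS0 (Subrepresentation.toSubmodule_injective h)
  have hS1' : S.toSubmodule ≠ ⊤ := fun h => hS1 (Subrepresentation.toSubmodule_injective h)
  set π := ρ.quotient S.toSubmodule (fun g v hv => S.apply_mem_toSubmodule g hv)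
  have hmk : ∀ (g : G) (v : V),
      π g (Submodule.Quotient.mk v) = Submodule.Quotient.mk (ρ g v) := fun g v => rfl
  by_cases hq : (Submodule.Quotient.mk m : V ⧸ S.toSubmodule) ∈ norms π P
  · obtain ⟨v', hv'⟩ := hq
    induction v' using Submodule.Quotient.induction_on with
    | H v =>
      have hs : m - (∑ x : P, ρ x) v ∈ S.toSubmodule := by
        rw [← Submodule.Quotient.mk_eq_zero, Submodule.Quotient.mk_sub, sub_eq_zero, ← hv']
        simp only [LinearMap.sum_apply, hmk]
        rw [← Submodule.mkQ_apply, map_sum]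
        rfl
      set s := m - (∑ x : P, ρ x) v with hs'
      have hsf : s ∈ fixed ρ P :=
        Submodule.sub_mem _ hm (norms_le_fixed hP ⟨v, rfl⟩)
      have hbS : ∀ w ∈ S.toSubmodule, op P ρ β w ∈ S.toSubmodule := fun w hw => by
        rw [op_apply]
        exact Submodule.sum_mem _ fun q _ =>
          Submodule.smul_mem _ _ (S.apply_mem_toSubmodule _ hw)
      have hsub : ∀ (w : S.toSubmodule),
          ((op P S.toRepresentation β w : S.toSubmodule) : V) = op P ρ β w := fun w => by
        rw [op_apply, op_apply, Submodule.coe_sum]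
        rfl
      refine ih _ (hd ▸ Submodule.finrank_lt hS1') S.toRepresentation rfl
        ⟨⟨op P ρ β s, hbS s hs⟩, fun x hx => Subtype.ext (op_mem_fixed β hsf x hx),
          Subtype.ext ((hsub _).trans (by rw [← op_mul _ _ hsf, hidem])), fun h => ?_⟩
      obtain ⟨w, hw⟩ := h
      refine hmT ?_
      have hw' : op P ρ β s = (∑ x : P, ρ x) (w : V) := by
        rw [← show _ = op P ρ β s from congrArg Subtype.val hw]
        simp only [LinearMap.sum_apply, Submodule.coe_sum]
        rfl
      have hsplit : m = op P ρ β s + op P ρ β ((∑ x : P, ρ x) v) := by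
        rw [← map_add, hs', sub_add_cancel, hem]
      rw [hsplit]
      exact Submodule.add_mem _ (hw' ▸ ⟨_, rfl⟩) (op_mem_norms β ⟨v, rfl⟩)
  · refine ih (Module.finrank k (V ⧸ S.toSubmodule)) ?_ π rfl
      ⟨Submodule.Quotient.mk m, fun x hx => by rw [hmk, hm x hx], ?_, hq⟩
    · have := S.toSubmodule.finrank_quotient_add_finrank
      have h0 : 0 < Module.finrank k S.toSubmodule :=
        Nat.pos_of_ne_zero fun h => hS0' (Submodule.finrank_eq_zero.1 h)
      omega
    · conv_rhs => rw [← hem]
      rw [op_apply, op_apply]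
      exact (map_sum S.toSubmodule.mkQ (fun q : NBar P =>
        β.coeff q • ρ ((Quotient.out q : Subgroup.normalizer (P : Set G)) : G) m) _).symm

section

variable [IsAlgClosed k] {ι : Type*} [Fintype ι] (hS : ¬ p ∣ P.index)

include hP hS in
/-- Independent trace functions fixed by `z`. -/
theorem exists_functions (β : ι → MonoidAlgebra k (NBar P)) (hne : ∀ i, β i ≠ 0)
    (hidem : ∀ i, β i * β i = β i) (horth : ∀ i j, i ≠ j → β i * β j = 0)
    (hcen : ∀ i, IsCentralElt (β i)) {z : MonoidAlgebra k G} (hz : IsCentralElt z)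
    (hzβ : ∀ i, brBar z * β i = β i) :
    ∃ τ : ι → G → k, LinearIndependent k τ ∧
      (∀ i g h, τ i (h * g * h⁻¹) = τ i g) ∧
      (∀ i g, ∑ h, z.coeff h * τ i (h * g) = τ i g) ∧
      ∀ i x y, Commute x y → (∃ j : ℕ, x ^ p ^ j = 1) → τ i (x * y) = τ i y := by
  classical
  choose W iA iM iF σ hirr hgood using fun i =>
    exists_irreducible_of_good (β := β i) hP (hidem i) _ (permRep P) rfl
      (good_perm hP (hne i) (hidem i))
  -- different indices give different modules
  have hdist : ∀ i j, i ≠ j → ∀ L : W i →ₗ[k] W j,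
      (∀ g w, L (σ i g w) = σ j g (L w)) → Function.Bijective L → False := by
    intro i j hij L hL hbij
    have := hirr j
    obtain ⟨m, hm, hem, hmT⟩ := hgood i
    obtain ⟨m', hm', hem', hmT'⟩ := hgood j
    obtain ⟨s, hs⟩ := exists_scalar_fixed (ρ := σ j) hP hS (op P (σ j) (β i))
      (fun w hw => op_mem_fixed _ hw) (fun w hw => op_mem_norms _ hw)
      (fun n hn w hw => by rw [op_comm (hcen i) hn hw, sub_self]; exact Submodule.zero_mem _)
    have hLm : L m ∈ fixed (σ j) P := fun x hx => by rw [← hL, hm x hx]
    have hLop : op P (σ j) (β i) (L m) = L m := by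
      conv_rhs => rw [← hem]
      simp only [op_apply, map_sum, map_smul, hL]
    have hLT : L m ∉ norms (σ j) P := by
      rintro ⟨w, hw⟩
      obtain ⟨w', rfl⟩ := hbij.2 w
      refine hmT ⟨w', hbij.1 ?_⟩
      rw [← hw]
      simp only [LinearMap.sum_apply, map_sum, hL]
    have h1 : s = 1 := by
      by_contra h
      refine hLT ?_
      have := Submodule.smul_mem _ (1 - s)⁻¹ (hs _ hLm)
      rwa [hLop, ← one_smul k (L m), smul_smul, mul_one, ← sub_smul, smul_smul,
        inv_mul_cancel₀ (sub_ne_zero.2 (Ne.symm h)), one_smul] at this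
    refine hmT' ?_
    have := hs m' hm'
    rw [h1, one_smul] at this
    conv at this => enter [2, 1, 2]; rw [← hem']
    rw [← op_mul _ _ hm', horth i j hij, op_zero, zero_sub, Submodule.neg_mem_iff] at this
    exact this
  -- `z` acts as the identity
  have hz1 : ∀ i, (σ i).asAlgebraHom z = 1 := by
    intro i
    have := hirr i
    obtain ⟨m, hm, hem, hmT⟩ := hgood i
    obtain ⟨c, hc⟩ := (Representation.IsIrreducible.algebraMap_intertwiningMap_bijective_of_isAlgClosed
      (ρ := σ i)).2 (⟨(σ i).asAlgebraHom z, fun g => by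
        show (σ i).asAlgebraHom z * σ i g = σ i g * (σ i).asAlgebraHom z
        rw [← (σ i).asAlgebraHom_single_one g, ← map_mul, ← map_mul, (hz.commute _).eq]⟩ :
        Representation.IntertwiningMap (σ i) (σ i))
    have hc' : (σ i).asAlgebraHom z = c • 1 :=
      LinearMap.ext fun w => by
        have := congrArg (fun T : Representation.IntertwiningMap (σ i) (σ i) => T.toLinearMap w) hc
        simpa using this.symm
    have h := central_sub_mem (ρ := σ i) hP hz hm
    rw [← op_brBar z hm, hc'] at h
    conv at h => enter [2, 2]; rw [← hem]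
    rw [← op_mul _ _ hm, hzβ i, hem, LinearMap.smul_apply, Module.End.one_apply] at h
    have hc1 : c = 1 := by
      by_contra hne1
      refine hmT ?_
      have := Submodule.smul_mem _ (c - 1)⁻¹ h
      rwa [← one_smul k m, smul_smul, mul_one, ← sub_smul, smul_smul,
        inv_mul_cancel₀ (sub_ne_zero.2 hne1), one_smul] at this
    rw [hc', hc1, one_smul]
  refine ⟨fun i g => LinearMap.trace k (W i) (σ i g), ?_, fun i g h => ?_, fun i g => ?_,
    fun i x y hxy hx => ?_⟩
  · -- density
    let M := ∀ i, (σ i).asModule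
    have hcomp : ∀ (f : Module.End (MonoidAlgebra k G) M) (i j : ι),
        ∃ c : k, (i ≠ j → c = 0) ∧ ∀ v : (σ i).asModule, f (Pi.single i v) j =
          if h : i = j then c • (h ▸ v) else 0 := by
      intro f i j
      let g : (σ i).asModule →ₗ[MonoidAlgebra k G] (σ j).asModule :=
        (LinearMap.proj j : M →ₗ[MonoidAlgebra k G] (σ j).asModule) ∘ₗ f ∘ₗ
          LinearMap.single (MonoidAlgebra k G) (fun l => (σ l).asModule) i
      by_cases hij : i = j
      · subst hij
        have := hirr i
        obtain ⟨c, hc⟩ := (IsSimpleModule.algebraMap_end_bijective_of_isAlgClosed k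
          (A := MonoidAlgebra k G) (V := (σ i).asModule)).2 g
        refine ⟨c, fun h => absurd rfl h, fun v => ?_⟩
        rw [dif_pos rfl]
        show g v = c • v
        rw [← hc]
        rfl
      · refine ⟨0, fun _ => rfl, fun v => ?_⟩
        rw [dif_neg hij]
        have := hirr i
        have := hirr j
        rcases LinearMap.bijective_or_eq_zero g with hb | h0
        · refine (hdist i j hij ((σ j).asModuleEquiv.toLinearMap ∘ₗ g.restrictScalars k ∘ₗ
            (σ i).asModuleEquiv.symm.toLinearMap) (fun x w => ?_) ?_).elim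
          · simp only [LinearMap.comp_apply, LinearEquiv.coe_coe, LinearMap.coe_restrictScalars]
            rw [Representation.asModuleEquiv_symm_map_rho, map_smul,
              Representation.asModuleEquiv_map_smul, Representation.asAlgebraHom_of]
          · simp only [LinearMap.coe_comp, LinearEquiv.coe_coe, LinearMap.coe_restrictScalars]
            exact (σ j).asModuleEquiv.bijective.comp (hb.comp (σ i).asModuleEquiv.symm.bijective)
        · show g v = 0
          rw [h0]; rfl
    rw [Fintype.linearIndependent_iff]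
    intro c hc i
    have := hirr i
    have := Representation.IsIrreducible.finrank_intertwiningMap_self (σ i)
    have hnt : Nontrivial (σ i).asModule := IsSimpleModule.nontrivial (MonoidAlgebra k G) _
    obtain ⟨v₀, hv₀⟩ := exists_ne (0 : (σ i).asModule)
    obtain ⟨φ, hφ⟩ := Module.Projective.exists_dual_ne_zero k hv₀
    let φ' := (φ v₀)⁻¹ • φ
    let Fk : M →ₗ[k] M := (LinearMap.single k (fun l => (σ l).asModule) i) ∘ₗ (φ'.smulRight v₀) ∘ₗ LinearMap.proj i
    have hF : ∀ (f : Module.End (MonoidAlgebra k G) M) (x : M), Fk (f x) = f (Fk x) := by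
      intro f x
      have hx : x = ∑ j, Pi.single j (x j) := (Finset.univ_sum_single x).symm
      choose cc hcc hcv using hcomp f
      have hfx : f x i = cc i i • x i := by
        conv_lhs => rw [hx, map_sum, Finset.sum_apply, Finset.sum_eq_single i
          (fun j _ hj => by rw [hcv, dif_neg hj]) (by simp), hcv, dif_pos rfl]
      funext j
      show Pi.single i (φ' (f x i) • v₀) j = f (Pi.single i (φ' (x i) • v₀)) j
      rw [hcv, hfx, map_smul, smul_eq_mul]
      by_cases hij : i = j
      · subst hij
        rw [dif_pos rfl]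
        exact (Pi.single_eq_same i _).trans (mul_smul _ _ _)
      · rw [dif_neg hij]
        exact Pi.single_eq_of_ne (Ne.symm hij) _
    let F : Module.End (Module.End (MonoidAlgebra k G) M) M :=
      { toFun := Fk, map_add' := Fk.map_add, map_smul' := fun f x => hF f x }
    let B := Module.finBasis k M
    obtain ⟨r, hr⟩ := jacobson_density F (Finset.univ.image B)
    have hr' : ∀ x : M, Fk x = r • x := by
      intro x
      rw [← B.sum_repr x, map_sum, Finset.smul_sum]
      refine Finset.sum_congr rfl fun a _ => ?_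
      rw [map_smul, smul_comm, ← hr (B a) (Finset.mem_image_of_mem _ (Finset.mem_univ _))]
      rfl
    have htr : ∀ j, ∑ g, r.coeff g * LinearMap.trace k (W j) (σ j g) = if j = i then 1 else 0 := by
      intro j
      have e1 : ∑ g, r.coeff g * LinearMap.trace k (W j) (σ j g) =
          LinearMap.trace k (W j) ((σ j).asAlgebraHom r) := by
        rw [asAlgebraHom_eq_sum', map_sum]
        exact Finset.sum_congr rfl fun g _ => by rw [map_smul, smul_eq_mul]
      rw [e1]
      have e2 : ∀ v : (σ j).asModule,
          (σ j).asAlgebraHom r ((σ j).asModuleEquiv v) = (σ j).asModuleEquiv (Fk (Pi.single j v) j) :=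
        fun v => by
          rw [hr', Pi.smul_apply, Pi.single_eq_same, Representation.asModuleEquiv_map_smul]
      by_cases hji : j = i
      · subst hji
        rw [if_pos rfl]
        have : (σ j).asAlgebraHom r = ((φ' ∘ₗ (σ j).asModuleEquiv.symm.toLinearMap).smulRight
            ((σ j).asModuleEquiv v₀)) := LinearMap.ext fun w => by
          obtain ⟨v, rfl⟩ := (σ j).asModuleEquiv.surjective w
          rw [e2]
          show (σ j).asModuleEquiv (Pi.single j (φ' ((Pi.single j v : M) j) • v₀) j) = _
          erw [Pi.single_eq_same, Pi.single_eq_same]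
          simp
        rw [this, LinearMap.trace_smulRight]
        simp [φ', inv_mul_cancel₀ hφ]
      · rw [if_neg hji]
        have : (σ j).asAlgebraHom r = 0 := LinearMap.ext fun w => by
          obtain ⟨v, rfl⟩ := (σ j).asModuleEquiv.surjective w
          rw [e2]
          show (σ j).asModuleEquiv (Pi.single i (φ' ((Pi.single j v : M) i) • v₀) j) = _
          erw [Pi.single_eq_of_ne hji]
          exact map_zero _
        rw [this, map_zero]
    have h := congrArg (fun f : G → k => ∑ g, r.coeff g * f g) hc
    simp only [Finset.sum_apply, Pi.smul_apply, smul_eq_mul, Finset.mul_sum, Pi.zero_apply,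
      mul_zero, Finset.sum_const_zero] at h
    rw [Finset.sum_comm] at h
    simp only [mul_left_comm (r.coeff _) (c _), ← Finset.mul_sum, htr, mul_ite, mul_one, mul_zero,
      Finset.sum_ite_eq', Finset.mem_univ, if_true] at h
    exact h
  · show LinearMap.trace k _ (σ i (h * g * h⁻¹)) = _
    rw [map_mul, LinearMap.trace_mul_comm, ← map_mul, inv_mul_cancel_left]
  · show _ = LinearMap.trace k (W i) (σ i g)
    conv_rhs => rw [← one_mul (σ i g), ← hz1 i]
    rw [asAlgebraHom_eq_sum', Finset.sum_mul, map_sum]
    exact Finset.sum_congr rfl fun h _ => by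
      rw [smul_mul_assoc, ← map_mul, map_smul, smul_eq_mul]
  · show LinearMap.trace k (W i) (σ i (x * y)) = LinearMap.trace k (W i) (σ i y)
    obtain ⟨j, hj⟩ := hx
    have hn : IsNilpotent ((σ i x - 1) * σ i y) := by
      refine Commute.isNilpotent_mul_right (((hxy.map (σ i))).sub_left (Commute.one_left _)) ?_
      refine ⟨p ^ j, ?_⟩
      have : CharP (Module.End k (W i)) p := by
        have : Nontrivial (W i) := by
          have := hirr i
          exact (σ i).asModuleEquiv.toEquiv.nontrivial_congr.1
            (IsSimpleModule.nontrivial (MonoidAlgebra k G) _)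
        exact charP_of_injective_algebraMap' k p
      rw [sub_pow_char_pow_of_commute _ _ (Commute.one_right (σ i x)), one_pow, ← map_pow, hj,
        map_one, sub_self]
    have := (LinearMap.isNilpotent_trace_of_isNilpotent hn).eq_zero
    rw [sub_mul, one_mul, map_sub, ← map_mul, sub_eq_zero] at this
    exact this

end

end CfsgLib.Blocks.PrimeSylow
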