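import Cfsg.Agent.Lib.Blocks.PrimeSylow.Data
import Cfsg.Agent.Lib.Blocks.PrimeSylow.Rank
import Cfsg.Agent.Lib.Blocks.PrimeSylow.Simple
import Cfsg.Agent.Lib.Blocks.PrimeSylow.Count

/-!
# The inertial index bounds the rank of the block from below
-/

set_option autoImplicit false

open scoped ComplexConjugate

namespace CfsgLib.Blocks.PrimeSylow

open Cfsg CfsgLib.Char MonoidAlgebra

universe u

variable {G : Type u} [Group G] [Fintype G] {p : ℕ} [Fact p.Prime] {P V : Subgroup G}

namespace Setup

variable (h : Setup p P V)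
include h

/-- `V` inside the normalizer. -/
noncomputable def toN : V →* Subgroup.normalizer (P : Set G) where
  toFun v := ⟨v, Blocks.centralizer_le_normalizer' P (h.V_le v.2)⟩
  map_one' := rfl
  map_mul' _ _ := rfl

/-- `V` inside `N_G(P) / P`. -/
noncomputable def toBar : V →* NBar P := (QuotientGroup.mk' (PN P)).comp h.toN

theorem toBar_injective : Function.Injective h.toBar := by
  refine (injective_iff_map_eq_one _).2 fun v hv => Subtype.ext ?_
  have hvP : (v : G) ∈ P := Subgroup.mem_subgroupOf.1 ((QuotientGroup.eq_one_iff (h.toN v)).1 hv)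
  exact (h.mul_inj hvP P.one_mem V.one_mem v.2 (by simp)).2.symm

omit [Fact p.Prime] in
theorem mk_mul_eq {x : G} (hx : x ∈ P) {v : G} (hv : v ∈ V)
    (hn : x * v ∈ Subgroup.normalizer (P : Set G)) :
    (QuotientGroup.mk ⟨x * v, hn⟩ : NBar P) = h.toBar ⟨v, hv⟩ := by
  refine QuotientGroup.eq.2 (Subgroup.mem_subgroupOf.2 ?_)
  show (x * v)⁻¹ * v ∈ P
  rw [(h.commute hx hv).eq, mul_inv_rev, inv_mul_cancel_right]
  exact P.inv_mem hx

theorem range_normal : (h.toBar).range.Normal := ⟨by
  rintro _ ⟨v, rfl⟩ q
  induction q using QuotientGroup.induction_on with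
  | H m => exact ⟨⟨m * v * (m : G)⁻¹, h.conj_mem m.2 v.2⟩, rfl⟩⟩

/-- Conjugation on `P`, on `N_G(P) / P`. -/
noncomputable def act : NBar P →* MulAut P :=
  QuotientGroup.lift (PN P) P.normalizerMonoidHom fun n hn => by
    rw [Subgroup.normalizerMonoidHom_ker, Subgroup.mem_subgroupOf]
    exact h.le_centralizer (Subgroup.mem_subgroupOf.1 hn)

theorem ker_act : h.act.ker = h.toBar.range := by
  ext q
  induction q using QuotientGroup.induction_on with
  | H m =>
    show P.normalizerMonoidHom m = 1 ↔ _
    rw [← MonoidHom.mem_ker, Subgroup.normalizerMonoidHom_ker, Subgroup.mem_subgroupOf]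
    constructor
    · intro hm
      obtain ⟨x, hx, v, hv, e⟩ := h.exists_mul hm
      refine ⟨⟨v, hv⟩, ?_⟩
      rw [← h.mk_mul_eq hx hv (e ▸ m.2)]
      exact congrArg _ (Subtype.ext e)
    · rintro ⟨v, hv⟩
      have h1 := Subgroup.mem_subgroupOf.1 (QuotientGroup.eq.1 hv)
      have h2 : (m : G) = v * ((v : G)⁻¹ * m) := by group
      rw [h2]
      exact mul_mem (h.V_le v.2) (h.le_centralizer h1)

omit [Fact p.Prime] in
theorem isCyclic_aut : IsCyclic (MulAut P) ∧ Nat.card (MulAut P) = p - 1 := by
  have := Fact.mk h.prime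
  haveI : IsCyclic P := isCyclic_of_prime_card h.card
  haveI : Finite P := Nat.finite_of_card_ne_zero (h.card ▸ h.prime.ne_zero)
  refine ⟨?_, by rw [IsCyclic.card_mulAut, h.card, Nat.totient_prime h.prime]⟩
  haveI : IsCyclic (ZMod (Nat.card P))ˣ := by rw [h.card]; infer_instance
  exact isCyclic_of_injective (IsCyclic.mulAutMulEquiv P).toMonoidHom
    (IsCyclic.mulAutMulEquiv P).injective

section

variable [Fintype V] [Fintype (NBar P)]

/-- The orbit characters of `N_G(P) / P`, and the inertial index. -/
theorem exists_over (η : IrrCharacter V) :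
    h.inertialIndex (η : V → ℂ) ∣ p - 1 ∧
    ∃ ψ : Fin (h.inertialIndex (η : V → ℂ)) → IrrCharacter (NBar P), Function.Injective ψ ∧
      ∀ i, ∃ r : ℂ, ∀ v : V, (ψ i : NBar P → ℂ) (h.toBar v) =
        r * ∑ q : NBar P, cjFun (η : V → ℂ) ((Quotient.out q : Subgroup.normalizer (P : Set G)) : G) v := by
  classical
  set W := h.toBar.range
  haveI hW : W.Normal := h.range_normal
  have : Fintype W := Fintype.ofFinite W
  let e : V ≃* W := MonoidHom.ofInjective h.toBar_injective
  let θ : IrrCharacter W :=
    ⟨fun w => (η : V → ℂ) (e.symm w), IsIrr.comp_surjective e.symm.toMonoidHom e.symm.surjective η.2⟩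
  have hconj : ∀ (m : Subgroup.normalizer (P : Set G)) (v : V),
      Clifford.conjFn hW (θ : W → ℂ) (QuotientGroup.mk m) (e v) = cjFun (η : V → ℂ) (m : G) v := by
    intro m v
    rw [Clifford.conjFn_apply, h.cjFun_apply _ m.2]
    show (η : V → ℂ) (e.symm _) = _
    refine congrArg _ ?_
    exact e.injective ((e.apply_symm_apply _).trans (Subtype.ext rfl))
  set T := Clifford.inertia hW (θ : W → ℂ)
  have hTmem : ∀ m : Subgroup.normalizer (P : Set G),
      (QuotientGroup.mk m : NBar P) ∈ T ↔ (m : G) ∈ h.inertiaT (η : V → ℂ) := by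
    intro m
    rw [Clifford.mem_inertia, h.mem_inertiaT]
    constructor
    · intro hm
      refine ⟨m.2, funext fun v => ?_⟩
      rw [← hconj m v, hm]
      exact congrArg _ (e.symm_apply_apply v)
    · rintro ⟨-, hm⟩
      funext w
      obtain ⟨v, rfl⟩ := e.surjective w
      rw [hconj m v, hm]
      exact congrArg _ (e.symm_apply_apply v).symm
  have hidx : W.relIndex T = h.inertialIndex (η : V → ℂ) := by
    set π : Subgroup.normalizer (P : Set G) →* NBar P := QuotientGroup.mk' (PN P)
    have hTc : T.comap π = (h.inertiaT (η : V → ℂ)).subgroupOf _ := by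
      ext m; exact hTmem m
    have hWc : W.comap π = (Subgroup.centralizer (P : Set G)).subgroupOf _ := by
      rw [← Subgroup.normalizerMonoidHom_ker, show W = h.act.ker from h.ker_act.symm]
      rfl
    have := Subgroup.relIndex_comap W π (T.comap π)
    rw [Subgroup.map_comap_eq_self_of_surjective (QuotientGroup.mk'_surjective _), hTc, hWc,
      Subgroup.relIndex_subgroupOf (fun g hg => (h.mem_inertiaT.1 hg).1)] at this
    exact this.symm
  obtain ⟨hcyc, hcard⟩ := h.isCyclic_aut
  refine ⟨?_, ?_⟩
  · rw [← hidx, ← hcard]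
    refine (Subgroup.relIndex_dvd_index_of_normal W T).trans ?_
    rw [show W = h.act.ker from h.ker_act.symm, Subgroup.index_ker]
    exact Subgroup.card_subgroup_dvd_card _
  · obtain ⟨ψ, hψ, hval⟩ := exists_over_orbit W θ T (fun g => Iff.rfl) h.act h.ker_act
    refine ⟨ψ ∘ Fin.cast hidx.symm, hψ.comp (Fin.cast_injective _), fun i => ?_⟩
    obtain ⟨r, hr⟩ := hval (Fin.cast hidx.symm i)
    refine ⟨r, fun v => ?_⟩
    have := hr (e v)
    refine this.trans ?_
    congr 1
    refine Finset.sum_congr rfl fun q _ => ?_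
    conv_lhs => rw [← QuotientGroup.out_eq' q]
    exact hconj _ v

/-- The inertial index is at most the rank of the block. -/
theorem inertialIndex_le_blockRank [Fintype P] {M : Ideal AlgInt} [M.IsPrime] (hM : IsPModular p M)
    (η : IrrCharacter V) {B : Set (IrrCharacter G)} (hB : IsPBlock M B) {χ : IrrCharacter G}
    (hχB : χ ∈ B) (hχ : χ ∈ blockSet M P (η : V → ℂ)) :
    h.inertialIndex (η : V → ℂ) ≤ blockRank p B := by
  classical
  have := Fintype.ofFinite (IrrCharacter G)
  have := charP_residueField hM
  have := isAlgClosed_res (M := M)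
  obtain ⟨-, ψ, hψinj, hψ⟩ := h.exists_over η
  set π : Subgroup.normalizer (P : Set G) → NBar P := QuotientGroup.mk
  -- the Brauer image over the local ring
  set zO : MonoidAlgebra (localRing M) (NBar P) := ofFun fun q =>
    ∑ n : Subgroup.normalizer (P : Set G),
      if (QuotientGroup.mk n : NBar P) = q ∧ (n : G) ∈ Subgroup.centralizer (P : Set G) then
        (blockIdemO M B).coeff (n : G) else 0 with hzO
  have hbc : ∀ g : G, ((blockIdemO M B).coeff g : ℂ) = blockCoeff B g := fun g => by
    rw [← coeff_inc, inc_blockIdemO hB, coeff_blockIdem]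
  have hred : red M zO = brBar (blockIdemBar M B) := by
    ext q
    simp only [zO, brBar, coeff_red, coeff_ofFun, map_sum]
    refine Finset.sum_congr rfl fun n _ => ?_
    split_ifs <;> simp [blockIdemBar]
  have hzc : IsCentralElt zO := by
    intro q t
    induction t using QuotientGroup.induction_on with
    | H m =>
      simp only [zO, coeff_ofFun]
      refine Fintype.sum_equiv (MulAut.conj m⁻¹).toEquiv _ _ fun n => ?_
      simp only [MulEquiv.toEquiv_eq_coe, MulEquiv.coe_toEquiv, MulAut.conj_apply, inv_inv]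
      refine if_congr (and_congr ?_ ?_) ?_ rfl
      · rw [QuotientGroup.mk_mul, QuotientGroup.mk_mul, QuotientGroup.mk_inv]
        exact ⟨fun e => by rw [e]; group, fun e => by rw [← e]; group⟩
      · show _ ↔ ((m⁻¹ * n * m : Subgroup.normalizer (P : Set G)) : G) ∈ _
        simp only [Subgroup.coe_mul, Subgroup.coe_inv, Subgroup.mem_centralizer_iff]
        constructor
        · intro hn x hx
          have := hn _ ((Subgroup.mem_normalizer_iff.1 m.2 x).1 hx)
          calc x * ((m : G)⁻¹ * n * m) = (m : G)⁻¹ * ((m * x * (m : G)⁻¹) * n) * m := by group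
            _ = (m : G)⁻¹ * (n * (m * x * (m : G)⁻¹)) * m := by rw [this]
            _ = _ := by group
        · intro hn x hx
          have := hn _ ((Subgroup.mem_normalizer_iff''.1 m.2 x).1 hx)
          calc x * (n : G) = (m : G) * (((m : G)⁻¹ * x * m) * ((m : G)⁻¹ * n * m)) * (m : G)⁻¹ := by group
            _ = (m : G) * (((m : G)⁻¹ * n * m) * ((m : G)⁻¹ * x * m)) * (m : G)⁻¹ := by rw [this]
            _ = _ := by group
      · have := isCentralElt_blockIdemO hB (n : G) (m : G)⁻¹
        simp only [inv_inv] at this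
        exact this.symm
  -- the scalar
  set S : ℂ := ∑ x : P, ∑ v : V, blockCoeff B ((x : G) * v) * ((η : V → ℂ) v / (η : V → ℂ) 1)
  have hSm : S ∈ localRing M := sum_mem fun x _ => sum_mem fun v _ =>
    mul_mem (blockCoeff_mem hB _) (h.div_degree_mem hM η v)
  have hS : rv M S = 1 := by
    have hgroup : S = ∑ C : ConjClasses G,
        blockCoeff B (Quotient.out C) * indChar P (η : V → ℂ) (Quotient.out C) := by
      simp only [indChar, Finset.mul_sum]
      rw [Finset.sum_comm]
      refine Finset.sum_congr (by ext; simp) fun x _ => ?_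
      rw [Finset.sum_comm]
      refine Finset.sum_congr (by ext; simp) fun v _ => ?_
      rw [Finset.sum_eq_single (ConjClasses.mk ((x : G) * v))]
      · have hc : IsConj (Quotient.out (ConjClasses.mk ((x : G) * v))) ((x : G) * v) :=
          ConjClasses.mk_eq_mk_iff_isConj.1 (Quotient.out_eq _)
        rw [if_pos hc,
          Char.isClassFunction_iff_isConj.1 (isClassFunction_blockCoeff B) _ _ hc]
      · intro C _ hC
        rw [if_neg fun hc => hC ((Quotient.out_eq C).symm.trans (ConjClasses.mk_eq_mk_iff_isConj.2 hc)),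
          mul_zero]
      · simp
    have hJm : ∀ g, indChar P (η : V → ℂ) g ∈ localRing M := fun g =>
      ((memLocalIdeal_sub_iff (centralChar_mem χ g)).1 (hχ g)).1
    rw [hgroup, rv_sum Finset.univ (fun C : ConjClasses G =>
      blockCoeff B (Quotient.out C) * indChar P (η : V → ℂ) (Quotient.out C))
      fun C _ => mul_mem (blockCoeff_mem hB _) (hJm _)]
    have h1 := omegaBar_blockIdemBar (M := M) hB χ
    rw [if_pos hχB] at h1
    rw [← h1, omegaBar]
    refine Finset.sum_congr (by ext; simp) fun C _ => ?_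
    rw [rv_mul (blockCoeff_mem hB _) (hJm _),
      ((memLocalIdeal_sub_iff (centralChar_mem χ _)).1 (hχ _)).2]
    congr 1
    · rw [← hbc, rv_coe, blockIdemBar, coeff_red]
    · exact rv_coe (centralCharO M χ _)
  -- the idempotents
  have hNc : ¬ p ∣ Nat.card (NBar P) := fun hd =>
    h.not_dvd (hd.trans (Subgroup.relIndex_dvd_index_of_le P.le_normalizer))
  have hεm : ∀ i q, blockCoeff ({ψ i} : Set (IrrCharacter (NBar P))) q ∈ localRing M := fun i q => by
    rw [blockCoeff, finsum_mem_singleton, ← IsIrr.map_inv (ψ i).2]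
    exact mul_mem (inv_natCast_mem hM hNc)
      (mul_mem (apply_mem_localRing (ψ i) 1) (apply_mem_localRing (ψ i) _))
  set εO : Fin (h.inertialIndex (η : V → ℂ)) → MonoidAlgebra (localRing M) (NBar P) :=
    fun i => ofFun fun q => ⟨_, hεm i q⟩
  have hεinc : ∀ i, inc M (εO i) = blockIdem {ψ i} := fun i => by
    ext q; simp [εO]
  have hεc : ∀ i, IsCentralElt (εO i) := fun i q t => by
    simp only [εO, coeff_ofFun]
    exact Subtype.ext (isClassFunction_blockCoeff _ q t)
  have hεne : ∀ i, red M (εO i) ≠ 0 := by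
    intro i h0
    have hw := omega_blockIdem {ψ i} (ψ i)
    rw [if_pos (Set.mem_singleton _), omega_apply] at hw
    have h1 := congrArg (rv M) hw
    have hm : ∀ q : NBar P, (ψ i : NBar P → ℂ) q / (ψ i : NBar P → ℂ) 1 ∈ localRing M := fun q => by
      rw [div_eq_mul_inv, apply_one_eq_charDegree (ψ i)]
      exact mul_mem (apply_mem_localRing (ψ i) q)
        (inv_natCast_mem hM fun hd => hNc (hd.trans (Blocks.charDegree_dvd_card (ψ i))))
    rw [Finset.sum_div] at h1
    simp only [coeff_blockIdem, mul_div_assoc] at h1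
    rw [rv_sum _ _ fun q _ => mul_mem (hεm i q) (hm q), rv_one] at h1
    refine zero_ne_one (Eq.trans (Eq.symm ?_) h1)
    refine Finset.sum_eq_zero fun q _ => ?_
    rw [rv_mul (hεm i q) (hm q)]
    have : rv M (blockCoeff {ψ i} q) = 0 := by
      have := congrArg (fun a : MonoidAlgebra (Res M) (NBar P) => a.coeff q) h0
      simp only [coeff_red, εO, coeff_ofFun, ← rv_coe] at this
      simpa using this
    rw [this, zero_mul]
  have hzmul : ∀ i, red M zO * red M (εO i) = red M (εO i) := by
    intro i
    obtain ⟨r, hr⟩ := hψ i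
    have hom : omega (ψ i : NBar P → ℂ) (inc M zO) = S := by
      have h1 : (ψ i : NBar P → ℂ) 1 = r * ((Nat.card (NBar P) : ℂ) * (η : V → ℂ) 1) := by
        have e1 := hr 1
        rw [map_one] at e1
        rw [e1]
        have e2 : ∀ q : NBar P, cjFun (η : V → ℂ)
            ((Quotient.out q : Subgroup.normalizer (P : Set G)) : G) (1 : V) = (η : V → ℂ) 1 :=
          fun q => by rw [h.cjFun_eq_comp _ (Quotient.out q).2]; simp
        rw [Finset.sum_congr rfl fun q _ => e2 q, Finset.sum_const, Finset.card_univ, nsmul_eq_mul,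
          ← Nat.card_eq_fintype_card]
      have hr0 : r ≠ 0 := fun e => IsIrr.apply_one_ne_zero (ψ i).2 (by rw [h1, e, zero_mul])
      rw [omega_apply, h1, div_eq_iff (mul_ne_zero hr0 (mul_ne_zero
        (Nat.cast_ne_zero.2 Nat.card_pos.ne') (IsIrr.apply_one_ne_zero η.2)))]
      have e3 : ∑ q, (inc M zO).coeff q * (ψ i : NBar P → ℂ) q =
          ∑ x : P, ∑ v : V, blockCoeff B ((x : G) * v) * (ψ i : NBar P → ℂ) (h.toBar v) := by
        simp only [coeff_inc, zO, coeff_ofFun, AddSubmonoidClass.coe_finsetSum, Finset.sum_mul]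
        rw [Finset.sum_comm]
        have : ∀ n : Subgroup.normalizer (P : Set G), ∑ q : NBar P,
            ((if (QuotientGroup.mk n : NBar P) = q ∧ (n : G) ∈ Subgroup.centralizer (P : Set G) then
              (blockIdemO M B).coeff (n : G) else 0 : localRing M) : ℂ) * (ψ i : NBar P → ℂ) q =
            if (n : G) ∈ Subgroup.centralizer (P : Set G) then
              blockCoeff B (n : G) * (ψ i : NBar P → ℂ) (QuotientGroup.mk n) else 0 := by
          intro n
          rw [Finset.sum_eq_single (QuotientGroup.mk n : NBar P)]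
          · split_ifs with ha hb hb
            · rw [hbc]
            · exact absurd ha.2 hb
            · exact absurd ⟨rfl, hb⟩ ha
            · simp
          · intro q _ hq
            rw [if_neg fun hh => hq hh.1.symm]
            simp
          · simp
        rw [Finset.sum_congr rfl fun n _ => this n, ← Finset.sum_filter, ← Fintype.sum_prod_type'
          (f := fun (x : P) (v : V) => blockCoeff B ((x : G) * v) * (ψ i : NBar P → ℂ) (h.toBar v))]
        have hmemN : ∀ q : P × V, (q.1 : G) * q.2 ∈ Subgroup.normalizer (P : Set G) := fun q =>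
          mul_mem (P.le_normalizer q.1.2) (Blocks.centralizer_le_normalizer' P (h.V_le q.2.2))
        refine (Finset.sum_bij (fun q _ => (⟨(q.1 : G) * q.2, hmemN q⟩ : Subgroup.normalizer (P : Set G)))
          (fun q _ => Finset.mem_filter.2 ⟨Finset.mem_univ _,
            mul_mem (h.le_centralizer q.1.2) (h.V_le q.2.2)⟩)
          (fun a _ b _ e => ?_) (fun n hn => ?_) (fun q _ => ?_)).symm
        · obtain ⟨e1, e2⟩ := h.mul_inj a.1.2 b.1.2 a.2.2 b.2.2 (congrArg Subtype.val e)
          exact Prod.ext (Subtype.ext e1) (Subtype.ext e2)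
        · obtain ⟨x, hx, v, hv, e⟩ := h.exists_mul (Finset.mem_filter.1 hn).2
          exact ⟨(⟨x, hx⟩, ⟨v, hv⟩), Finset.mem_univ _, Subtype.ext e⟩
        · rw [h.mk_mul_eq q.1.2 q.2.2 (hmemN q)]
      have e4 : ∀ n ∈ Subgroup.normalizer (P : Set G), ∑ x : P, ∑ v : V,
          blockCoeff B ((x : G) * v) * cjFun (η : V → ℂ) n v = S * (η : V → ℂ) 1 := by
        intro n hn
        simp only [S, Finset.sum_mul]
        let eP : P ≃ P :=
          { toFun := fun x => ⟨n * x * n⁻¹, (Subgroup.mem_normalizer_iff.1 hn x).1 x.2⟩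
            invFun := fun x => ⟨n⁻¹ * x * n, (Subgroup.mem_normalizer_iff''.1 hn x).1 x.2⟩
            left_inv := fun x => by ext; simp [mul_assoc]
            right_inv := fun x => by ext; simp [mul_assoc] }
        refine Fintype.sum_equiv eP _ _ fun x => Fintype.sum_equiv (h.conjV hn).toEquiv _ _ fun v => ?_
        rw [h.cjFun_eq_comp _ hn, mul_assoc, div_mul_cancel₀ _ (IsIrr.apply_one_ne_zero η.2)]
        congr 1
        show blockCoeff B ((x : G) * v) = blockCoeff B (n * x * n⁻¹ * (n * v * n⁻¹))
        rw [show n * (x : G) * n⁻¹ * (n * v * n⁻¹) = n * (x * v) * n⁻¹ by group,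
          isClassFunction_blockCoeff B]
      rw [e3]
      simp only [hr, Finset.mul_sum]
      simp only [Finset.sum_comm (t := (Finset.univ : Finset (NBar P)))]
      calc _ = ∑ q : NBar P, r * ∑ x : P, ∑ v : V, blockCoeff B ((x : G) * v) *
            cjFun (η : V → ℂ) ((Quotient.out q : Subgroup.normalizer (P : Set G)) : G) v := by
            simp only [Finset.mul_sum]
            exact Finset.sum_congr rfl fun q _ => Finset.sum_congr rfl fun x _ =>
              Finset.sum_congr rfl fun v _ => by ring
        _ = _ := by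
            rw [Finset.sum_congr rfl fun q _ => by rw [e4 _ (Quotient.out q).2], Finset.sum_const,
              Finset.card_univ, nsmul_eq_mul, ← Nat.card_eq_fintype_card]
            ring
    have heq : inc M (zO * εO i) = inc M ((⟨S, hSm⟩ : localRing M) • εO i) := by
      have hsm : inc M ((⟨S, hSm⟩ : localRing M) • εO i) = S • blockIdem {ψ i} := by
        ext q; simp [εO]
      rw [hsm, map_mul, hεinc]
      refine eq_of_omega_eq ((isCentralElt_inc hzc).mul (isCentralElt_blockIdem _))
        ((isCentralElt_blockIdem _).smul S) fun φ => ?_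
      rw [omega_mul φ (isCentralElt_inc hzc), map_smul, smul_eq_mul, omega_blockIdem]
      split_ifs with hφ
      · rw [Set.mem_singleton_iff.1 hφ, hom]
      · simp
    have h2 := congrArg (red M) (inc_injective heq)
    rw [map_mul] at h2
    rw [h2]
    ext q
    rw [coeff_red, coeff_smul, Finsupp.smul_apply, smul_eq_mul, map_mul, ← rv_coe ⟨S, hSm⟩, hS,
      one_mul, coeff_red]
  obtain ⟨τ, hli, hcl, hfix, hsec⟩ := exists_functions (k := Res M) (p := p) h.card h.not_dvd
    (fun i => red M (εO i)) hεne
    (fun i => by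
      rw [← map_mul]
      exact congrArg _ (inc_injective (by rw [map_mul, hεinc, blockIdem_mul_self])))
    (fun i j hij => by
      rw [← map_mul, ← map_zero (red M)]
      refine congrArg _ (inc_injective ?_)
      rw [map_mul, hεinc, hεinc, blockIdem_mul, map_zero,
        Set.singleton_inter_eq_empty.2 (fun e => hij (hψinj (Set.mem_singleton_iff.1 e))),
        blockIdem_empty])
    (fun i => isCentralElt_red (hεc i))
    (z := blockIdemBar M B) (isCentralElt_blockIdemBar hB)
    (fun i => by rw [← hred]; exact hzmul i)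
  have := le_blockRank_of_functions hM hB τ hli hcl hfix hsec
  rwa [Fintype.card_fin] at this

end

end Setup

end CfsgLib.Blocks.PrimeSylow
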