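import Cfsg.Agent.Lib.Blocks.PrimeSylow.Exceptional
import Cfsg.Agent.Lib.Blocks.PrimeSylow.Lower

/-!
# Blocks with a Sylow defect group of order `p`

Such a block has `e` ordinary characters with constant coefficient vectors and `(p - 1) / e`
exceptional ones, one for each inertial orbit of nontrivial characters of `P`.
-/

set_option autoImplicit false

open scoped ComplexConjugate

namespace CfsgLib.Blocks.PrimeSylow

open Cfsg CfsgLib.Char

variable {G : Type*} [Group G] [Fintype G] {p : ℕ} [Fact p.Prime] {P V : Subgroup G}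

namespace Setup

variable (h : Setup p P V)
include h

/-- Characters of `P` in one inertial orbit. -/
def Rel (η : V → ℂ) (l μ : IrrCharacter P) : Prop :=
  ∃ g ∈ h.inertiaT η, cjFun (μ : P → ℂ) g = (l : P → ℂ)

omit [Fintype G] [Fact p.Prime] in
theorem rel_equiv (η : V → ℂ) : Equivalence (h.Rel η) := by
  have hone : ∀ μ : IrrCharacter P, cjFun (μ : P → ℂ) (1 : G) = (μ : P → ℂ) := fun μ =>
    funext fun y => by simp [cjFun, extendByZero_coe]
  refine ⟨fun μ => ⟨1, one_mem _, hone μ⟩, ?_, ?_⟩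
  · rintro l μ ⟨g, hg, e⟩
    refine ⟨g⁻¹, inv_mem hg, ?_⟩
    rw [← e, h.cjFunP_mul _ hg.1 (inv_mem hg.1), mul_inv_cancel, hone]
  · rintro l μ ν ⟨g, hg, e⟩ ⟨g', hg', e'⟩
    exact ⟨g' * g, mul_mem hg' hg, by rw [← h.cjFunP_mul _ hg'.1 hg.1, e', e]⟩

variable [Fintype P] [Fintype V] [Fintype (IrrCharacter G)]

/-- The coefficient vectors are constant on inertial orbits. -/
theorem coef_eq_of_rel (η : IrrCharacter V) {l μ : IrrCharacter P} (hl : l ≠ trivChar P)
    (hμ : μ ≠ trivChar P) (hr : h.Rel (η : V → ℂ) l μ) (χ : IrrCharacter G) :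
    h.coef η χ l = h.coef η χ μ := by
  classical
  have hrefl := (h.rel_equiv (η : V → ℂ)).refl
  have h1 := h.sum_coef_mul η l l hl hl
  have h2 := h.sum_coef_mul η μ μ hμ hμ
  have h3 := h.sum_coef_mul η l μ hl hμ
  rw [if_pos (show ∃ g ∈ h.inertiaT (η : V → ℂ), cjFun (l : P → ℂ) g = (l : P → ℂ) from hrefl l)] at h1
  rw [if_pos (show ∃ g ∈ h.inertiaT (η : V → ℂ), cjFun (μ : P → ℂ) g = (μ : P → ℂ) from hrefl μ)] at h2
  rw [if_pos (show ∃ g ∈ h.inertiaT (η : V → ℂ), cjFun (μ : P → ℂ) g = (l : P → ℂ) from hr)] at h3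
  have hz : ∑ ψ : IrrCharacter G, (h.coef η ψ l - h.coef η ψ μ) ^ 2 = 0 := by
    rw [Finset.sum_congr rfl fun ψ _ => show (h.coef η ψ l - h.coef η ψ μ) ^ 2 =
      h.coef η ψ l * h.coef η ψ l - 2 * (h.coef η ψ l * h.coef η ψ μ) +
        h.coef η ψ μ * h.coef η ψ μ by ring, Finset.sum_add_distrib, Finset.sum_sub_distrib,
      ← Finset.mul_sum, h1, h2, h3]
    ring
  have := (Finset.sum_eq_zero_iff_of_nonneg fun ψ _ => sq_nonneg _).1 hz χ (Finset.mem_univ _)
  exact sub_eq_zero.1 (pow_eq_zero_iff two_ne_zero |>.1 this)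

omit [Fintype G] [Fintype V] [Fintype (IrrCharacter G)] in
theorem card_lchar : Nat.card (IrrCharacter P) = p := by
  have := Fact.mk h.prime
  haveI : IsCyclic P := isCyclic_of_prime_card h.card
  rw [card_irrCharacter, ← h.card]
  refine (Nat.card_congr (Equiv.ofBijective _ ⟨?_, ConjClasses.mk_surjective⟩)).symm
  intro a b e
  obtain ⟨c, hc⟩ := isConj_iff.1 (ConjClasses.mk_eq_mk_iff_isConj.1 e)
  rw [← hc, mul_comm' c a, mul_inv_cancel_right]

open scoped Classical in
omit [Fintype (IrrCharacter G)] in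
/-- An inertial orbit has `e` members. -/
theorem card_orbit (η : IrrCharacter V) (μ : IrrCharacter P) (hμ : μ ≠ trivChar P)
    [Fintype (IrrCharacter P)] :
    (Finset.univ.filter fun l => h.Rel (η : V → ℂ) l μ).card = h.inertialIndex (η : V → ℂ) := by
  classical
  set T := h.inertiaT (η : V → ℂ)
  have h1 : (Finset.univ.filter (· ∈ T)).card =
      ∑ l : IrrCharacter P, (Finset.univ.filter fun g : G =>
        g ∈ T ∧ cjFun (μ : P → ℂ) g = (l : P → ℂ)).card := by
    let f : G → IrrCharacter P := fun g =>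
      if hg : g ∈ Subgroup.normalizer (P : Set G) then ⟨_, h.isIrr_cjFunP μ hg⟩ else μ
    rw [Finset.card_eq_sum_card_fiberwise (f := f) (t := Finset.univ) fun _ _ => Finset.mem_univ _]
    refine Finset.sum_congr rfl fun l _ => congrArg Finset.card ?_
    rw [Finset.filter_filter]
    refine Finset.filter_congr fun g _ => and_congr_right fun hg => ?_
    simp only [f, dif_pos hg.1, Subtype.ext_iff]
  have hT : (Finset.univ.filter (· ∈ T)).card = h.inertialIndex (η : V → ℂ) * (p * Nat.card V) := by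
    rw [← h.card_inertiaT η, Nat.card_eq_fintype_card, ← Fintype.card_coe]
    exact Fintype.card_congr (Equiv.subtypeEquivRight fun g => by simp [T])
  rw [hT, Finset.sum_congr rfl fun l _ => h.card_fiber η l μ hμ, ← Finset.sum_filter,
    Finset.sum_const, smul_eq_mul] at h1
  refine Eq.trans ?_ (Nat.eq_of_mul_eq_mul_right (Nat.mul_pos h.prime.pos Nat.card_pos) h1).symm
  exact congrArg Finset.card (Finset.filter_congr fun l _ => Iff.rfl)

omit [Fintype G] [Fact p.Prime] [Fintype P] [Fintype V] [Fintype (IrrCharacter G)] in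
theorem ne_trivChar_of_rel (η : V → ℂ) {l μ : IrrCharacter P} (hr : h.Rel η l μ)
    (hμ : μ ≠ trivChar P) : l ≠ trivChar P := by
  rintro rfl
  obtain ⟨g, hg, e⟩ := (h.rel_equiv η).symm hr
  refine hμ (irr_ext fun z => ?_)
  rw [← e, h.cjFunP_apply _ hg.1]
  rfl

/-- The structure of the block of `η`. -/
theorem exists_structure {M : Ideal AlgInt} [M.IsPrime] (hM : IsPModular p M) (η : IrrCharacter V)
    {B : Set (IrrCharacter G)} (hB : IsPBlock M B) {χ₀ : IrrCharacter G} (hχ₀B : χ₀ ∈ B)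
    (hχ₀ : χ₀ ∈ blockSet M P (η : V → ℂ)) :
    h.inertialIndex (η : V → ℂ) ∣ p - 1 ∧
    ∃ (Y : Set (IrrCharacter G)) (ε : ℤ) (w : IrrCharacter G → ℤ)
      (θ : IrrCharacter P → IrrCharacter G),
      (ε = 1 ∨ ε = -1) ∧ Y ⊆ B ∧
      (∀ l, l ≠ trivChar P → θ l ∈ Y) ∧ (∀ χ ∈ Y, ∃ l, l ≠ trivChar P ∧ θ l = χ) ∧
      Nat.card Y = (p - 1) / h.inertialIndex (η : V → ℂ) ∧
      Nat.card (B \ Y : Set (IrrCharacter G)) = h.inertialIndex (η : V → ℂ) ∧
      Nat.card B = h.inertialIndex (η : V → ℂ) + (p - 1) / h.inertialIndex (η : V → ℂ) ∧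
      (∀ χ ∈ B \ Y, (w χ = 1 ∨ w χ = -1) ∧ ∀ l, l ≠ trivChar P → h.coef η χ l = w χ) ∧
      (∀ l μ, l ≠ trivChar P → μ ≠ trivChar P →
        (θ l = θ μ ↔ h.Rel (η : V → ℂ) l μ) ∧
        (h.Rel (η : V → ℂ) l μ → h.coef η (θ μ) l = ε) ∧
        (¬ h.Rel (η : V → ℂ) l μ → h.coef η (θ μ) l = 0)) ∧
      blockRank p B = h.inertialIndex (η : V → ℂ) ∧
      ∀ μ, μ ≠ trivChar P → ∀ g : G, ¬ p ∣ orderOf g →
        (ε : ℂ) * (θ μ : G → ℂ) g + ∑ᶠ χ ∈ B \ Y, (w χ : ℂ) * (χ : G → ℂ) g = 0 := by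
  classical
  have := Fintype.ofFinite (IrrCharacter P)
  have : Fintype (NBar P) := Fintype.ofFinite _
  obtain ⟨hdvd, -⟩ := h.exists_over η
  refine ⟨hdvd, ?_⟩
  set e := h.inertialIndex (η : V → ℂ)
  have he : 1 ≤ e := h.inertialIndex_pos η
  have hBeq := blockSet_eq hB hχ₀B hχ₀
  -- orbits
  let S : Setoid {l : IrrCharacter P // l ≠ trivChar P} :=
    ⟨fun a b => h.Rel (η : V → ℂ) a b,
      ⟨fun a => (h.rel_equiv _).refl a, fun hab => (h.rel_equiv _).symm hab,
        fun hab hbc => (h.rel_equiv _).trans hab hbc⟩⟩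
  let J := Quotient S
  have : Fintype J := Fintype.ofFinite J
  have hout : ∀ a : {l : IrrCharacter P // l ≠ trivChar P},
      h.Rel (η : V → ℂ) ((Quotient.mk S a).out : IrrCharacter P) a := fun a =>
    Quotient.exact (Quotient.out_eq (Quotient.mk S a))
  have hL : Fintype.card {l : IrrCharacter P // l ≠ trivChar P} = p - 1 := by
    rw [Fintype.card_subtype_compl (fun l => l = trivChar P), ← Nat.card_eq_fintype_card,
      h.card_lchar, Fintype.card_subtype_eq]
  have hJ : Fintype.card J * e = p - 1 := by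
    rw [← hL, ← Finset.card_univ (α := {l : IrrCharacter P // l ≠ trivChar P}),
      Finset.card_eq_sum_card_fiberwise (f := Quotient.mk S) (t := Finset.univ)
        fun _ _ => Finset.mem_univ _]
    have hfib : ∀ j : J, (Finset.univ.filter fun a => Quotient.mk S a = j).card = e := by
      intro j
      induction j using Quotient.inductionOn with
      | h b =>
        show _ = h.inertialIndex (η : V → ℂ)
        rw [← h.card_orbit η b b.2]
        refine Finset.card_bij (fun a _ => (a : IrrCharacter P)) ?_ (fun a _ a' _ e => Subtype.ext e) ?_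
        · intro a ha
          exact Finset.mem_filter.2 ⟨Finset.mem_univ _, Quotient.exact (Finset.mem_filter.1 ha).2⟩
        · intro l hl
          have hr := (Finset.mem_filter.1 hl).2
          exact ⟨⟨l, h.ne_trivChar_of_rel _ hr b.2⟩,
            Finset.mem_filter.2 ⟨Finset.mem_univ _, Quotient.sound (s := S) hr⟩, rfl⟩
    rw [Finset.sum_congr rfl fun j _ => hfib j, Finset.sum_const, Finset.card_univ, smul_eq_mul]
  have hJdiv : Fintype.card J = (p - 1) / e := by
    rw [← hJ, Nat.mul_div_cancel _ he]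
  have : Nonempty J := Fintype.card_pos_iff.1 (Nat.pos_of_ne_zero fun h0 => by
    rw [h0, zero_mul] at hJ
    have := h.prime.two_le
    omega)
  -- the vectors
  let c : J → {χ // χ ∈ B} → ℤ := fun j χ =>
    h.coef η χ ((Quotient.out (s := S) j : {l : IrrCharacter P // l ≠ trivChar P}) : IrrCharacter P)
  have hzero : ∀ χ, χ ∉ B → ∀ l, h.coef η χ l = 0 := fun χ hχ l =>
    h.coef_eq_zero_of_not_mem hM η (hBeq ▸ hχ) l
  have hsub : ∀ F : IrrCharacter G → ℤ, (∀ χ, χ ∉ B → F χ = 0) →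
      ∑ χ : {χ // χ ∈ B}, F χ = ∑ χ, F χ := fun F hF => by
    rw [← Finset.sum_subtype (Finset.univ.filter (· ∈ B)) (fun χ => by simp) F]
    exact Finset.sum_subset (Finset.subset_univ _) fun χ _ hχ => hF χ (by simpa using hχ)
  have hgram : ∀ i j, ∑ χ, c i χ * c j χ = (if i = j then 1 else 0) + (e : ℤ) := by
    intro i j
    have hb : (∃ g ∈ h.inertiaT (η : V → ℂ),
        cjFun (((Quotient.out (s := S) j : {l : IrrCharacter P // l ≠ trivChar P}) : IrrCharacter P) : P → ℂ) g =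
          (((Quotient.out (s := S) i : {l : IrrCharacter P // l ≠ trivChar P}) : IrrCharacter P) : P → ℂ)) ↔ i = j := by
      constructor
      · intro hr
        have := Quotient.sound (s := S) (a := Quotient.out (s := S) i) (b := Quotient.out (s := S) j) hr
        rwa [Quotient.out_eq, Quotient.out_eq] at this
      · rintro rfl
        exact (h.rel_equiv _).refl _
    rw [hsub (fun χ => h.coef η χ _ * h.coef η χ _) (fun χ hχ => by rw [hzero χ hχ, zero_mul]),
      h.sum_coef_mul η _ _ (Quotient.out (s := S) i).2 (Quotient.out (s := S) j).2, if_congr hb rfl rfl]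
  have hreg : ∀ (j : J) (g : G), ¬ p ∣ orderOf g →
      ∑ χ : {χ // χ ∈ B}, (c j χ : ℂ) * ((χ : IrrCharacter G) : G → ℂ) g = 0 := by
    intro j g hg
    refine Eq.trans ?_ (h.sum_coef_regular η ((Quotient.out (s := S) j : {l : IrrCharacter P // l ≠ trivChar P}) : IrrCharacter P) hg)
    rw [← Finset.sum_subtype (Finset.univ.filter (· ∈ B)) (fun χ => by simp)
      (fun χ : IrrCharacter G =>
        (h.coef η χ ((Quotient.out (s := S) j : {l : IrrCharacter P // l ≠ trivChar P}) : IrrCharacter P) : ℂ) * (χ : G → ℂ) g)]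
    exact Finset.sum_subset (Finset.subset_univ _) fun χ _ hχ => by
      rw [hzero χ (by simpa using hχ)]; simp
  have hdeg : ∀ j, ∑ χ, c j χ * (charDegree ((χ : IrrCharacter G) : G → ℂ) : ℤ) = 0 := by
    intro j
    apply Int.cast_injective (α := ℂ)
    rw [Int.cast_sum, Int.cast_zero, ← hreg j 1 (by simpa using h.prime.ne_one)]
    exact Finset.sum_congr rfl fun χ _ => by
      rw [Int.cast_mul, Int.cast_natCast, ← apply_one_eq_charDegree]
  have hrow : ∀ χ : {χ // χ ∈ B}, ∃ j, c j χ ≠ 0 := by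
    intro χ
    by_contra hcon
    push Not at hcon
    have hall : ∀ l, h.coef η χ l = 0 := by
      intro l
      by_cases hl : l = trivChar P
      · rw [hl]; exact h.coef_trivChar η χ
      · exact (h.coef_eq_of_rel η (Quotient.out (Quotient.mk S ⟨l, hl⟩)).2 hl (hout ⟨l, hl⟩) χ).symm.trans
          (hcon _)
    have hd : ∀ x ∈ P, x ≠ 1 → dval ((χ : IrrCharacter G) : G → ℂ) x (η : V → ℂ) = 0 := by
      intro x hx hx1
      rw [h.dval_eq_sum η χ (x := ⟨x, hx⟩) (fun e => hx1 (congrArg Subtype.val e))]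
      exact Finset.sum_eq_zero fun l _ => by rw [hall]; simp
    have hd' : ∀ x ∈ P, x ≠ 1 → ∀ η' : IrrCharacter V,
        dval ((χ : IrrCharacter G) : G → ℂ) x (η' : V → ℂ) = 0 := by
      intro x hx hx1 η'
      by_contra hne
      obtain ⟨n, hn, hη'⟩ := h.exists_conj_of_mem hM ((Set.ext_iff.1 hBeq _).1 χ.2)
        (h.mem_blockSet_of_dval hM hx hx1 χ η' hne)
      refine hne ?_
      rw [hη', ← h.dval_conj (IsIrr.isClassFunction (χ : IrrCharacter G).2) x _ hn]
      exact hd _ ((Subgroup.mem_normalizer_iff.1 hn x).1 hx) fun e => hx1 (conj_eq_one_iff.1 e)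
    have hvan : ∀ g : G, p ∣ orderOf g → ((χ : IrrCharacter G) : G → ℂ) g = 0 := by
      intro g hg
      obtain ⟨x, hx, hx1, v, hv, hc⟩ := h.exists_singular hg
      have := Fintype.ofFinite (IrrCharacter V)
      rw [isClassFunction_iff_isConj.1 (IsIrr.isClassFunction (χ : IrrCharacter G).2) g _ hc,
        h.apply_eq_sum (IsIrr.isClassFunction (χ : IrrCharacter G).2) hx ⟨v, hv⟩]
      exact Finset.sum_eq_zero fun η' _ => by rw [hd' x hx hx1 η', zero_mul]
    have hdvdp : p ∣ charDegree ((χ : IrrCharacter G) : G → ℂ) := by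
      obtain ⟨m, hm⟩ := IsChar.classInner_eq_natCast
        (IsChar.restrict P (IsIrr.isCharacter (χ : IrrCharacter G).2)) (isCharacter_one (G := P))
      refine ⟨m, ?_⟩
      rw [classInner, Finset.sum_eq_single (1 : P)] at hm
      · simp only [OneMemClass.coe_one, map_one, mul_one, h.card,
          apply_one_eq_charDegree (χ : IrrCharacter G)] at hm
        rw [inv_mul_eq_iff_eq_mul₀ (Nat.cast_ne_zero.2 h.prime.ne_zero)] at hm
        exact_mod_cast hm
      · intro x _ hx
        rw [hvan x (by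
          rw [h.orderOf_eq x.2 (fun e => hx (Subtype.ext e))]), zero_mul]
      · simp
    have hsing : B = {(χ : IrrCharacter G)} := by
      refine (IsPBlock.eq_blockOf hB χ.2).trans (blockOf_eq_singleton hM _ fun hd2 => ?_)
      obtain ⟨q, hq⟩ := Blocks.charDegree_dvd_card (χ : IrrCharacter G)
      rw [hq, Nat.mul_div_cancel_left _ (Blocks.charDegree_pos _)] at hd2
      have h2 : p * p ∣ Nat.card G := hq ▸ mul_dvd_mul hdvdp hd2
      rw [← P.card_mul_index, h.card] at h2
      exact h.not_dvd ((Nat.mul_dvd_mul_iff_left h.prime.pos).1 h2)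
    obtain ⟨j₀⟩ := ‹Nonempty J›
    have h0 := hgram j₀ j₀
    rw [if_pos rfl, Finset.sum_eq_zero fun ψ _ => ?_] at h0
    · omega
    · have : ψ = χ := Subtype.ext (Set.mem_singleton_iff.1
        (Set.ext_iff.1 hsing (ψ : IrrCharacter G) |>.1 ψ.2))
      rw [this, hcon, mul_zero]
  -- the rank
  let Φ : ({χ // χ ∈ B} → ℂ) →ₗ[ℂ] (G → ℂ) :=
    { toFun := fun a => ∑ χ : {χ // χ ∈ B}, a χ • pRegularPart p ((χ : IrrCharacter G) : G → ℂ)
      map_add' := fun a b => by simp [add_smul, Finset.sum_add_distrib]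
      map_smul' := fun r a => by simp [mul_smul, Finset.smul_sum] }
  have hrange : LinearMap.range Φ = Submodule.span ℂ
      ((fun χ : IrrCharacter G => pRegularPart p (χ : G → ℂ)) '' B) := by
    refine le_antisymm ?_ (Submodule.span_le.2 ?_)
    · rintro _ ⟨a, rfl⟩
      exact Submodule.sum_mem _ fun χ _ => Submodule.smul_mem _ _
        (Submodule.subset_span ⟨χ, χ.2, rfl⟩)
    · rintro _ ⟨χ, hχ, rfl⟩
      refine ⟨Pi.single ⟨χ, hχ⟩ 1, ?_⟩
      show ∑ ψ : {χ // χ ∈ B}, _ = _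
      rw [Finset.sum_eq_single ⟨χ, hχ⟩]
      · rw [Pi.single_eq_same, one_smul]
      · intro ψ _ hψ
        rw [Pi.single_eq_of_ne hψ, zero_smul]
      · simp
  have hli : LinearIndependent ℂ (fun j : J => (⟨fun χ => (c j χ : ℂ), by
      rw [LinearMap.mem_ker]
      funext g
      show (∑ χ : {χ // χ ∈ B}, (c j χ : ℂ) • pRegularPart p ((χ : IrrCharacter G) : G → ℂ)) g = 0
      simp only [Finset.sum_apply, Pi.smul_apply, smul_eq_mul, pRegularPart]
      by_cases hg : IsPRegular p g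
      · simp only [if_pos hg]; exact hreg j g hg
      · simp [hg]⟩ : LinearMap.ker Φ)) := by
    rw [Fintype.linearIndependent_iff]
    intro a ha i
    have ha' : ∀ χ, ∑ j, a j * (c j χ : ℂ) = 0 := fun χ => by
      have := congrFun (congrArg Subtype.val ha) χ
      simpa [Finset.sum_apply] using this
    have h2 : ∀ i, a i + (e : ℂ) * ∑ j, a j = 0 := by
      intro i
      have h3 : ∑ χ, (c i χ : ℂ) * ∑ j, a j * (c j χ : ℂ) = 0 :=
        Finset.sum_eq_zero fun χ _ => by rw [ha' χ, mul_zero]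
      rw [← h3]
      simp only [Finset.mul_sum]
      conv_rhs => rw [Finset.sum_comm]
      have h4 : ∀ j, ∑ χ, (c i χ : ℂ) * (a j * (c j χ : ℂ)) =
          a j * ((if i = j then 1 else 0) + (e : ℂ)) := fun j => by
        have h5 := congrArg (Int.cast : ℤ → ℂ) (hgram i j)
        push_cast at h5
        rw [← h5, Finset.mul_sum]
        exact Finset.sum_congr rfl fun χ _ => by ring
      rw [Finset.sum_congr rfl fun j _ => h4 j]
      simp [mul_add, Finset.sum_add_distrib, mul_comm]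
      rw [Finset.sum_eq_single i (fun b _ hb => if_neg (Ne.symm hb))
        (fun hi => absurd (Finset.mem_univ i) hi), if_pos rfl]
    have hs : ∑ j, a j = 0 := by
      have h6 : ∑ i, (a i + (e : ℂ) * ∑ j, a j) = 0 := Finset.sum_eq_zero fun i _ => h2 i
      rw [Finset.sum_add_distrib, Finset.sum_const, Finset.card_univ, nsmul_eq_mul] at h6
      have h7 : (1 + (Fintype.card J * e : ℕ) : ℂ) * ∑ j, a j = 0 := by
        push_cast; linear_combination h6
      rw [hJ] at h7
      refine (mul_eq_zero.1 h7).resolve_left ?_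
      exact_mod_cast (by omega : 1 + (p - 1) ≠ 0)
    have := h2 i
    rwa [hs, mul_zero, add_zero] at this
  have hupper : blockRank p B + Fintype.card J ≤ Fintype.card {χ // χ ∈ B} := by
    have h1 := LinearMap.finrank_range_add_finrank_ker Φ
    rw [hrange, Module.finrank_fintype_fun_eq_card] at h1
    rw [blockRank, ← h1]
    exact Nat.add_le_add_left hli.fintype_card_le_finrank _
  have hlower := h.inertialIndex_le_blockRank hM η hB hχ₀B hχ₀
  -- apply the combinatorics
  obtain ⟨θ, ε, hθinj, hε, hcard, hθc, hX⟩ := exists_exceptional he c hgram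
    (d := fun χ => (charDegree ((χ : IrrCharacter G) : G → ℂ) : ℤ))
    (fun χ => Int.natCast_pos.2 (Blocks.charDegree_pos _)) hdeg hrow (by omega)
  obtain ⟨j₀⟩ := ‹Nonempty J›
  set Y : Set (IrrCharacter G) := Set.range fun j => (θ j : IrrCharacter G)
  let θ' : IrrCharacter P → IrrCharacter G := fun l =>
    if hl : l = trivChar P then θ j₀ else θ (Quotient.mk S ⟨l, hl⟩)
  have hθ' : ∀ l (hl : l ≠ trivChar P), θ' l = θ (Quotient.mk S ⟨l, hl⟩) := fun l hl => dif_neg hl
  let w : IrrCharacter G → ℤ := fun χ => if hχ : χ ∈ B then c j₀ ⟨χ, hχ⟩ else 1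
  have hcoef : ∀ (χ : {χ // χ ∈ B}) (l : IrrCharacter P) (hl : l ≠ trivChar P),
      h.coef η χ l = c (Quotient.mk S ⟨l, hl⟩) χ := fun χ l hl =>
    (h.coef_eq_of_rel η (Quotient.out (Quotient.mk S ⟨l, hl⟩)).2 hl (hout ⟨l, hl⟩) χ).symm
  have hYcard : Nat.card Y = (p - 1) / e := by
    show Nat.card (Set.range (Subtype.val ∘ θ) : Set (IrrCharacter G)) = _
    rw [Nat.card_range_of_injective (Subtype.val_injective.comp hθinj),
      Nat.card_eq_fintype_card, hJdiv]
  have hYB : Y ⊆ B := by rintro _ ⟨j, rfl⟩; exact (θ j).2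
  have hBcard : Nat.card B = e + (p - 1) / e := by
    rw [← hJdiv, ← hcard, Nat.card_eq_fintype_card]
  have hdiff : Nat.card (B \ Y : Set (IrrCharacter G)) = e := by
    rw [Nat.card_coe_set_eq, Set.ncard_sdiff hYB, ← Nat.card_coe_set_eq, ← Nat.card_coe_set_eq,
      hBcard, hYcard]
    omega
  refine ⟨Y, ε, w, θ', hε, hYB, fun l hl => ⟨_, (hθ' l hl).symm⟩, ?_, hYcard, hdiff, hBcard, ?_, ?_,
    by omega, ?_⟩
  · rintro _ ⟨j, rfl⟩
    refine ⟨(Quotient.out (s := S) j).1, (Quotient.out (s := S) j).2, ?_⟩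
    rw [hθ' _ (Quotient.out (s := S) j).2]
    exact congrArg (fun i => (θ i : IrrCharacter G)) (Quotient.out_eq j)
  · rintro χ ⟨hχ, hχY⟩
    obtain ⟨w', hw', hcw⟩ := hX ⟨χ, hχ⟩ fun j e => hχY ⟨j, congrArg Subtype.val e⟩
    have hw : w χ = w' := by
      simp only [w, dif_pos hχ]; exact hcw j₀
    rw [hw]
    exact ⟨hw', fun l hl => (hcoef ⟨χ, hχ⟩ l hl).trans (hcw _)⟩
  · intro l μ hl hμ
    rw [hθ' l hl, hθ' μ hμ, hcoef _ l hl, hθc]
    refine ⟨⟨fun e => Quotient.exact (s := S) (hθinj (Subtype.ext e)),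
      fun hr => congrArg (fun i => (θ i : IrrCharacter G)) (Quotient.sound (s := S) hr)⟩,
      fun hr => if_pos (Quotient.sound (s := S) hr), fun hr => if_neg fun e => hr (Quotient.exact e)⟩
  · intro μ hμ g hg
    rw [hθ' μ hμ]
    set jμ : J := Quotient.mk S ⟨μ, hμ⟩
    have h0 := hreg jμ g hg
    rw [← Finset.add_sum_erase _ _ (Finset.mem_univ (θ jμ)), hθc, if_pos rfl] at h0
    rw [← h0]
    congr 1
    rw [finsum_mem_eq_finite_toFinset_sum _ (Set.toFinite _)]
    symm
    refine (Finset.sum_filter_ne_zero _).symm.trans ?_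
    refine Finset.sum_bij_ne_zero (fun χ _ _ => (χ : IrrCharacter G)) ?_
      (fun _ _ _ _ _ _ e => Subtype.ext e) ?_ ?_
    · intro χ hχ hne
      refine (Set.Finite.mem_toFinset _).2 ⟨χ.2, ?_⟩
      rintro ⟨j, hj⟩
      have hχj : θ j = χ := Subtype.ext hj
      obtain ⟨hχ', -⟩ := Finset.mem_filter.1 hχ
      have hjne : j ≠ jμ := fun e => (Finset.mem_erase.1 hχ').1 (by rw [← hχj, e])
      exact hne (by rw [← hχj, hθc, if_neg (Ne.symm hjne)]; simp)
    · intro χ hχ hne
      obtain ⟨hχB, hχY⟩ := (Set.Finite.mem_toFinset _).1 hχ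
      obtain ⟨w', -, hcw⟩ := hX ⟨χ, hχB⟩ fun j e => hχY ⟨j, congrArg Subtype.val e⟩
      have e' : ((c jμ ⟨χ, hχB⟩ : ℤ) : ℂ) * (χ : G → ℂ) g = (w χ : ℂ) * (χ : G → ℂ) g := by
        simp only [w, dif_pos hχB, hcw]
      refine ⟨⟨χ, hχB⟩, Finset.mem_filter.2 ⟨Finset.mem_erase.2
        ⟨fun e => hχY ⟨jμ, (congrArg Subtype.val e).symm⟩, Finset.mem_univ _⟩, e' ▸ hne⟩,
        e' ▸ hne, rfl⟩
    · intro χ hχ hne
      obtain ⟨hχ', -⟩ := Finset.mem_filter.1 hχ
      have hnY : ∀ j, θ j ≠ χ := by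
        intro j hj
        have hjne : j ≠ jμ := fun e => (Finset.mem_erase.1 hχ').1 (by rw [← hj, e])
        exact hne (by rw [← hj, hθc, if_neg (Ne.symm hjne)]; simp)
      obtain ⟨w', -, hcw⟩ := hX χ hnY
      simp only [w, dif_pos χ.2, Subtype.coe_eta, hcw]

end Setup

end CfsgLib.Blocks.PrimeSylow
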