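import Cfsg.Agent.Lib.Blocks.PrimeSylow.Principal

/-!
# Multiplicities on the centralizer of a Sylow subgroup of order `p`

`mu h η χ l` is the multiplicity of `l × η` in the restriction of `χ` to `P × V`, and `aMult h χ l`
the multiplicity of `l` in the restriction to `P`.
-/

set_option autoImplicit false

open scoped ComplexConjugate

namespace CfsgLib.Blocks.PrimeSylow

open Cfsg CfsgLib.Char

variable {G : Type*} [Group G] [Fintype G] {p : ℕ} [Fact p.Prime] {P V : Subgroup G}

/-- `l` is conjugate to `μ` in the normalizer. -/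
def InN (P : Subgroup G) (μ l : IrrCharacter P) : Prop :=
  ∃ n ∈ Subgroup.normalizer (P : Set G), cjFun (μ : P → ℂ) n = (l : P → ℂ)

namespace Setup

variable (h : Setup p P V) [Fintype P] [Fintype V]
include h

/-- The multiplicity of `l × η` in the restriction to `P × V`. -/
noncomputable def mu (η : IrrCharacter V) (χ : IrrCharacter G) (l : IrrCharacter P) : ℕ :=
  Classical.choose (h.exists_mult (IsIrr.isCharacter χ.2) (IsIrr.isCharacter η.2)
    (IsIrr.isCharacter l.2))

theorem mu_spec (η : IrrCharacter V) (χ : IrrCharacter G) (l : IrrCharacter P) :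
    classInner (fun x : P => dval (χ : G → ℂ) (x : G) (η : V → ℂ)) (l : P → ℂ) =
      (h.mu η χ l : ℂ) :=
  Classical.choose_spec (h.exists_mult (IsIrr.isCharacter χ.2) (IsIrr.isCharacter η.2)
    (IsIrr.isCharacter l.2))

theorem coef_eq_mu_sub (η : IrrCharacter V) (χ : IrrCharacter G) (l : IrrCharacter P) :
    h.coef η χ l = (h.mu η χ l : ℤ) - h.mu η χ (trivChar P) := by
  apply Int.cast_injective (α := ℂ)
  have hp0 : (p : ℂ) ≠ 0 := Nat.cast_ne_zero.2 h.prime.ne_zero
  refine mul_left_cancel₀ hp0 ((h.coef_spec η χ l).trans ?_)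
  push_cast
  rw [← h.mu_spec, ← h.mu_spec, mul_sub]
  simp only [classInner, h.card, ← mul_assoc, mul_inv_cancel₀ hp0, one_mul, trivChar_apply,
    map_one, mul_one, ← Finset.sum_sub_distrib]
  exact Finset.sum_congr rfl fun x _ => by ring

theorem isClassFunction_P (f : P → ℂ) : IsClassFunction P f := fun a b => by
  have := Fact.mk h.prime
  haveI : IsCyclic P := isCyclic_of_prime_card h.card
  rw [mul_comm' b a, mul_inv_cancel_right]

theorem dval_one [Fintype (IrrCharacter P)] (η : IrrCharacter V) (χ : IrrCharacter G) :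
    dval (χ : G → ℂ) 1 (η : V → ℂ) = ((∑ l : IrrCharacter P, h.mu η χ l : ℕ) : ℂ) := by
  have e := classFunction_apply_eq_sum
    (h.isClassFunction_P fun x : P => dval (χ : G → ℂ) (x : G) (η : V → ℂ)) (1 : P)
  simp only [h.mu_spec, h.lchar_one, mul_one, Subgroup.coe_one] at e
  rw [e, Nat.cast_sum]

theorem mu_conj (η : IrrCharacter V) (χ : IrrCharacter G) (l : IrrCharacter P) {n : G}
    (hn : n ∈ Subgroup.normalizer (P : Set G)) :
    h.mu ⟨_, h.isIrr_cjFun η.2 hn⟩ χ ⟨_, h.isIrr_cjFunP l hn⟩ = h.mu η χ l := by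
  apply Nat.cast_injective (R := ℂ)
  rw [← h.mu_spec, ← h.mu_spec]
  simp only [classInner]
  congr 1
  refine Fintype.sum_equiv
    ({ toFun := fun x => ⟨n * x * n⁻¹, (Subgroup.mem_normalizer_iff.1 hn x).1 x.2⟩
       invFun := fun x => ⟨n⁻¹ * x * n, (Subgroup.mem_normalizer_iff''.1 hn x).1 x.2⟩
       left_inv := fun x => by ext; simp [mul_assoc]
       right_inv := fun x => by ext; simp [mul_assoc] } : P ≃ P) _ _ fun x => ?_
  show dval (χ : G → ℂ) x (cjFun (η : V → ℂ) n) * conj (cjFun (l : P → ℂ) n x) = _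
  rw [← h.dval_conj (IsIrr.isClassFunction χ.2) _ _ hn, h.cjFunP_apply _ hn]
  rfl

theorem coef_conj (η : IrrCharacter V) (χ : IrrCharacter G) (l : IrrCharacter P) {n : G}
    (hn : n ∈ Subgroup.normalizer (P : Set G)) :
    h.coef ⟨_, h.isIrr_cjFun η.2 hn⟩ χ l =
      h.coef η χ ⟨_, h.isIrr_cjFunP l (inv_mem hn)⟩ := by
  have ht : (⟨_, h.isIrr_cjFunP (trivChar P) hn⟩ : IrrCharacter P) = trivChar P := irr_ext fun x => by
    show cjFun ((trivChar P : IrrCharacter P) : P → ℂ) n x = _
    rw [h.cjFunP_apply _ hn, trivChar_apply, trivChar_apply]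
  have hl : (⟨_, h.isIrr_cjFunP ⟨_, h.isIrr_cjFunP l (inv_mem hn)⟩ hn⟩ : IrrCharacter P) = l :=
    Subtype.ext (by
      show cjFun (cjFun (l : P → ℂ) n⁻¹) n = _
      rw [h.cjFunP_mul _ (inv_mem hn) hn, inv_mul_cancel]
      funext y; simp [cjFun, extendByZero_coe])
  have e1 := h.mu_conj η χ ⟨_, h.isIrr_cjFunP l (inv_mem hn)⟩ hn
  have e2 := h.mu_conj η χ (trivChar P) hn
  rw [hl] at e1
  rw [ht] at e2
  rw [h.coef_eq_mu_sub, h.coef_eq_mu_sub, e1, e2]

/-- The multiplicity of `l` in the restriction to `P`. -/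
noncomputable def aMult [Fintype (IrrCharacter V)] (χ : IrrCharacter G) (l : IrrCharacter P) : ℕ :=
  ∑ η : IrrCharacter V, charDegree (η : V → ℂ) * h.mu η χ l

variable [Fintype (IrrCharacter V)]

theorem aMult_spec (χ : IrrCharacter G) (l : IrrCharacter P) :
    classInner (fun x : P => (χ : G → ℂ) x) (l : P → ℂ) = (h.aMult χ l : ℂ) := by
  have e : (fun x : P => (χ : G → ℂ) x) = ∑ η : IrrCharacter V, ((η : V → ℂ) 1) •
      fun x : P => dval (χ : G → ℂ) (x : G) (η : V → ℂ) := by
    funext x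
    have e1 := h.apply_eq_sum (IsIrr.isClassFunction χ.2) x.2 1
    rw [Subgroup.coe_one, mul_one] at e1
    rw [e1, Finset.sum_apply]
    exact Finset.sum_congr rfl fun η _ => by rw [Pi.smul_apply, smul_eq_mul]; ring
  rw [e, classInner_sum_left, aMult, Nat.cast_sum]
  refine Finset.sum_congr rfl fun η _ => ?_
  rw [classInner_smul_left, h.mu_spec, apply_one_eq_charDegree, Nat.cast_mul]

theorem aMult_conj (χ : IrrCharacter G) (l : IrrCharacter P) {n : G}
    (hn : n ∈ Subgroup.normalizer (P : Set G)) :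
    h.aMult χ ⟨_, h.isIrr_cjFunP l hn⟩ = h.aMult χ l := by
  apply Nat.cast_injective (R := ℂ)
  rw [← h.aMult_spec, ← h.aMult_spec]
  simp only [classInner]
  congr 1
  refine Fintype.sum_equiv
    ({ toFun := fun x => ⟨n * x * n⁻¹, (Subgroup.mem_normalizer_iff.1 hn x).1 x.2⟩
       invFun := fun x => ⟨n⁻¹ * x * n, (Subgroup.mem_normalizer_iff''.1 hn x).1 x.2⟩
       left_inv := fun x => by ext; simp [mul_assoc]
       right_inv := fun x => by ext; simp [mul_assoc] } : P ≃ P) _ _ fun x => ?_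
  show (χ : G → ℂ) x * conj (cjFun (l : P → ℂ) n x) = _
  rw [h.cjFunP_apply _ hn]
  show _ = (χ : G → ℂ) (n * x * n⁻¹) * _
  rw [IsIrr.isClassFunction χ.2]
  rfl

theorem sum_aMult [Fintype (IrrCharacter P)] (χ : IrrCharacter G) :
    ∑ l : IrrCharacter P, h.aMult χ l = charDegree (χ : G → ℂ) := by
  apply Nat.cast_injective (R := ℂ)
  have e := classFunction_apply_eq_sum (h.isClassFunction_P fun x : P => (χ : G → ℂ) x) (1 : P)
  simp only [h.aMult_spec, h.lchar_one, mul_one, Subgroup.coe_one, apply_one_eq_charDegree] at e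
  rw [e, Nat.cast_sum]

theorem apply_eq_sum_aMult [Fintype (IrrCharacter P)] (χ : IrrCharacter G) (x : P) :
    (χ : G → ℂ) x = ∑ l : IrrCharacter P, (h.aMult χ l : ℂ) * (l : P → ℂ) x := by
  have e := classFunction_apply_eq_sum (h.isClassFunction_P fun x : P => (χ : G → ℂ) x) x
  simpa only [h.aMult_spec] using e

variable {M : Ideal AlgInt} [M.IsPrime]

theorem coef_eq_zero_of_not_orbit (hM : IsPModular p M) {η η' : IrrCharacter V}
    {χ : IrrCharacter G} (hχ : χ ∈ blockSet M P (η : V → ℂ)) (hη' : η' ∉ orbitV P η)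
    (l : IrrCharacter P) : h.coef η' χ l = 0 := by
  have := h.coef_spec η' χ l
  rw [Finset.sum_eq_zero fun x _ => ?_, mul_eq_zero] at this
  · exact_mod_cast this.resolve_left (Nat.cast_ne_zero.2 h.prime.ne_zero)
  · by_cases hx : x = 1
    · simp [hx, h.lchar_one]
    · rw [h.dval_eq_zero_of_not_orbit hM hχ hη' x.2 (fun e => hx (Subtype.ext e)), zero_mul]

omit [M.IsPrime] in
theorem aMult_sub (χ : IrrCharacter G) (l : IrrCharacter P) :
    (h.aMult χ l : ℤ) - h.aMult χ (trivChar P) =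
      ∑ η : IrrCharacter V, (charDegree (η : V → ℂ) : ℤ) * h.coef η χ l := by
  simp only [aMult, Nat.cast_sum, Nat.cast_mul, ← Finset.sum_sub_distrib, h.coef_eq_mu_sub, mul_sub]

/-- With a constant coefficient vector all nontrivial multiplicities agree. -/
theorem aMult_sub_of_const (hM : IsPModular p M) {η : IrrCharacter V} {χ : IrrCharacter G}
    (hχ : χ ∈ blockSet M P (η : V → ℂ)) {w : ℤ} (hw : ∀ l, l ≠ trivChar P → h.coef η χ l = w)
    {l : IrrCharacter P} (hl : l ≠ trivChar P) :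
    (h.aMult χ l : ℤ) - h.aMult χ (trivChar P) =
      w * (Nat.card (orbitV P η) * charDegree (η : V → ℂ) : ℕ) := by
  classical
  rw [h.aMult_sub]
  have hterm : ∀ η' : IrrCharacter V, (charDegree (η' : V → ℂ) : ℤ) * h.coef η' χ l =
      if η' ∈ orbitV P η then w * charDegree (η : V → ℂ) else 0 := by
    intro η'
    split_ifs with hη'
    · obtain ⟨n, hn, e⟩ := hη'
      obtain rfl : η' = ⟨_, h.isIrr_cjFun η.2 hn⟩ := Subtype.ext e
      have hd : charDegree (cjFun (η : V → ℂ) n) = charDegree (η : V → ℂ) := by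
        have h1 : cjFun (η : V → ℂ) n 1 = _ :=
          apply_one_eq_charDegree (⟨_, h.isIrr_cjFun η.2 hn⟩ : IrrCharacter V)
        have h2 := apply_one_eq_charDegree η
        have h3 : cjFun (η : V → ℂ) n 1 = (η : V → ℂ) 1 := by
          rw [h.cjFun_apply _ hn]; exact congrArg _ (Subtype.ext (by simp))
        rw [h3, h2] at h1
        exact_mod_cast h1.symm
      rw [h.coef_conj η χ l hn, hw _ ?_, mul_comm]
      · show w * _ = w * _
        rw [hd]
      · intro e'
        refine hl (irr_ext fun x => ?_)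
        have := congrFun (congrArg Subtype.val e')
          ⟨n * x * n⁻¹, (Subgroup.mem_normalizer_iff.1 hn x).1 x.2⟩
        rw [trivChar_apply] at this ⊢
        rw [← this]
        show _ = cjFun (l : P → ℂ) n⁻¹ _
        rw [h.cjFunP_apply _ (inv_mem hn)]
        exact congrArg _ (Subtype.ext (by simp [mul_assoc]))
    · rw [h.coef_eq_zero_of_not_orbit hM hχ hη', mul_zero]
  rw [Finset.sum_congr rfl fun η' _ => hterm η', ← Finset.sum_filter, Finset.sum_const,
    nsmul_eq_mul, Nat.card_eq_fintype_card, ← Set.toFinset_card]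
  push_cast
  rw [show (Finset.univ.filter fun η' => η' ∈ orbitV P η) = (orbitV P η).toFinset by ext; simp]
  ring

/-- Multiplicities of an exceptional character. -/
theorem aMult_sub_of_rel (hM : IsPModular p M) {η : IrrCharacter V} {χ : IrrCharacter G}
    (hχ : χ ∈ blockSet M P (η : V → ℂ)) {μ : IrrCharacter P} {ε : ℤ} (hε : ε = 1 ∨ ε = -1)
    (hμ : μ ≠ trivChar P)
    (h1 : ∀ l, l ≠ trivChar P → h.Rel (η : V → ℂ) l μ → h.coef η χ l = ε)
    (h0 : ∀ l, l ≠ trivChar P → ¬ h.Rel (η : V → ℂ) l μ → h.coef η χ l = 0) :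
    (∀ l, l ≠ trivChar P → ¬ InN P μ l → h.aMult χ l = h.aMult χ (trivChar P)) ∧
      (charDegree (η : V → ℂ) : ℤ) ≤ ε * ((h.aMult χ μ : ℤ) - h.aMult χ (trivChar P)) := by
  classical
  have hcases : ∀ l, h.coef η χ l = 0 ∨ h.coef η χ l = ε := fun l => by
    by_cases hl : l = trivChar P
    · left; rw [hl]; exact h.coef_trivChar η χ
    · by_cases hr : h.Rel (η : V → ℂ) l μ
      · right; exact h1 l hl hr
      · left; exact h0 l hl hr
  refine ⟨fun l hl hlμ => ?_, ?_⟩
  · apply Nat.cast_injective (R := ℤ)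
    rw [← sub_eq_zero, h.aMult_sub]
    refine Finset.sum_eq_zero fun η' _ => ?_
    by_cases hη' : η' ∈ orbitV P η
    · obtain ⟨n, hn, e⟩ := hη'
      obtain rfl : η' = ⟨_, h.isIrr_cjFun η.2 hn⟩ := Subtype.ext e
      rw [h.coef_conj η χ l hn]
      by_cases hl' : (⟨_, h.isIrr_cjFunP l (inv_mem hn)⟩ : IrrCharacter P) = trivChar P
      · rw [hl', h.coef_trivChar, mul_zero]
      · rw [h0 _ hl' ?_, mul_zero]
        rintro ⟨g, hg, eg⟩
        refine hlμ ⟨g * n, mul_mem hg.1 hn, ?_⟩
        rw [← h.cjFunP_mul _ hg.1 hn, eg]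
        show cjFun (cjFun (l : P → ℂ) n⁻¹) n = _
        rw [h.cjFunP_mul _ (inv_mem hn) hn, inv_mul_cancel]
        funext y; simp [cjFun, extendByZero_coe]
    · rw [h.coef_eq_zero_of_not_orbit hM hχ hη', mul_zero]
  · rw [h.aMult_sub, Finset.mul_sum]
    refine le_trans (le_of_eq ?_) (Finset.single_le_sum (f := fun η' : IrrCharacter V =>
      ε * ((charDegree (η' : V → ℂ) : ℤ) * h.coef η' χ μ)) (fun η' _ => ?_) (Finset.mem_univ η))
    · show _ = ε * (_ * h.coef η χ μ)
      rw [h1 μ hμ ((h.rel_equiv _).refl μ)]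
      rcases hε with rfl | rfl <;> ring
    · by_cases hη' : η' ∈ orbitV P η
      · obtain ⟨n, hn, e⟩ := hη'
        obtain rfl : η' = ⟨_, h.isIrr_cjFun η.2 hn⟩ := Subtype.ext e
        rw [h.coef_conj η χ μ hn]
        rcases hcases ⟨_, h.isIrr_cjFunP μ (inv_mem hn)⟩ with e' | e' <;> rw [e']
        · simp
        · rcases hε with rfl | rfl <;> simp
      · rw [h.coef_eq_zero_of_not_orbit hM hχ hη']; simp

omit [Fintype V] [Fintype (IrrCharacter V)] [M.IsPrime] in
open scoped Classical in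
/-- Orbits of nontrivial characters of `P` under the normalizer have `f` members. -/
theorem card_inN [Fintype (IrrCharacter P)] (μ : IrrCharacter P) (hμ : μ ≠ trivChar P) :
    (Finset.univ.filter fun l => InN P μ l).card =
      (Subgroup.centralizer (P : Set G)).relIndex (Subgroup.normalizer (P : Set G)) := by
  classical
  have hV : Fintype V := Fintype.ofFinite V
  rw [← h.inertialIndex_trivChar, ← h.card_orbit (trivChar V) μ hμ]
  refine congrArg Finset.card (Finset.filter_congr fun l _ => ⟨?_, ?_⟩)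
  · rintro ⟨n, hn, e⟩
    exact ⟨n, ⟨hn, funext fun v => by rw [h.cjFun_apply _ hn, trivChar_apply, trivChar_apply]⟩, e⟩
  · rintro ⟨n, hn, e⟩
    exact ⟨n, hn.1, e⟩

end Setup

end CfsgLib.Blocks.PrimeSylow
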