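import Cfsg.Agent.Lib.Blocks.PrimeSylow.Block

/-!
# Characters of `V` inducing the same block are conjugate
-/

set_option autoImplicit false

open scoped ComplexConjugate

namespace CfsgLib.Blocks.PrimeSylow

open Cfsg CfsgLib.Char

variable {G : Type*} [Group G] [Fintype G] {p : ℕ} {P V : Subgroup G}

namespace Setup

variable (h : Setup p P V)
include h

theorem card_V_not_dvd [Fact p.Prime] : ¬ p ∣ Nat.card V := fun hd => by
  obtain ⟨w, hw⟩ := exists_prime_orderOf_dvd_card' p hd
  exact h.not_dvd_orderOf w.2 (by rw [Subgroup.orderOf_coe, hw])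

theorem div_degree_mem [Fact p.Prime] {M : Ideal AlgInt} [M.IsPrime] (hM : IsPModular p M)
    (η : IrrCharacter V) (v : V) : (η : V → ℂ) v / (η : V → ℂ) 1 ∈ localRing M := by
  classical
  have : Fintype V := Fintype.ofFinite V
  rw [div_eq_mul_inv, apply_one_eq_charDegree η]
  exact mul_mem
    (mem_localRing_of_isIntegral (Char.IsChar.isIntegral (Char.IsIrr.isCharacter η.2) v))
    (inv_natCast_mem hM fun hd => h.card_V_not_dvd (hd.trans (Blocks.charDegree_dvd_card η)))

open scoped Classical in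
/-- On `p`-regular elements the induced central character is a class sum over `V`. -/
theorem indChar_apply_regular [Fintype V] (η : V → ℂ) {v : G} (hv : ¬ p ∣ orderOf v) :
    indChar P η v = ∑ u : V, if IsConj v (u : G) then η u / η 1 else 0 := by
  classical
  unfold indChar
  rw [Finset.sum_eq_single (1 : P)]
  · refine Finset.sum_congr (by ext; simp) fun u _ => ?_
    simp
  · intro x _ hx
    refine Finset.sum_eq_zero fun u _ => if_neg fun hc => hv ?_
    obtain ⟨c, hc⟩ := isConj_iff.1 hc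
    have hd : p ∣ orderOf ((x : G) * u) := (IsPPart.dvd_orderOf_iff h.prime (h.isPPart x.2 u.2)).2
      (fun e => hx (Subtype.ext e))
    rwa [← hc, show c * v * c⁻¹ = MulAut.conj c v by simp, MulEquiv.orderOf_eq] at hd
  · simp

open scoped Classical in
/-- A normalizer class inside `V` has order prime to `p`. -/
theorem card_class_not_dvd [Fact p.Prime] [Fintype V] (v : V) :
    ¬ p ∣ (Finset.univ.filter fun u : V => IsConj (v : G) (u : G)).card := by
  classical
  set N := Subgroup.normalizer (P : Set G)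
  set F := Finset.univ.filter fun u : V => IsConj (v : G) (u : G)
  set S := Finset.univ.filter fun n : G => n ∈ N
  set K := Finset.univ.filter fun n : G => n ∈ N ∧ n * (v : G) * n⁻¹ = v
  have hmaps : ∀ n ∈ S, n * (v : G) * n⁻¹ ∈ F.image (fun u : V => (u : G)) := fun n hn =>
    Finset.mem_image.2 ⟨⟨_, h.conj_mem (Finset.mem_filter.1 hn).2 v.2⟩,
      Finset.mem_filter.2 ⟨Finset.mem_univ _, isConj_iff.2 ⟨n, rfl⟩⟩, rfl⟩
  have hcount := Finset.card_eq_sum_card_fiberwise hmaps
  rw [Finset.sum_image fun _ _ _ _ e => Subtype.ext e] at hcount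
  have hfib : ∀ u ∈ F, (S.filter fun n => n * (v : G) * n⁻¹ = (u : G)).card = K.card := by
    intro u hu
    obtain ⟨n₀, hn₀, hn₀v⟩ := h.fusion_regular v.2 u.2 (Finset.mem_filter.1 hu).2
    refine Finset.card_equiv (Equiv.mulLeft n₀⁻¹) fun n => ?_
    simp only [S, K, Finset.mem_filter, Finset.mem_univ, true_and, Equiv.coe_mulLeft]
    constructor
    · rintro ⟨hn, he⟩
      refine ⟨mul_mem (inv_mem hn₀) hn, ?_⟩
      rw [show n₀⁻¹ * n * (v : G) * (n₀⁻¹ * n)⁻¹ = n₀⁻¹ * (n * (v : G) * n⁻¹) * n₀ by group, he,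
        ← hn₀v]
      group
    · rintro ⟨hn, he⟩
      refine ⟨by simpa using mul_mem hn₀ hn, ?_⟩
      rw [← hn₀v, show n * (v : G) * n⁻¹ = n₀ * (n₀⁻¹ * n * (v : G) * (n₀⁻¹ * n)⁻¹) * n₀⁻¹ by group, he]
  rw [Finset.sum_congr rfl hfib, Finset.sum_const, smul_eq_mul] at hcount
  have hS : S.card = Nat.card N := by
    rw [Nat.card_eq_fintype_card, ← Fintype.card_coe]
    exact Fintype.card_congr (Equiv.subtypeEquivRight fun n => by simp [S])
  have hK : p ∣ K.card := by
    let L : Subgroup G := N ⊓ Subgroup.centralizer ({(v : G)} : Set G)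
    have hPL : P ≤ L := le_inf P.le_normalizer fun x hx =>
      Subgroup.mem_centralizer_iff.2 fun y hy => by
        rw [Set.mem_singleton_iff.1 hy]; exact (h.commute hx v.2).eq.symm
    have e : K.card = Nat.card L := by
      rw [Nat.card_eq_fintype_card, ← Fintype.card_coe]
      refine Fintype.card_congr (Equiv.subtypeEquivRight fun n => ?_)
      simp only [K, L, Finset.mem_filter, Finset.mem_univ, true_and, Subgroup.mem_inf,
        Subgroup.mem_centralizer_iff, Set.mem_singleton_iff, forall_eq, mul_inv_eq_iff_eq_mul]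
      exact and_congr_right fun _ => eq_comm
    rw [e]
    exact h.card ▸ Subgroup.card_dvd_of_le hPL
  intro hF
  have h2 : p * p ∣ Nat.card G := (mul_dvd_mul hF hK).trans
    (hcount ▸ hS ▸ Subgroup.card_subgroup_dvd_card N)
  rw [← P.card_mul_index, h.card] at h2
  exact h.not_dvd ((Nat.mul_dvd_mul_iff_left h.prime.pos).1 h2)

/-- Characters of `V` inducing the same block are conjugate in `N_G(P)`. -/
theorem exists_conj_of_mem [Fact p.Prime] [Fintype V] {M : Ideal AlgInt} [M.IsPrime]
    (hM : IsPModular p M) {η η' : IrrCharacter V} {χ : IrrCharacter G}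
    (hη : χ ∈ blockSet M P (η : V → ℂ)) (hη' : χ ∈ blockSet M P (η' : V → ℂ)) :
    ∃ n ∈ Subgroup.normalizer (P : Set G), (η' : V → ℂ) = cjFun (η : V → ℂ) n := by
  classical
  set O : Set (IrrCharacter V) :=
    {ζ | ∃ n ∈ Subgroup.normalizer (P : Set G), (ζ : V → ℂ) = cjFun (η : V → ℂ) n}
  set a : V → ℂ := blockCoeff O
  have ha : ∀ v, a v ∈ localRing M := fun v => by
    simp only [a, blockCoeff]
    refine mul_mem (inv_natCast_mem hM h.card_V_not_dvd) ?_
    rw [finsum_mem_eq_finite_toFinset_sum _ (Set.toFinite O)]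
    refine sum_mem fun ζ _ => mul_mem (apply_mem_localRing ζ 1) ?_
    rw [← Char.IsIrr.map_inv ζ.2]
    exact apply_mem_localRing ζ _
  -- the coefficients are stable under the normalizer
  have hinv : ∀ (n : G) (hn : n ∈ Subgroup.normalizer (P : Set G)) (v : V),
      a (h.conjV hn v) = a v := by
    intro n hn v
    simp only [a, blockCoeff]
    congr 1
    refine finsum_mem_eq_of_bijOn (fun ζ => ⟨_, h.isIrr_cjFun ζ.2 hn⟩) ?_ fun ζ _ => ?_
    · refine ⟨?_, ?_, ?_⟩
      · rintro ζ ⟨m, hm, hζ⟩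
        exact ⟨m * n, mul_mem hm hn, by rw [← h.cjFun_mul _ hm hn, ← hζ]⟩
      · intro ζ _ ξ _ e
        have e' : cjFun (cjFun (ζ : V → ℂ) n) n⁻¹ = cjFun (cjFun (ξ : V → ℂ) n) n⁻¹ :=
          congrArg (fun f : IrrCharacter V => cjFun (f : V → ℂ) n⁻¹) e
        rw [h.cjFun_mul _ hn (inv_mem hn), h.cjFun_mul _ hn (inv_mem hn), mul_inv_cancel,
          h.cjFun_one, h.cjFun_one] at e'
        exact Subtype.ext e'
      · rintro ζ ⟨m, hm, hζ⟩
        refine ⟨⟨_, h.isIrr_cjFun ζ.2 (inv_mem hn)⟩,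
          ⟨m * n⁻¹, mul_mem hm (inv_mem hn), ?_⟩, Subtype.ext ?_⟩
        · show cjFun (ζ : V → ℂ) n⁻¹ = _
          rw [hζ, h.cjFun_mul _ hm (inv_mem hn)]
        · show cjFun (cjFun (ζ : V → ℂ) n⁻¹) n = _
          rw [h.cjFun_mul _ (inv_mem hn) hn, inv_mul_cancel, h.cjFun_one]
    · show _ = cjFun (ζ : V → ℂ) n 1 * conj (cjFun (ζ : V → ℂ) n v)
      rw [h.cjFun_eq_comp _ hn]
      simp
  have hainv : ∀ v u : V, IsConj (v : G) (u : G) → a u = a v := by
    intro v u hc
    obtain ⟨n, hn, e⟩ := h.fusion_regular v.2 u.2 hc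
    rw [← hinv n hn v]
    exact congrArg a (Subtype.ext e.symm)
  set F : V → Finset V := fun v => Finset.univ.filter fun u : V => IsConj (v : G) (u : G)
  have hFu : ∀ v, ∀ u ∈ F v, F u = F v := fun v u hu => by
    have hc := (Finset.mem_filter.1 hu).2
    ext w
    simp only [F, Finset.mem_filter, Finset.mem_univ, true_and]
    exact ⟨hc.trans, hc.symm.trans⟩
  have homega : ∀ ζ : IrrCharacter V, omega (ζ : V → ℂ) (blockIdem O) =
      ∑ v : V, a v / ((F v).card : ℂ) * indChar P (ζ : V → ℂ) (v : G) := by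
    intro ζ
    rw [omega_apply, Finset.sum_div]
    have e1 : ∀ v : V, a v / ((F v).card : ℂ) * indChar P (ζ : V → ℂ) (v : G) =
        ∑ u : V, if u ∈ F v then
          a u / ((F u).card : ℂ) * ((ζ : V → ℂ) u / (ζ : V → ℂ) 1) else 0 := by
      intro v
      rw [h.indChar_apply_regular _ (h.not_dvd_orderOf v.2), Finset.mul_sum]
      refine Finset.sum_congr rfl fun u _ => ?_
      by_cases hu : IsConj (v : G) (u : G)
      · have hu' : u ∈ F v := Finset.mem_filter.2 ⟨Finset.mem_univ _, hu⟩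
        rw [if_pos hu, if_pos hu', hainv v u hu, hFu v u hu']
      · have hu' : u ∉ F v := fun h' => hu (Finset.mem_filter.1 h').2
        rw [if_neg hu, if_neg hu', mul_zero]
    rw [Finset.sum_congr rfl fun v _ => e1 v, Finset.sum_comm]
    refine Finset.sum_congr rfl fun u _ => ?_
    have hsym : ∀ v, u ∈ F v ↔ v ∈ F u := fun v => by
      simp only [F, Finset.mem_filter, Finset.mem_univ, true_and]
      exact ⟨IsConj.symm, IsConj.symm⟩
    simp only [hsym, ← Finset.sum_filter, Finset.sum_const, Finset.filter_univ_mem, nsmul_eq_mul]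
    have hne : ((F u).card : ℂ) ≠ 0 :=
      Nat.cast_ne_zero.2 (Finset.card_ne_zero.2 ⟨u, Finset.mem_filter.2 ⟨Finset.mem_univ _, IsConj.refl _⟩⟩)
    rw [coeff_blockIdem]
    show a u * _ / _ = _
    field_simp
  have hJ : ∀ (ζ : IrrCharacter V) (g : G), indChar P (ζ : V → ℂ) g ∈ localRing M := fun ζ g =>
    sum_mem fun y _ => sum_mem fun v _ => by
      split_ifs
      · exact h.div_degree_mem hM ζ v
      · exact zero_mem _
  have hcoef : ∀ v, a v / ((F v).card : ℂ) ∈ localRing M := fun v => by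
    rw [div_eq_mul_inv]
    exact mul_mem (ha v) (inv_natCast_mem hM (h.card_class_not_dvd v))
  have hrv : rv M (omega (η : V → ℂ) (blockIdem O)) = rv M (omega (η' : V → ℂ) (blockIdem O)) := by
    rw [homega, homega, rv_sum _ _ fun v _ => mul_mem (hcoef v) (hJ η _),
      rv_sum _ _ fun v _ => mul_mem (hcoef v) (hJ η' _)]
    refine Finset.sum_congr rfl fun v _ => ?_
    rw [rv_mul (hcoef v) (hJ η _), rv_mul (hcoef v) (hJ η' _),
      ((memLocalIdeal_sub_iff (centralChar_mem χ _)).1 (hη v)).2,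
      ((memLocalIdeal_sub_iff (centralChar_mem χ _)).1 (hη' v)).2]
  rw [omega_blockIdem, omega_blockIdem,
    if_pos (show η ∈ O from ⟨1, one_mem _, (h.cjFun_one _).symm⟩), rv_one] at hrv
  by_contra hcon
  rw [if_neg (show η' ∉ O from hcon), rv_zero] at hrv
  exact one_ne_zero hrv

end Setup

end CfsgLib.Blocks.PrimeSylow
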