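import Cfsg.Agent.Lib.Blocks.Sections
import Cfsg.Agent.Lib.Blocks.Orthogonality
import Mathlib.GroupTheory.SchurZassenhaus

/-!
# A Sylow subgroup of prime order: centralizer, normalizer and fusion
-/

set_option autoImplicit false

namespace CfsgLib.Blocks.PrimeSylow

open Cfsg

variable {G : Type*} [Group G]

/-- `P` is a Sylow subgroup of order `p` and `V` the `p'`-part of its centralizer. -/
structure Setup (p : ℕ) (P V : Subgroup G) : Prop where
  prime : p.Prime
  card : Nat.card P = p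
  not_dvd : ¬ p ∣ P.index
  mem_V : ∀ v, v ∈ V ↔ v ∈ Subgroup.centralizer (P : Set G) ∧ ¬ p ∣ orderOf v

variable [Finite G] {p : ℕ} {P V : Subgroup G}

/-- `P` contains every element of order dividing `p` normalizing it. -/
theorem mem_of_pow_eq_one (hp : p.Prime) (hS : ¬ p ∣ P.index) {y : G}
    (hy : y ∈ Subgroup.normalizer (P : Set G)) (h1 : y ^ p = 1) : y ∈ P := by
  set N := Subgroup.normalizer (P : Set G)
  haveI := Fact.mk hp
  by_contra hyP
  refine hS (dvd_trans ?_ (Subgroup.relIndex_dvd_index_of_le (P.le_normalizer : P ≤ N)))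
  have h2 : (QuotientGroup.mk' (P.subgroupOf N) ⟨y, hy⟩) ≠ 1 := fun e =>
    hyP (Subgroup.mem_subgroupOf.1 ((QuotientGroup.eq_one_iff _).1 e))
  have h3 : (QuotientGroup.mk' (P.subgroupOf N) ⟨y, hy⟩) ^ p = 1 := by
    rw [← map_pow, show (⟨y, hy⟩ : N) ^ p = 1 from Subtype.ext h1, map_one]
  rw [Subgroup.relIndex, Subgroup.index, ← orderOf_eq_prime h3 h2]
  exact orderOf_dvd_natCard _

/-- The setup exists. -/
theorem exists_setup [Fact p.Prime] (hcard : Nat.card P = p) (hS : ¬ p ∣ P.index) :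
    ∃ V : Subgroup G, Setup p P V := by
  have hp := Fact.out (p := p.Prime)
  haveI : IsCyclic P := isCyclic_of_prime_card hcard
  set C := Subgroup.centralizer (P : Set G) with hC
  have hPC : P ≤ C := fun x hx => Subgroup.mem_centralizer_iff.2 fun y hy => by
    exact congrArg Subtype.val (mul_comm' (⟨y, hy⟩ : P) ⟨x, hx⟩)
  have : (P.subgroupOf C).Normal := ⟨fun x hx g => by
    have h := Subgroup.mem_centralizer_iff.1 g.2 _ (Subgroup.mem_subgroupOf.1 hx)
    rw [Subgroup.mem_subgroupOf, Subgroup.coe_mul, Subgroup.coe_mul, Subgroup.coe_inv, ← h,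
      mul_inv_cancel_right]
    exact Subgroup.mem_subgroupOf.1 hx⟩
  have hidx : ¬ p ∣ (P.subgroupOf C).index := fun hd =>
    hS (hd.trans (Subgroup.relIndex_dvd_index_of_le hPC))
  have hcP : Nat.card (P.subgroupOf C) = p := by
    rw [Nat.card_congr (Subgroup.subgroupOfEquivOfLe hPC).toEquiv, hcard]
  obtain ⟨H, hH⟩ := Subgroup.exists_right_complement'_of_coprime
    (N := P.subgroupOf C) (by rw [hcP]; exact hp.coprime_iff_not_dvd.2 hidx)
  have hHc : ¬ p ∣ Nat.card H := by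
    rwa [← hH.symm.index_eq_card]
  refine ⟨H.map C.subtype, hp, hcard, hS, fun v => ⟨?_, fun hv => ?_⟩⟩
  · rintro ⟨v, hv, rfl⟩
    refine ⟨v.2, fun hd => hHc (hd.trans ?_)⟩
    rw [Subgroup.coe_subtype, Subgroup.orderOf_coe]
    exact (Subgroup.orderOf_dvd_natCard _ hv)
  · obtain ⟨⟨x, h⟩, hxh, -⟩ := hH.existsUnique ⟨v, hv.1⟩
    simp only at hxh
    refine ⟨h, h.2, ?_⟩
    have hx1 : (x : C) = 1 := by
      by_contra hne
      refine hv.2 ?_
      have hcomm : Commute (x : C) (h : C) := Subtype.ext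
        (Subgroup.mem_centralizer_iff.1 (h : C).2 _ (Subgroup.mem_subgroupOf.1 x.2))
      have hox : orderOf (x : C) = p := by
        have h1 := Subgroup.orderOf_dvd_natCard _ x.2
        rw [hcP] at h1
        exact ((Nat.dvd_prime hp).1 h1).resolve_left fun e => hne (orderOf_eq_one_iff.1 e)
      have hcop : (orderOf (x : C)).Coprime (orderOf (h : C)) := by
        rw [hox, hp.coprime_iff_not_dvd]
        exact fun hd => hHc (hd.trans (Subgroup.orderOf_dvd_natCard _ h.2))
      have : orderOf v = p * orderOf (h : C) := by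
        rw [← hox, ← hcomm.orderOf_mul_eq_mul_orderOf_of_coprime hcop, hxh,
          ← Subgroup.orderOf_coe]
      rw [this]
      exact dvd_mul_right _ _
    rw [hx1, one_mul] at hxh
    rw [hxh]
    rfl

namespace Setup

variable (h : Setup p P V)
include h

omit [Finite G] in
theorem V_le : V ≤ Subgroup.centralizer (P : Set G) := fun v hv => ((h.mem_V v).1 hv).1

omit [Finite G] in
theorem not_dvd_orderOf {v : G} (hv : v ∈ V) : ¬ p ∣ orderOf v := ((h.mem_V v).1 hv).2

omit [Finite G] in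
theorem commute {x v : G} (hx : x ∈ P) (hv : v ∈ V) : Commute x v :=
  Subgroup.mem_centralizer_iff.1 (h.V_le hv) x hx

omit [Finite G] in
theorem le_centralizer : P ≤ Subgroup.centralizer (P : Set G) := by
  haveI := Fact.mk h.prime
  haveI : IsCyclic P := isCyclic_of_prime_card h.card
  exact fun x hx => Subgroup.mem_centralizer_iff.2 fun y hy =>
    congrArg Subtype.val (mul_comm' (⟨y, hy⟩ : P) ⟨x, hx⟩)

omit [Finite G] in
theorem pow_eq_one {x : G} (hx : x ∈ P) : x ^ p = 1 := by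
  have := congrArg Subtype.val (pow_card_eq_one' (x := (⟨x, hx⟩ : P)))
  rwa [h.card, Subgroup.coe_pow, Subgroup.coe_one] at this

omit [Finite G] in
theorem orderOf_eq {x : G} (hx : x ∈ P) (hx1 : x ≠ 1) : orderOf x = p := by
  haveI := Fact.mk h.prime
  exact orderOf_eq_prime (h.pow_eq_one hx) hx1

omit [Finite G] in
theorem isPPart {x v : G} (hx : x ∈ P) (hv : v ∈ V) : IsPPart p (x * v) x := by
  refine ⟨v, rfl, h.commute hx hv, ?_, h.not_dvd_orderOf hv⟩
  by_cases hx1 : x = 1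
  · exact ⟨0, by simp [hx1]⟩
  · exact ⟨1, by rw [h.orderOf_eq hx hx1, pow_one]⟩

omit [Finite G] in
theorem zpowers_eq {x : G} (hx : x ∈ P) (hx1 : x ≠ 1) : Subgroup.zpowers x = P := by
  have : Finite P := Nat.finite_of_card_ne_zero (h.card ▸ h.prime.ne_zero)
  refine Subgroup.eq_of_le_of_card_ge (Subgroup.zpowers_le.2 hx) ?_
  rw [h.card, Nat.card_zpowers, h.orderOf_eq hx hx1]

omit [Finite G] in
theorem centralizer_singleton {x : G} (hx : x ∈ P) (hx1 : x ≠ 1) :
    Subgroup.centralizer ({x} : Set G) = Subgroup.centralizer (P : Set G) := by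
  refine le_antisymm (fun g hg => Subgroup.mem_centralizer_iff.2 fun y hy => ?_)
    (Subgroup.centralizer_le (Set.singleton_subset_iff.2 hx))
  rw [SetLike.mem_coe, ← h.zpowers_eq hx hx1, Subgroup.mem_zpowers_iff] at hy
  obtain ⟨j, rfl⟩ := hy
  have hc : Commute x g := Subgroup.mem_centralizer_iff.1 hg x (Set.mem_singleton x)
  exact (hc.zpow_left j).eq

theorem exists_mul {c : G} (hc : c ∈ Subgroup.centralizer (P : Set G)) :
    ∃ x ∈ P, ∃ v ∈ V, x * v = c := by
  obtain ⟨u, hu⟩ := exists_pPart h.prime c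
  obtain ⟨v, hv, hcomm, ⟨k, hk⟩, hvo⟩ := id hu
  have huc : u ∈ Subgroup.centralizer (P : Set G) := by
    obtain ⟨m, hm, hcm, -⟩ := IsPPart.exists_exponent h.prime hu
    have h1 : u ^ m ∈ Subgroup.centralizer (P : Set G) := hcm ▸ Subgroup.pow_mem _ hc m
    obtain ⟨t, ht⟩ : ∃ t : ℕ, (u ^ m) ^ t = u := by
      refine exists_pow_eq_self_of_coprime ?_
      rw [hk]
      exact (Nat.Coprime.pow_right _ ((h.prime.coprime_iff_not_dvd.2 hm)).symm)
    rw [← ht]
    exact Subgroup.pow_mem _ h1 t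
  have huN : u ∈ Subgroup.normalizer (P : Set G) := by
    refine Subgroup.mem_normalizer_iff.2 fun y => ⟨fun hy => ?_, fun hy => ?_⟩
    · rwa [← Subgroup.mem_centralizer_iff.1 huc y hy, mul_inv_cancel_right]
    · have e := Subgroup.mem_centralizer_iff.1 huc _ hy
      have : y = u * y * u⁻¹ := by
        have e' : u⁻¹ * (u * y * u⁻¹ * u) = u⁻¹ * (u * (u * y * u⁻¹)) := by rw [e]
        simpa [mul_assoc] using e'
      rwa [this]
  have hup : u ^ p = 1 := by
    rcases k with _ | _ | k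
    · rw [pow_zero, orderOf_eq_one_iff] at hk; simp [hk]
    · rw [← pow_one p, ← hk, pow_orderOf_eq_one]
    · exfalso
      have h2 : p ^ 2 ∣ Nat.card G := (pow_dvd_pow p (by omega)).trans (hk ▸ orderOf_dvd_natCard u)
      rw [← P.card_mul_index, h.card, sq] at h2
      exact h.not_dvd ((Nat.mul_dvd_mul_iff_left h.prime.pos).1 h2)
  refine ⟨u, mem_of_pow_eq_one h.prime h.not_dvd huN hup, v, (h.mem_V v).2 ⟨?_, hvo⟩, hv⟩
  rw [show v = u⁻¹ * c by rw [← hv, inv_mul_cancel_left]]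
  exact mul_mem (inv_mem huc) hc

omit [Finite G] in
theorem mul_inj {x x' v v' : G} (hx : x ∈ P) (hx' : x' ∈ P) (hv : v ∈ V) (hv' : v' ∈ V)
    (e : x * v = x' * v') : x = x' ∧ v = v' := by
  have hxx : x = x' := by
    have := conj_pPart_eq h.prime (h.isPPart hx hv) (e ▸ h.isPPart hx' hv' : IsPPart p (x * v) x')
      (x := 1) (j := 1) (by simpa using h.prime.ne_one) (by simp)
    simpa using this
  exact ⟨hxx, mul_left_cancel (hxx ▸ e)⟩

omit [Finite G] in
theorem conj_mem {n v : G} (hn : n ∈ Subgroup.normalizer (P : Set G)) (hv : v ∈ V) :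
    n * v * n⁻¹ ∈ V := by
  refine (h.mem_V _).2 ⟨Subgroup.mem_centralizer_iff.2 fun x hx => ?_, ?_⟩
  · have h1 := (h.commute ((Subgroup.mem_normalizer_iff''.1 hn x).1 hx) hv).eq
    calc x * (n * v * n⁻¹) = n * ((n⁻¹ * x * n) * v) * n⁻¹ := by group
      _ = n * (v * (n⁻¹ * x * n)) * n⁻¹ := by rw [h1]
      _ = n * v * n⁻¹ * x := by group
  · rw [show n * v * n⁻¹ = MulAut.conj n v by simp, MulEquiv.orderOf_eq]
    exact h.not_dvd_orderOf hv

omit [Finite G] in
/-- Fusion of `p`-singular elements of the centralizer. -/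
theorem fusion {x x' v v' g : G} (hx : x ∈ P) (hx' : x' ∈ P) (hx1 : x ≠ 1) (hv : v ∈ V)
    (hv' : v' ∈ V) (e : g * (x * v) * g⁻¹ = x' * v') :
    g ∈ Subgroup.normalizer (P : Set G) ∧ g * x * g⁻¹ = x' ∧ g * v * g⁻¹ = v' := by
  have h1 : g⁻¹⁻¹ * x * g⁻¹ = x' := by
    refine conj_pPart_eq h.prime (h.isPPart hx hv) (h.isPPart hx' hv') (j := 1)
      (by simpa using h.prime.ne_one) ?_
    rw [pow_one, pow_one, ← e]
    group
  rw [inv_inv] at h1
  have hx'1 : x' ≠ 1 := fun e' => hx1 (by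
    have : x = g⁻¹ * x' * g := by rw [← h1]; group
    rw [this, e']; group)
  refine ⟨?_, h1, ?_⟩
  · have key : ∀ a b : G, a ∈ P → a ≠ 1 → b ∈ P → ∀ g : G, g * a * g⁻¹ = b → ∀ y ∈ P,
        g * y * g⁻¹ ∈ P := fun a b ha ha1 hb g hg y hy => by
      rw [← h.zpowers_eq ha ha1, Subgroup.mem_zpowers_iff] at hy
      obtain ⟨j, rfl⟩ := hy
      rw [← conj_zpow, hg]
      exact P.zpow_mem hb j
    refine Subgroup.mem_normalizer_iff.2 fun y => ⟨key x x' hx hx1 hx' g h1 y, fun hy => ?_⟩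
    have := key x' x hx' hx'1 hx g⁻¹ (by rw [← h1]; group) _ hy
    simpa [mul_assoc] using this
  · have : g * v * g⁻¹ = (g * x * g⁻¹)⁻¹ * (g * (x * v) * g⁻¹) := by group
    rw [this, e, h1, inv_mul_cancel_left]

/-- Fusion of `p`-regular elements of the centralizer is controlled by the normalizer. -/
theorem fusion_regular [Fact p.Prime] {v v' : G} (hv : v ∈ V) (hv' : v' ∈ V) (hc : IsConj v v') :
    ∃ n ∈ Subgroup.normalizer (P : Set G), n * v * n⁻¹ = v' := by
  obtain ⟨g, hg⟩ := isConj_iff.1 hc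
  set K := Subgroup.centralizer ({v'} : Set G) with hK
  have hPK : P ≤ K := fun x hx => Subgroup.mem_centralizer_iff.2 fun y hy => by
    rw [Set.mem_singleton_iff.1 hy]; exact (h.commute hx hv').eq.symm
  set Q : Subgroup G := P.map (MulAut.conj g).toMonoidHom with hQ
  have hQK : Q ≤ K := by
    rintro _ ⟨x, hx, rfl⟩
    refine Subgroup.mem_centralizer_iff.2 fun y hy => ?_
    rw [Set.mem_singleton_iff.1 hy, MulEquiv.coe_toMonoidHom, MulAut.conj_apply, ← hg]
    calc g * v * g⁻¹ * (g * x * g⁻¹) = g * (v * x) * g⁻¹ := by group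
      _ = g * (x * v) * g⁻¹ := by rw [(h.commute hx hv).eq]
      _ = g * x * g⁻¹ * (g * v * g⁻¹) := by group
  have hcQ : Nat.card Q = p := by
    rw [hQ, Subgroup.card_map_of_injective (MulAut.conj g).injective, h.card]
  have hfac : (Nat.card K).factorization p = 1 := by
    refine le_antisymm ?_ ?_
    · by_contra hlt
      push Not at hlt
      have h2 : p ^ 2 ∣ Nat.card G :=
        ((pow_dvd_pow p hlt).trans (Nat.ordProj_dvd _ _)).trans (Subgroup.card_subgroup_dvd_card K)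
      rw [← P.card_mul_index, h.card, sq] at h2
      exact h.not_dvd ((Nat.mul_dvd_mul_iff_left h.prime.pos).1 h2)
    · exact h.prime.factorization_pos_of_dvd Nat.card_pos.ne'
        (h.card ▸ Subgroup.card_dvd_of_le hPK)
  let SP : Sylow p K := Sylow.ofCard (P.subgroupOf K) (by
    rw [Nat.card_congr (Subgroup.subgroupOfEquivOfLe hPK).toEquiv, h.card, hfac, pow_one])
  let SQ : Sylow p K := Sylow.ofCard (Q.subgroupOf K) (by
    rw [Nat.card_congr (Subgroup.subgroupOfEquivOfLe hQK).toEquiv, hcQ, hfac, pow_one])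
  obtain ⟨c, hc'⟩ := MulAction.exists_smul_eq K SQ SP
  have hmem : ∀ z : G, ∀ hz : z ∈ K, z ∈ Q → (c : G) * z * (c : G)⁻¹ ∈ P := fun z hz hzQ => by
    have h1 : MulAut.conj c ⟨z, hz⟩ ∈ ((c • SQ : Sylow p K) : Subgroup K) :=
      Subgroup.smul_mem_pointwise_smul _ _ _ (Subgroup.mem_subgroupOf.2 hzQ : (⟨z, hz⟩ : K) ∈ Q.subgroupOf K)
    rw [hc'] at h1
    exact Subgroup.mem_subgroupOf.1 h1
  refine ⟨c * g, ?_, ?_⟩
  · have key : ∀ x ∈ P, (c * g : G) * x * (c * g : G)⁻¹ ∈ P := fun x hx => by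
      have h1 : g * x * g⁻¹ ∈ Q := ⟨x, hx, rfl⟩
      have := hmem _ (hQK h1) h1
      simpa [mul_assoc] using this
    refine Subgroup.mem_normalizer_iff.2 fun y => ⟨key y, fun hy => ?_⟩
    have hf : Function.Surjective (fun x : P => (⟨_, key x x.2⟩ : P)) :=
      Finite.surjective_of_injective fun a b e => Subtype.ext (by
        have e' := congrArg Subtype.val e
        simpa using e')
    obtain ⟨x, hx⟩ := hf ⟨_, hy⟩
    have e := congrArg Subtype.val hx
    have : (x : G) = y := by simpa using e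
    exact this ▸ x.2
  · have := Subgroup.mem_centralizer_iff.1 c.2 v' rfl
    calc (c * g : G) * v * (c * g : G)⁻¹ = c * (g * v * g⁻¹) * (c : G)⁻¹ := by group
      _ = v' := by rw [hg, ← this, mul_inv_cancel_right]

/-- Every `p`-singular element is conjugate into `P# V`. -/
theorem exists_singular [Fact p.Prime] {g : G} (hg : p ∣ orderOf g) :
    ∃ x ∈ P, x ≠ 1 ∧ ∃ v ∈ V, IsConj g (x * v) := by
  obtain ⟨u, hu⟩ := exists_pPart h.prime g
  obtain ⟨y, hy, hcomm, ⟨k, hk⟩, hyo⟩ := id hu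
  have hu1 : u ≠ 1 := fun e => hyo (by rwa [← hy, e, one_mul] at hg)
  obtain ⟨S, hS⟩ := (IsPGroup.of_card (p := p) (n := k)
    (by rw [Nat.card_zpowers, hk]) : IsPGroup p (Subgroup.zpowers u)).exists_le_sylow
  let SP : Sylow p G := (IsPGroup.of_card (n := 1) (by rw [h.card, pow_one]) :
    IsPGroup p P).toSylow h.not_dvd
  obtain ⟨a, ha⟩ := MulAction.exists_smul_eq G S SP
  have h1 : a * u * a⁻¹ ∈ P := by
    have h2 : MulAut.conj a u ∈ ((a • S : Sylow p G) : Subgroup G) :=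
      Subgroup.smul_mem_pointwise_smul _ _ _ (hS (Subgroup.mem_zpowers u))
    rw [ha] at h2
    exact h2
  have h1ne : a * u * a⁻¹ ≠ 1 := fun e => hu1 (conj_eq_one_iff.1 e)
  refine ⟨_, h1, h1ne, a * y * a⁻¹, (h.mem_V _).2 ⟨?_, ?_⟩, isConj_iff.2 ⟨a, by rw [← hy]; group⟩⟩
  · rw [← h.centralizer_singleton h1 h1ne, Subgroup.mem_centralizer_iff]
    intro z hz
    rw [Set.mem_singleton_iff.1 hz]
    calc a * u * a⁻¹ * (a * y * a⁻¹) = a * (u * y) * a⁻¹ := by group
      _ = a * (y * u) * a⁻¹ := by rw [hcomm.eq]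
      _ = _ := by group
  · rwa [show a * y * a⁻¹ = MulAut.conj a y by simp, MulEquiv.orderOf_eq]

end Setup

end CfsgLib.Blocks.PrimeSylow
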