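import Cfsg.Agent.Lib.Blocks.PrimeSylow.Multiplicity
import Cfsg.Agent.Lib.CharDegree.Basic

/-!
# Irreducible characters of degree less than `(p - 1) / 2`

In a group generated by the conjugates of a Sylow subgroup `P` of order `p` such a character has
`P` in its centre.
-/

set_option autoImplicit false

open scoped ComplexConjugate

namespace CfsgLib.Blocks.PrimeSylow

open Cfsg CfsgLib.Char

variable {G : Type*} [Group G] [Fintype G] {p : ℕ} [Fact p.Prime] {P V : Subgroup G}

/-- The parts in different blocks of a combination vanishing on the `p`-regular elements vanish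
there separately. -/
theorem sum_block_regular [Fintype (IrrCharacter G)] {M : Ideal AlgInt} [M.IsPrime] (hM : IsPModular p M)
    {B : Set (IrrCharacter G)} (hB : IsPBlock M B) (D : IrrCharacter G → ℂ)
    (hD : ∀ g, ¬ p ∣ orderOf g → ∑ ξ, D ξ * (ξ : G → ℂ) g = 0) {g : G} (hg : ¬ p ∣ orderOf g) :
    ∑ ξ ∈ (Set.toFinite B).toFinset, D ξ * (ξ : G → ℂ) g = 0 := by
  classical
  set S := (Set.toFinite B).toFinset
  set F : G → ℂ := fun y => ∑ ξ ∈ S, D ξ * (ξ : G → ℂ) y
  set R : G → ℂ := fun y => ∑ ξ ∈ Sᶜ, D ξ * (ξ : G → ℂ) y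
  set W := Finset.univ.filter fun y : G => ¬ p ∣ orderOf y
  have h0 : ∑ y ∈ W, F y * conj (R y) = 0 := by
    simp only [F, R, map_sum, map_mul, Finset.sum_mul, Finset.mul_sum]
    rw [Finset.sum_comm]
    refine Finset.sum_eq_zero fun ξ hξ => ?_
    rw [Finset.sum_comm]
    refine Finset.sum_eq_zero fun ψ hψ => ?_
    rw [Finset.mem_compl, Set.Finite.mem_toFinset] at hξ
    rw [Set.Finite.mem_toFinset] at hψ
    have h := sum_regular_eq_zero hM (χ := ψ) (ψ := ξ) fun hs =>
      hξ (by rw [IsPBlock.eq_blockOf hB hψ]; exact hs)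
    calc ∑ y ∈ W, D ψ * (ψ : G → ℂ) y * (conj (D ξ) * conj ((ξ : G → ℂ) y))
        = D ψ * conj (D ξ) * ∑ y ∈ W, (ψ : G → ℂ) y * (ξ : G → ℂ) y⁻¹ := by
          rw [Finset.mul_sum]
          refine Finset.sum_congr rfl fun y _ => ?_
          rw [Char.IsIrr.map_inv ξ.2]
          ring
      _ = 0 := by rw [h, mul_zero]
  have h1 : ∀ y ∈ W, R y = -F y := fun y hy => eq_neg_of_add_eq_zero_right (by
    show F y + R y = 0
    rw [← hD y (Finset.mem_filter.1 hy).2]
    exact Finset.sum_add_sum_compl S _)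
  have h2 : ∑ y ∈ W, Complex.normSq (F y) = 0 := by
    apply Complex.ofReal_injective
    rw [Complex.ofReal_sum, Complex.ofReal_zero, ← neg_eq_zero, ← Finset.sum_neg_distrib, ← h0]
    exact Finset.sum_congr rfl fun y hy => by rw [h1 y hy, map_neg, mul_neg, Complex.mul_conj]
  exact Complex.normSq_eq_zero.1 ((Finset.sum_eq_zero_iff_of_nonneg fun y _ =>
    Complex.normSq_nonneg _).1 h2 g (Finset.mem_filter.2 ⟨Finset.mem_univ _, hg⟩))

namespace Setup

variable (h : Setup p P V)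
include h

theorem centralizer_relIndex_dvd :
    (Subgroup.centralizer (P : Set G)).relIndex (Subgroup.normalizer (P : Set G)) ∣ p - 1 := by
  have := Fintype.ofFinite V
  have : Fintype (NBar P) := Fintype.ofFinite _
  exact h.inertialIndex_trivChar ▸ (h.exists_over (trivChar V)).1

/-- In a group generated by the conjugates of `P`, an irreducible character of degree less than
`(p - 1) / 2` is scalar on `P`. -/
theorem norm_eq_of_small {M : Ideal AlgInt} [M.IsPrime] (hM : IsPModular p M)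
    (hgen : ∀ H : Subgroup G, H.Normal → P ≤ H → H = ⊤) (χ : IrrCharacter G)
    (hn : 2 * charDegree (χ : G → ℂ) + 1 < p) {x : G} (hx : x ∈ P) :
    ‖(χ : G → ℂ) x‖ = (charDegree (χ : G → ℂ) : ℝ) := by
  classical
  have := Fintype.ofFinite P
  have := Fintype.ofFinite V
  have := Fintype.ofFinite (IrrCharacter G)
  have := Fintype.ofFinite (IrrCharacter P)
  have := Fintype.ofFinite (IrrCharacter V)
  set n := charDegree (χ : G → ℂ) with hndef
  have hn0 : 0 < n := Blocks.charDegree_pos χ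
  have hp2 := h.prime.two_le
  set f := (Subgroup.centralizer (P : Set G)).relIndex (Subgroup.normalizer (P : Set G)) with hfdef
  have hfdvd : f ∣ p - 1 := h.centralizer_relIndex_dvd
  have hfle : f ≤ p - 1 := Nat.le_of_dvd (by omega) hfdvd
  have hhalf : f < p - 1 → 2 * f ≤ p - 1 := by
    intro hlt
    obtain ⟨c, hc⟩ := hfdvd
    rw [hc] at hlt ⊢
    have : 2 ≤ c := by
      rcases c with _ | _ | c <;> simp_all
    nlinarith
  have hnorm : ∀ l₀ : IrrCharacter P, (∀ l, l ≠ l₀ → h.aMult χ l = 0) → ‖(χ : G → ℂ) x‖ = (n : ℝ) := by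
    intro l₀ hl₀
    have ha : h.aMult χ l₀ = n := by
      rw [hndef, ← h.sum_aMult χ, Finset.sum_eq_single l₀ (fun l _ hl => hl₀ l hl)
        (fun hi => absurd (Finset.mem_univ _) hi)]
    have e := h.apply_eq_sum_aMult χ ⟨x, hx⟩
    rw [Finset.sum_eq_single l₀ (fun l _ hl => by rw [hl₀ l hl, Nat.cast_zero, zero_mul])
      (fun hi => absurd (Finset.mem_univ _) hi), ha] at e
    show ‖(χ : G → ℂ) ((⟨x, hx⟩ : P) : G)‖ = _
    rw [e, norm_mul, Complex.norm_natCast,
      Complex.norm_eq_one_of_pow_eq_one (n := p) ?_ h.prime.ne_zero, mul_one]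
    obtain ⟨φ, hφ⟩ := exists_linear_of_degree_one (IsIrr.isCharacter l₀.2) (h.lchar_one l₀)
    have hx' : (⟨x, hx⟩ : P) ^ p = 1 := Subtype.ext (h.pow_eq_one hx)
    simp [hφ, ← Units.val_pow_eq_pow_val, ← map_pow, hx']
  have hndvd : ¬ p ∣ n := fun hd => by have := Nat.le_of_dvd hn0 hd; omega
  obtain ⟨η, hη⟩ := h.exists_mem_blockSet hM hndvd
  obtain ⟨-, Y, ε, w, θ, hε, hYB, hθY, hYθ, -, -, -, hX, hY, -, hrel⟩ :=
    h.exists_structure hM η (B := blockOf M (χ : G → ℂ)) (isPBlock_blockOf χ) (mem_blockOf_self χ) hη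
  have hBeq := blockSet_eq (isPBlock_blockOf χ) (mem_blockOf_self χ) hη
  have hcardNT : (Finset.univ.erase (trivChar P)).card = p - 1 := by
    rw [Finset.card_erase_of_mem (Finset.mem_univ _), Finset.card_univ, ← Nat.card_eq_fintype_card,
      h.card_lchar]
  by_cases hχY : χ ∉ Y
  · obtain ⟨-, hwc⟩ := hX χ ⟨mem_blockOf_self χ, hχY⟩
    refine hnorm (trivChar P) fun l hl => ?_
    by_contra hne
    have hall : ∀ l' ∈ Finset.univ.erase (trivChar P), 1 ≤ h.aMult χ l' := fun l' hl' => by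
      have e1 := h.aMult_sub_of_const hM hη hwc hl
      have e2 := h.aMult_sub_of_const hM hη hwc (Finset.ne_of_mem_erase hl')
      omega
    have h1 : p - 1 ≤ n := by
      rw [← hcardNT, hndef, ← h.sum_aMult χ, Finset.card_eq_sum_ones]
      exact (Finset.sum_le_sum hall).trans (Finset.sum_le_sum_of_subset (Finset.subset_univ _))
    omega
  rw [not_not] at hχY
  obtain ⟨μ, hμ, hχμ⟩ := hYθ χ hχY
  -- multiplicities of a member of the exceptional family
  have hdata : ∀ ν, ν ≠ trivChar P →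
      (∀ l, l ≠ trivChar P → ¬ InN P ν l → h.aMult (θ ν) l = h.aMult (θ ν) (trivChar P)) ∧
      (charDegree (η : V → ℂ) : ℤ) ≤ ε * ((h.aMult (θ ν) ν : ℤ) - h.aMult (θ ν) (trivChar P)) ∧
      (charDegree (θ ν : G → ℂ) : ℤ) + f * h.aMult (θ ν) (trivChar P) =
        p * h.aMult (θ ν) (trivChar P) + f * h.aMult (θ ν) ν := by
    intro ν hν
    obtain ⟨ho, hi⟩ := h.aMult_sub_of_rel hM (hBeq ▸ hYB (hθY ν hν) : θ ν ∈ _) hε hν
      (fun l hl => (hY l ν hl hν).2.1) (fun l hl => (hY l ν hl hν).2.2)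
    refine ⟨ho, hi, ?_⟩
    have hval : ∀ l, (h.aMult (θ ν) l : ℤ) = if InN P ν l then (h.aMult (θ ν) ν : ℤ)
        else h.aMult (θ ν) (trivChar P) := by
      intro l
      split_ifs with hl
      · obtain ⟨g, hg, e⟩ := hl
        obtain rfl : l = ⟨_, h.isIrr_cjFunP ν hg⟩ := Subtype.ext e.symm
        rw [h.aMult_conj (θ ν) ν hg]
      · by_cases hl1 : l = trivChar P
        · rw [hl1]
        · rw [ho l hl1 hl]
    rw [← h.sum_aMult (θ ν), Nat.cast_sum, Finset.sum_congr rfl fun l _ => hval l,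
      Finset.sum_ite, Finset.sum_const, Finset.sum_const, h.card_inN ν hν, nsmul_eq_mul, nsmul_eq_mul]
    have hc : ((Finset.univ.filter fun l => ¬ InN P ν l).card : ℤ) + f = p := by
      have h3 : (Finset.univ.filter fun l => InN P ν l).card +
          (Finset.univ.filter fun l => ¬ InN P ν l).card = (Finset.univ : Finset (IrrCharacter P)).card :=
        Finset.card_filter_add_card_filter_not _
      rw [h.card_inN ν hν, ← hfdef, Finset.card_univ, ← Nat.card_eq_fintype_card, h.card_lchar] at h3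
      omega
    linear_combination (h.aMult (θ ν) (trivChar P) : ℤ) * hc
  have hdegY : ∀ ν, ν ≠ trivChar P → charDegree (θ ν : G → ℂ) = n := by
    intro ν hν
    have h1 := hrel ν hν 1 (by simpa using h.prime.ne_one)
    have h2 := hrel μ hμ 1 (by simpa using h.prime.ne_one)
    have hε0 : (ε : ℂ) ≠ 0 := by rcases hε with rfl | rfl <;> simp
    have h3 := mul_left_cancel₀ hε0 (add_right_cancel (h1.trans h2.symm))
    rw [apply_one_eq_charDegree, apply_one_eq_charDegree, hχμ, ← hndef] at h3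
    exact_mod_cast h3
  obtain ⟨ho, hi, hdeg⟩ := hdata μ hμ
  rw [hdegY μ hμ, hχμ] at hdeg
  rw [hχμ] at ho hi
  set a₁ := h.aMult χ (trivChar P)
  set aμ := h.aMult χ μ
  have hdη : (1 : ℤ) ≤ charDegree (η : V → ℂ) := by exact_mod_cast Blocks.charDegree_pos η
  have hnp : (2 * n + 1 : ℤ) < p := by exact_mod_cast hn
  have hε1 : ε = 1 ∨ ∀ l, l ≠ trivChar P → h.aMult χ l = 0 := by
    rcases hε with he | he
    · exact Or.inl he
    · right
      subst he
      have ha1 : (aμ : ℤ) + 1 ≤ a₁ := by omega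
      by_cases hlt : f < p - 1
      · exfalso
        have h2f := hhalf hlt
        have h2f' : (2 * f : ℤ) ≤ p - 1 := by
          have : ((2 * f : ℕ) : ℤ) ≤ ((p - 1 : ℕ) : ℤ) := Int.ofNat_le.2 h2f
          omega
        nlinarith [mul_nonneg (Int.natCast_nonneg f) (Int.natCast_nonneg aμ)]
      · have hfp : f = p - 1 := by omega
        have hfpz : (f : ℤ) = p - 1 := by omega
        have haμ : aμ = 0 := by
          by_contra hne
          have : (1 : ℤ) ≤ aμ := by omega
          rw [hfpz] at hdeg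
          nlinarith
        intro l hl
        have hset : (Finset.univ.filter fun l => InN P μ l) = Finset.univ.erase (trivChar P) := by
          refine Finset.eq_of_subset_of_card_le (fun l hl => ?_) ?_
          · obtain ⟨g, hg, e⟩ := (Finset.mem_filter.1 hl).2
            refine Finset.mem_erase.2 ⟨?_, Finset.mem_univ _⟩
            rintro rfl
            refine hμ (irr_ext fun z => ?_)
            have := congrFun e ⟨g⁻¹ * z * g, (Subgroup.mem_normalizer_iff''.1 hg z).1 z.2⟩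
            rw [h.cjFunP_apply _ hg, trivChar_apply] at this
            rw [trivChar_apply, ← this]
            exact congrArg _ (Subtype.ext (by simp [mul_assoc]))
          · rw [h.card_inN μ hμ, ← hfdef, hcardNT, hfp]
        have hl' : l ∈ Finset.univ.filter fun l => InN P μ l := by
          rw [hset]; exact Finset.mem_erase.2 ⟨hl, Finset.mem_univ _⟩
        obtain ⟨g, hg, e⟩ := (Finset.mem_filter.1 hl').2
        obtain rfl : l = ⟨_, h.isIrr_cjFunP μ hg⟩ := Subtype.ext e.symm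
        rw [h.aMult_conj χ μ hg]
        exact haμ
  rcases hε1 with hε1 | hkill
  swap
  · exact hnorm (trivChar P) hkill
  subst hε1
  have ha1μ : (a₁ : ℤ) + 1 ≤ aμ := by omega
  have hzero : a₁ = 0 := by
    by_contra hne
    have h1 : (1 : ℤ) ≤ a₁ := by omega
    nlinarith [mul_nonneg (Int.natCast_nonneg f) (by omega : (0 : ℤ) ≤ (aμ : ℤ) - a₁)]
  have hnf : n = f * aμ := by
    have : (n : ℤ) = (f * aμ : ℕ) := by
      rw [hzero] at hdeg
      push_cast at hdeg ⊢
      linarith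
    exact_mod_cast this
  have hsupp : ∀ l, ¬ InN P μ l → h.aMult χ l = 0 := fun l hl => by
    by_cases hl1 : l = trivChar P
    · rw [hl1]; exact hzero
    · rw [ho l hl1 hl]; exact hzero
  have hfn : f ≤ n := hnf ▸ Nat.le_mul_of_pos_right f (by omega)
  by_cases hf1 : f ≤ 1
  · refine hnorm μ fun l hl => hsupp l fun hin => hl ?_
    have hμin : InN P μ μ := ⟨1, one_mem _, funext fun y => by simp [cjFun, extendByZero_coe]⟩
    exact Finset.card_le_one.1 (by rw [h.card_inN μ hμ, ← hfdef]; exact hf1) l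
      (Finset.mem_filter.2 ⟨Finset.mem_univ _, hin⟩) μ (Finset.mem_filter.2 ⟨Finset.mem_univ _, hμin⟩)
  exfalso
  push Not at hf1
  have h3f : 3 * f ≤ p - 1 := by
    obtain ⟨c, hc⟩ := hfdvd
    rw [hc]
    have : 3 ≤ c := by
      by_contra hlt
      push Not at hlt
      have : f * c ≤ 2 * f := by nlinarith
      omega
    nlinarith
  -- an exceptional character in another normalizer orbit
  obtain ⟨ν, hν, hνμ⟩ : ∃ ν, ν ≠ trivChar P ∧ ¬ InN P μ ν := by
    by_contra hcon
    push Not at hcon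
    have h4 : Finset.univ.erase (trivChar P) ⊆ Finset.univ.filter fun l => InN P μ l := fun l hl =>
      Finset.mem_filter.2 ⟨Finset.mem_univ _, hcon l (Finset.ne_of_mem_erase hl)⟩
    have := Finset.card_le_card h4
    rw [hcardNT, h.card_inN μ hμ, ← hfdef] at this
    omega
  obtain ⟨hoν, hiν, hdegν⟩ := hdata ν hν
  rw [hdegY ν hν] at hdegν
  set ψ := θ ν
  have hzeroν : h.aMult ψ (trivChar P) = 0 := by
    by_contra hne
    have h1 : (1 : ℤ) ≤ h.aMult ψ (trivChar P) := by omega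
    nlinarith [mul_nonneg (Int.natCast_nonneg f)
      (by omega : (0 : ℤ) ≤ (h.aMult ψ ν : ℤ) - h.aMult ψ (trivChar P))]
  have hdisj : ∀ l, h.aMult χ l * h.aMult ψ l = 0 := by
    intro l
    by_cases h1 : InN P μ l
    · have h2 : ¬ InN P ν l := by
        rintro ⟨g', hg', e'⟩
        obtain ⟨g, hg, e⟩ := h1
        refine hνμ ⟨g * g'⁻¹, mul_mem hg (inv_mem hg'), ?_⟩
        rw [← h.cjFunP_mul _ hg (inv_mem hg'), e, ← e', h.cjFunP_mul _ hg' (inv_mem hg'),
          mul_inv_cancel]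
        funext y; simp [cjFun, extendByZero_coe]
      by_cases hl1 : l = trivChar P
      · rw [hl1, hzeroν, mul_zero]
      · rw [hoν l hl1 h2, hzeroν, mul_zero]
    · rw [hsupp l h1, zero_mul]
  -- the two products
  set Φ : G → ℂ := (χ : G → ℂ) * fun g => conj ((ψ : G → ℂ) g) with hΦ
  set Φ₀ : G → ℂ := (χ : G → ℂ) * fun g => conj ((χ : G → ℂ) g) with hΦ₀
  obtain ⟨k, hk⟩ := IsChar.exists_sum (IsChar.mul (IsIrr.isCharacter χ.2) (IsChar.conj (IsIrr.isCharacter ψ.2)))
  obtain ⟨k₀, hk₀⟩ := IsChar.exists_sum (IsChar.mul (IsIrr.isCharacter χ.2) (IsChar.conj (IsIrr.isCharacter χ.2)))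
  have hkv : ∀ g, Φ g = ∑ ξ : IrrCharacter G, (k ξ : ℂ) * (ξ : G → ℂ) g := fun g => by
    rw [hΦ, hk, Finset.sum_apply]; simp
  have hk₀v : ∀ g, Φ₀ g = ∑ ξ : IrrCharacter G, (k₀ ξ : ℂ) * (ξ : G → ℂ) g := fun g => by
    rw [hΦ₀, hk₀, Finset.sum_apply]; simp
  have hcoefk : ∀ (m : IrrCharacter G → ℕ) (F : G → ℂ),
      (∀ g, F g = ∑ ξ : IrrCharacter G, (m ξ : ℂ) * (ξ : G → ℂ) g) →
      ∀ ξ : IrrCharacter G, classInner F (ξ : G → ℂ) = (m ξ : ℂ) := fun m F hF ξ => by
    rw [show F = ∑ ξ : IrrCharacter G, (m ξ : ℂ) • (ξ : G → ℂ) from funext fun g => by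
      rw [hF g, Finset.sum_apply]; simp]
    exact classInner_sum_irr (fun ξ => (m ξ : ℂ)) ξ
  -- `k` is supported on characters without trivial constituent on `P`
  have hksupp : ∀ ξ : IrrCharacter G, k ξ ≠ 0 → h.aMult ξ (trivChar P) = 0 := by
    have h1 : classInner (fun y : P => Φ y) ((trivChar P : IrrCharacter P) : P → ℂ) = 0 := by
      have e1 : (fun y : P => Φ y) = fun y : P => (χ : G → ℂ) y * conj ((ψ : G → ℂ) y) := rfl
      rw [e1]
      calc classInner (fun y : P => (χ : G → ℂ) y * conj ((ψ : G → ℂ) y))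
            ((trivChar P : IrrCharacter P) : P → ℂ)
          = classInner (fun y : P => (χ : G → ℂ) y)
              (∑ l : IrrCharacter P, (h.aMult ψ l : ℂ) • (l : P → ℂ)) := by
            simp only [classInner, trivChar_apply, map_one, mul_one]
            congr 1
            refine Finset.sum_congr rfl fun y _ => ?_
            rw [h.apply_eq_sum_aMult ψ y, Finset.sum_apply]
            simp
        _ = 0 := by
            rw [classInner_sum_right]
            refine Finset.sum_eq_zero fun l _ => ?_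
            rw [classInner_smul_right, h.aMult_spec, map_natCast, mul_comm, ← Nat.cast_mul, hdisj,
              Nat.cast_zero]
    have e2 : (fun y : P => Φ y) =
        ∑ ξ : IrrCharacter G, (k ξ : ℂ) • fun y : P => (ξ : G → ℂ) y := by
      funext y; rw [hkv, Finset.sum_apply]; simp
    rw [e2, classInner_sum_left] at h1
    simp only [classInner_smul_left, h.aMult_spec, ← Nat.cast_mul, ← Nat.cast_sum,
      Nat.cast_eq_zero, Finset.sum_eq_zero_iff] at h1
    exact fun ξ hξ => (mul_eq_zero.1 (h1 ξ (Finset.mem_univ _))).resolve_left hξ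
  -- regular values agree
  have hψreg : ∀ g, ¬ p ∣ orderOf g → (ψ : G → ℂ) g = (χ : G → ℂ) g := fun g hg => by
    have h1 := hrel ν hν g hg
    have h2 := hrel μ hμ g hg
    have e := add_right_cancel (h1.trans h2.symm)
    rw [Int.cast_one, one_mul, one_mul, hχμ] at e
    exact e
  have hDreg : ∀ g, ¬ p ∣ orderOf g →
      ∑ ξ : IrrCharacter G, (((k₀ ξ : ℤ) - k ξ : ℤ) : ℂ) * (ξ : G → ℂ) g = 0 := by
    intro g hg
    simp only [Int.cast_sub, Int.cast_natCast, sub_mul, Finset.sum_sub_distrib, ← hkv, ← hk₀v]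
    simp [hΦ, hΦ₀, hψreg g hg]
  -- the principal block
  set B₀ := principalBlock M G
  have hB₀ : IsPBlock M B₀ := isPBlock_principalBlock
  have htriv : trivChar G ∈ B₀ := trivChar_mem_principalBlock
  have htB := h.trivChar_mem_blockSet hM
  obtain ⟨-, Y₀, ε₀, w₀, θ₀, hε₀, hY₀B, hθY₀, hYθ₀, -, hXcard, -, hX₀, hY₀, hrank, hrel₀⟩ :=
    h.exists_structure hM (trivChar V) hB₀ htriv htB
  have hB₀eq := blockSet_eq hB₀ htriv htB
  rw [h.inertialIndex_trivChar, ← hfdef] at hXcard hrank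
  have hd1 : charDegree ((trivChar V : IrrCharacter V) : V → ℂ) = 1 := by
    have h2 := apply_one_eq_charDegree (trivChar V : IrrCharacter V)
    rw [trivChar_apply] at h2
    exact_mod_cast h2.symm
  have horb : orbitV P (trivChar V : IrrCharacter V) = {trivChar V} := by
    ext ζ
    constructor
    · rintro ⟨g, hg, e'⟩
      exact Subtype.ext (e'.trans (h.cjFun_trivChar hg))
    · rintro rfl
      exact h.mem_orbit_self _
  have hsub : ∀ ξ ∈ B₀, ∀ l, (h.aMult ξ l : ℤ) - h.aMult ξ (trivChar P) =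
      h.coef (trivChar V) ξ l := by
    intro ξ hξ l
    rw [h.aMult_sub, Finset.sum_eq_single (trivChar V)]
    · rw [hd1, Nat.cast_one, one_mul]
    · intro η' _ hne
      rw [h.coef_eq_zero_of_not_orbit hM (hB₀eq ▸ hξ : ξ ∈ blockSet M P _)
        (fun hm => hne (by rw [horb] at hm; exact hm)), mul_zero]
    · exact fun hi => absurd (Finset.mem_univ _) hi
  have hdeg₀ : ∀ ξ ∈ B₀, (charDegree (ξ : G → ℂ) : ℤ) =
      p * h.aMult ξ (trivChar P) + ∑ l : IrrCharacter P, h.coef (trivChar V) ξ l := by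
    intro ξ hξ
    rw [← h.sum_aMult ξ, Nat.cast_sum, Finset.sum_congr rfl fun l _ => (sub_eq_iff_eq_add'.1 (hsub ξ hξ l)),
      Finset.sum_add_distrib, Finset.sum_const, Finset.card_univ, ← Nat.card_eq_fintype_card,
      h.card_lchar, nsmul_eq_mul]
  have hta : ∀ l, h.aMult (trivChar G) l = if l = trivChar P then 1 else 0 := by
    intro l
    apply Nat.cast_injective (R := ℂ)
    rw [← h.aMult_spec]
    have e1 : (fun y : P => ((trivChar G : IrrCharacter G) : G → ℂ) y) =
        ((trivChar P : IrrCharacter P) : P → ℂ) := funext fun y => by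
      rw [trivChar_apply, trivChar_apply]
    rw [e1, classInner_irr]
    by_cases hl : l = trivChar P
    · simp [hl]
    · rw [if_neg (Ne.symm hl), if_neg hl, Nat.cast_zero]
  have htX : trivChar G ∈ B₀ \ Y₀ := by
    refine ⟨htriv, fun hY' => ?_⟩
    obtain ⟨μ₀, hμ₀, he₀⟩ := hYθ₀ _ hY'
    obtain ⟨ho', -⟩ := h.aMult_sub_of_rel hM htB hε₀ hμ₀ (he₀ ▸ fun l hl => (hY₀ l μ₀ hl hμ₀).2.1)
      (he₀ ▸ fun l hl => (hY₀ l μ₀ hl hμ₀).2.2)
    obtain ⟨l, hl, hlμ⟩ : ∃ l, l ≠ trivChar P ∧ ¬ InN P μ₀ l := by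
      by_contra hcon
      push Not at hcon
      have h4 : Finset.univ.erase (trivChar P) ⊆ Finset.univ.filter fun l => InN P μ₀ l := fun l hl =>
        Finset.mem_filter.2 ⟨Finset.mem_univ _, hcon l (Finset.ne_of_mem_erase hl)⟩
      have := Finset.card_le_card h4
      rw [hcardNT, h.card_inN μ₀ hμ₀, ← hfdef] at this
      omega
    have h5 := ho' l hl hlμ
    rw [hta, hta, if_neg hl, if_pos rfl] at h5
    exact zero_ne_one h5
  have hwt : w₀ (trivChar G) = -1 := by
    obtain ⟨μ', hμ'⟩ : ∃ μ' : IrrCharacter P, μ' ≠ trivChar P := ⟨μ, hμ⟩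
    have e1 := hsub _ htriv μ'
    rw [(hX₀ _ htX).2 μ' hμ', hta, hta, if_neg hμ', if_pos rfl] at e1
    simpa using e1.symm
  -- the difference vector on the principal block
  set D : IrrCharacter G → ℂ := fun ξ => (((k₀ ξ : ℤ) - k ξ : ℤ) : ℂ)
  set XF := (Set.toFinite (B₀ \ Y₀)).toFinset
  set YF := (Set.toFinite Y₀).toFinset
  set y : ℤ := ∑ ξ ∈ YF, ((k₀ ξ : ℤ) - k ξ)
  have hrelX : ∀ ξ ∈ Y₀, ∀ g, ¬ p ∣ orderOf g →
      (ξ : G → ℂ) g = -(ε₀ : ℂ) * ∑ χ' ∈ XF, (w₀ χ' : ℂ) * (χ' : G → ℂ) g := by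
    intro ξ hξ g hg
    obtain ⟨μ₀, hμ₀, rfl⟩ := hYθ₀ ξ hξ
    have h1 := eq_neg_of_add_eq_zero_left (hrel₀ μ₀ hμ₀ g hg)
    rw [finsum_mem_eq_finite_toFinset_sum _ (Set.toFinite _)] at h1
    have h2 : (ε₀ : ℂ) * ε₀ = 1 := by rcases hε₀ with rfl | rfl <;> simp
    calc (θ₀ μ₀ : G → ℂ) g = (ε₀ : ℂ) * ((ε₀ : ℂ) * (θ₀ μ₀ : G → ℂ) g) := by
          rw [← mul_assoc, h2, one_mul]
      _ = _ := by rw [h1]; ring
  have hindep : LinearIndependent ℂ
      (fun χ' : {χ' // χ' ∈ XF} => pRegularPart p ((χ' : IrrCharacter G) : G → ℂ)) := by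
    rw [linearIndependent_iff_card_eq_finrank_span]
    rw [Set.finrank, Fintype.card_coe]
    have hXc : XF.card = f := by
      rw [← hXcard, Nat.card_coe_set_eq, Set.ncard_eq_toFinset_card _ (Set.toFinite _)]
    rw [hXc, ← hrank, blockRank]
    refine congrArg (fun S : Submodule ℂ (G → ℂ) => Module.finrank ℂ S) (le_antisymm ?_ ?_)
    · refine Submodule.span_le.2 ?_
      rintro _ ⟨ξ, hξ, rfl⟩
      by_cases hξY : ξ ∈ Y₀
      · have e : pRegularPart p (ξ : G → ℂ) = ∑ χ' : {χ' // χ' ∈ XF},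
            (-(ε₀ : ℂ) * w₀ χ') • pRegularPart p ((χ' : IrrCharacter G) : G → ℂ) := by
          funext g
          simp only [Finset.sum_apply, Pi.smul_apply, smul_eq_mul, pRegularPart]
          by_cases hg : IsPRegular p g
          · simp only [if_pos hg]
            rw [hrelX ξ hξY g hg, Finset.mul_sum,
              ← Finset.sum_coe_sort XF fun χ' => -(ε₀ : ℂ) * ((w₀ χ' : ℂ) * (χ' : G → ℂ) g)]
            exact Finset.sum_congr rfl fun _ _ => by ring
          · simp [hg]
        show pRegularPart p (ξ : G → ℂ) ∈ _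
        rw [e]
        exact Submodule.sum_mem _ fun χ' _ =>
          Submodule.smul_mem _ _ (Submodule.subset_span ⟨χ', rfl⟩)
      · exact Submodule.subset_span ⟨⟨ξ, (Set.Finite.mem_toFinset _).2 ⟨hξ, hξY⟩⟩, rfl⟩
    · refine Submodule.span_mono ?_
      rintro _ ⟨⟨ξ, hξ⟩, rfl⟩
      exact ⟨ξ, ((Set.Finite.mem_toFinset _).1 hξ).1, rfl⟩
  have hDX : ∀ ξ ∈ XF, (k₀ ξ : ℤ) - k ξ = ε₀ * y * w₀ ξ := by
    have h0 : ∀ g, ¬ p ∣ orderOf g →
        ∑ ξ ∈ XF, (D ξ - (ε₀ : ℂ) * y * w₀ ξ) * (ξ : G → ℂ) g = 0 := by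
      intro g hg
      have h1 := sum_block_regular hM hB₀ D hDreg hg
      have hsplit : (Set.toFinite B₀).toFinset = XF ∪ YF := by
        ext ξ
        simp only [XF, YF, Finset.mem_union, Set.Finite.mem_toFinset, Set.mem_diff]
        exact ⟨fun hξ => (em (ξ ∈ Y₀)).elim Or.inr fun hn => Or.inl ⟨hξ, hn⟩,
          fun hξ => hξ.elim (fun h' => h'.1) fun h' => hY₀B h'⟩
      rw [hsplit, Finset.sum_union (Finset.disjoint_left.2 fun ξ h1 h2 =>
        ((Set.Finite.mem_toFinset _).1 h1).2 ((Set.Finite.mem_toFinset _).1 h2))] at h1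
      rw [Finset.sum_congr rfl fun ξ _ => sub_mul _ _ _, Finset.sum_sub_distrib]
      have h2 : ∑ ξ ∈ YF, D ξ * (ξ : G → ℂ) g =
          -((ε₀ : ℂ) * y * ∑ χ' ∈ XF, (w₀ χ' : ℂ) * (χ' : G → ℂ) g) := by
        rw [Finset.sum_congr rfl fun ξ hξ => by rw [hrelX ξ ((Set.Finite.mem_toFinset _).1 hξ) g hg],
          ← Finset.sum_mul]
        simp only [y, D, Int.cast_sum]
        ring
      rw [h2, Finset.mul_sum, ← sub_eq_add_neg] at h1
      rw [← h1]
      congr 1
      exact Finset.sum_congr rfl fun _ _ => by ring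
    intro ξ hξ
    have h3 := Fintype.linearIndependent_iff.1 hindep
      (fun χ' => D χ' - (ε₀ : ℂ) * y * w₀ χ') (by
        funext g
        simp only [Finset.sum_apply, Pi.smul_apply, smul_eq_mul, pRegularPart, Pi.zero_apply]
        by_cases hg : IsPRegular p g
        · simp only [if_pos hg]
          rw [Finset.sum_coe_sort XF fun χ' => (D χ' - (ε₀ : ℂ) * y * w₀ χ') * (χ' : G → ℂ) g]
          exact h0 g hg
        · simp [hg]) ⟨ξ, hξ⟩
    have h4 : D ξ = ((ε₀ * y * w₀ ξ : ℤ) : ℂ) := by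
      push_cast
      exact sub_eq_zero.1 h3
    exact Int.cast_injective h4
  have hk₀t : k₀ (trivChar G) = 1 := by
    apply Nat.cast_injective (R := ℂ)
    rw [← hcoefk k₀ Φ₀ hk₀v, Nat.cast_one, ← classInner_irr_self χ]
    simp [classInner, hΦ₀, trivChar_apply]
  have hkt : k (trivChar G) = 0 := by
    apply Nat.cast_injective (R := ℂ)
    have hne : χ ≠ ψ := by
      intro e
      have h6 := hdisj μ
      rw [← e] at h6
      rcases mul_eq_zero.1 h6 with h7 | h7 <;> omega
    rw [← hcoefk k Φ hkv, Nat.cast_zero, ← classInner_irr_of_ne hne]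
    simp [classInner, hΦ, trivChar_apply]
  have hy : ε₀ * y = -1 := by
    have e1 := hDX _ ((Set.Finite.mem_toFinset _).2 htX)
    rw [hk₀t, hkt, hwt] at e1
    simpa using congrArg (fun z : ℤ => -z) e1.symm
  -- positive members of the nonexceptional part
  set Xp := XF.filter fun ξ => w₀ ξ = 1
  set Xm := XF.filter fun ξ => ¬ w₀ ξ = 1
  have hXm : ∀ ξ ∈ Xm, w₀ ξ = -1 := fun ξ hξ => by
    obtain ⟨h1, h2⟩ := Finset.mem_filter.1 hξ
    exact (hX₀ ξ ((Set.Finite.mem_toFinset _).1 h1)).1.resolve_left h2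
  have hsumc : ∀ ξ ∈ B₀ \ Y₀,
      ∑ l : IrrCharacter P, h.coef (trivChar V) ξ l = ((p : ℤ) - 1) * w₀ ξ := by
    intro ξ hξ
    rw [← Finset.add_sum_erase _ _ (Finset.mem_univ (trivChar P)), h.coef_trivChar, zero_add,
      Finset.sum_congr rfl fun l hl => (hX₀ ξ hξ).2 l (Finset.ne_of_mem_erase hl), Finset.sum_const,
      hcardNT, nsmul_eq_mul, Nat.cast_sub (by omega : 1 ≤ p), Nat.cast_one]
  have hpos : ∀ ξ ∈ Xp, 1 ≤ k ξ ∧ (charDegree (ξ : G → ℂ) : ℤ) = p - 1 ∧
      (p - 1 : ℕ) ≤ ∑ l : IrrCharacter P, h.mu (trivChar V) ξ l := by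
    intro ξ hξ
    obtain ⟨h1, h2⟩ := Finset.mem_filter.1 hξ
    have h3 := hDX ξ h1
    rw [h2, mul_one, hy] at h3
    have h4 : 1 ≤ k ξ := by omega
    have hξ' := (Set.Finite.mem_toFinset _).1 h1
    refine ⟨h4, ?_, ?_⟩
    · rw [hdeg₀ ξ hξ'.1, hksupp ξ (by omega), hsumc ξ hξ', h2]
      simp
    · rw [← hcardNT, Finset.card_eq_sum_ones]
      refine (Finset.sum_le_sum fun l hl => ?_).trans
        (Finset.sum_le_sum_of_subset (Finset.subset_univ _))
      have h5 := h.coef_eq_mu_sub (trivChar V) ξ l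
      rw [(hX₀ ξ hξ').2 l (Finset.ne_of_mem_erase hl), h2] at h5
      omega
  have hneg : ∀ ξ ∈ Xm, (charDegree (ξ : G → ℂ) : ℤ) ≥ if ξ = trivChar G then 1 else (p : ℤ) + 1 := by
    intro ξ hξ
    have hξ' := (Set.Finite.mem_toFinset _).1 (Finset.mem_filter.1 hξ).1
    have hd := hdeg₀ ξ hξ'.1
    rw [hsumc ξ hξ', hXm ξ hξ] at hd
    have hp0 : 0 < charDegree (ξ : G → ℂ) := Blocks.charDegree_pos ξ
    split_ifs with ht
    · omega
    · have h1 : (2 : ℤ) ≤ h.aMult ξ (trivChar P) := by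
        by_contra hlt
        push Not at hlt
        have hzero : ∀ l, l ≠ trivChar P → h.aMult ξ l = 0 := fun l hl => by
          have h6 := hsub ξ hξ'.1 l
          rw [(hX₀ ξ hξ').2 l hl, hXm ξ hξ] at h6
          omega
        refine ht (irr_ext fun g => ?_)
        have hker : P ≤ CharDegree.kerSubgroup ξ := fun z hz => by
          rw [CharDegree.mem_kerSubgroup]
          have e := h.apply_eq_sum_aMult ξ ⟨z, hz⟩
          have e' := h.apply_eq_sum_aMult ξ 1
          rw [Finset.sum_eq_single (trivChar P) (fun l _ hl => by rw [hzero l hl, Nat.cast_zero, zero_mul])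
            (fun hi => absurd (Finset.mem_univ _) hi), trivChar_apply] at e e'
          exact e.trans e'.symm
        have htop := hgen _ (CharDegree.kerSubgroup_normal ξ) hker
        have hconst : ∀ g, (ξ : G → ℂ) g = (ξ : G → ℂ) 1 := fun g =>
          CharDegree.mem_kerSubgroup.1 (htop ▸ Subgroup.mem_top g)
        by_contra hne
        have h7 := classInner_irr_of_ne (χ := ξ) (ψ := trivChar G) fun e => hne (by rw [e])
        simp [classInner, trivChar_apply, hconst] at h7
        exact IsIrr.apply_one_ne_zero ξ.2 h7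
      nlinarith
  -- the degree relation
  obtain ⟨ξ₀, hξ₀, hξ₀k⟩ : ∃ ξ₀ ∈ YF, (ε₀ = 1 → k ξ₀ ≠ 0) := by
    rcases hε₀ with he | he
    · by_contra hcon
      push Not at hcon
      rw [he, one_mul] at hy
      have : (0 : ℤ) ≤ y := Finset.sum_nonneg fun ξ hξ => by
        rw [(hcon ξ hξ).2]; simp
      omega
    · exact ⟨θ₀ μ, (Set.Finite.mem_toFinset _).2 (hθY₀ μ hμ), fun e => by omega⟩
  obtain ⟨μ₀, hμ₀, rfl⟩ := hYθ₀ ξ₀ ((Set.Finite.mem_toFinset _).1 hξ₀)
  have hdθ := hdeg₀ _ (hY₀B (hθY₀ μ₀ hμ₀))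
  rw [h.sum_coef_rel _ _ hμ₀ (fun l hl => (hY₀ l μ₀ hl hμ₀).2.1) (fun l hl => (hY₀ l μ₀ hl hμ₀).2.2),
    h.inertialIndex_trivChar, ← hfdef] at hdθ
  have hrel1 := hrel₀ μ₀ hμ₀ 1 (by simpa using h.prime.ne_one)
  rw [finsum_mem_eq_finite_toFinset_sum _ (Set.toFinite _),
    ← Finset.sum_filter_add_sum_filter_not XF (fun ξ => w₀ ξ = 1)] at hrel1
  have hrelZ : ε₀ * (charDegree (θ₀ μ₀ : G → ℂ) : ℤ) + ((p : ℤ) - 1) * Xp.card -
      ∑ ξ ∈ Xm, (charDegree (ξ : G → ℂ) : ℤ) = 0 := by
    apply Int.cast_injective (α := ℂ)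
    rw [Int.cast_zero, ← hrel1, apply_one_eq_charDegree]
    have e1 : ∑ ξ ∈ Xp, (w₀ ξ : ℂ) * (ξ : G → ℂ) 1 = ((p : ℂ) - 1) * Xp.card := by
      rw [Finset.sum_congr rfl (g := fun _ => (p : ℂ) - 1) fun ξ hξ => ?_, Finset.sum_const,
        nsmul_eq_mul, mul_comm]
      rw [(Finset.mem_filter.1 hξ).2, apply_one_eq_charDegree, Int.cast_one, one_mul]
      have := congrArg (Int.cast : ℤ → ℂ) (hpos ξ hξ).2.1
      push_cast at this
      exact this
    have e2 : ∑ ξ ∈ Xm, (w₀ ξ : ℂ) * (ξ : G → ℂ) 1 = -∑ ξ ∈ Xm, (charDegree (ξ : G → ℂ) : ℂ) := by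
      rw [← Finset.sum_neg_distrib]
      exact Finset.sum_congr rfl fun ξ hξ => by rw [hXm ξ hξ, apply_one_eq_charDegree]; simp
    push_cast
    show _ = _ + (∑ ξ ∈ Xp, _ + ∑ ξ ∈ Xm, _)
    rw [e1, e2]
    ring
  have htm : trivChar G ∈ Xm := Finset.mem_filter.2
    ⟨(Set.Finite.mem_toFinset _).2 htX, by rw [hwt]; decide⟩
  have hXmsum : (1 : ℤ) + ((p : ℤ) + 1) * ((Xm.card : ℤ) - 1) ≤
      ∑ ξ ∈ Xm, (charDegree (ξ : G → ℂ) : ℤ) := by
    refine le_trans ?_ (Finset.sum_le_sum fun ξ hξ => hneg ξ hξ)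
    rw [← Finset.add_sum_erase _ _ htm, if_pos rfl,
      Finset.sum_congr rfl fun ξ hξ => if_neg (Finset.ne_of_mem_erase hξ), Finset.sum_const,
      Finset.card_erase_of_mem htm, nsmul_eq_mul, Nat.cast_sub (Finset.card_pos.2 ⟨_, htm⟩),
      Nat.cast_one]
    linarith
  have hXcount : (Xp.card : ℤ) + Xm.card = f := by
    have h1 : Xp.card + Xm.card = XF.card :=
      Finset.card_filter_add_card_filter_not (fun ξ => w₀ ξ = 1)
    rw [show XF.card = f by
      rw [← hXcard, Nat.card_coe_set_eq, Set.ncard_eq_toFinset_card _ (Set.toFinite _)]] at h1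
    exact_mod_cast h1
  have hp0 : (2 : ℤ) ≤ p := by exact_mod_cast hp2
  have hW : (f : ℤ) - 1 ≤ 2 * Xp.card := by
    rcases hε₀ with he | he
    · rw [hksupp _ (hξ₀k he)] at hdθ
      rw [he, hdθ] at hrelZ
      push_cast at hrelZ
      nlinarith
    · rw [he, hdθ] at hrelZ
      have hm := Int.natCast_nonneg (h.aMult (θ₀ μ₀) (trivChar P))
      nlinarith [mul_nonneg (by linarith : (0 : ℤ) ≤ p) hm]
  -- the bound on `V`
  have hμ1 : ∀ η' : IrrCharacter V, h.mu η' χ (trivChar P) = 0 := fun η' => by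
    have h1 : charDegree (η' : V → ℂ) * h.mu η' χ (trivChar P) ≤ a₁ :=
      Finset.single_le_sum (f := fun η' : IrrCharacter V => charDegree (η' : V → ℂ) * h.mu η' χ (trivChar P))
        (fun _ _ => Nat.zero_le _) (Finset.mem_univ η')
    rw [hzero, Nat.le_zero] at h1
    exact (mul_eq_zero.1 h1).resolve_left (Blocks.charDegree_pos η').ne'
  have hD1 : ∀ η' : IrrCharacter V, dval (χ : G → ℂ) 1 (η' : V → ℂ) =
      if η' ∈ orbitV P η then (h.inertialIndex (η : V → ℂ) : ℂ) else 0 := by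
    intro η'
    have e1 : ((∑ l : IrrCharacter P, h.mu η' χ l : ℕ) : ℤ) =
        if η' ∈ orbitV P η then (h.inertialIndex (η : V → ℂ) : ℤ) else 0 := by
      rw [Nat.cast_sum, Finset.sum_congr rfl fun l _ => show (h.mu η' χ l : ℤ) = h.coef η' χ l by
        rw [h.coef_eq_mu_sub, hμ1]; simp]
      split_ifs with hη'
      · obtain ⟨g, hg, e⟩ := hη'
        obtain rfl : η' = ⟨_, h.isIrr_cjFun η.2 hg⟩ := Subtype.ext e
        rw [Finset.sum_congr rfl fun l _ => h.coef_conj η χ l hg]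
        have hinj : Function.Injective fun l : IrrCharacter P =>
            (⟨_, h.isIrr_cjFunP l (inv_mem hg)⟩ : IrrCharacter P) := by
          intro a b e'
          have e'' := congrArg (fun f : IrrCharacter P => cjFun (f : P → ℂ) g) e'
          rw [h.cjFunP_mul _ (inv_mem hg) hg, h.cjFunP_mul _ (inv_mem hg) hg, inv_mul_cancel] at e''
          exact irr_ext fun y => by simpa [cjFun, extendByZero_coe] using congrFun e'' y
        rw [Fintype.sum_bijective _ (Finite.injective_iff_bijective.1 hinj)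
          (fun l => h.coef η χ ⟨_, h.isIrr_cjFunP l (inv_mem hg)⟩) (fun l => h.coef η χ l)
          fun l => rfl]
        have e3 := h.sum_coef_rel η χ hμ (hχμ ▸ fun l hl => (hY l μ hl hμ).2.1)
          (hχμ ▸ fun l hl => (hY l μ hl hμ).2.2)
        rw [e3, one_mul]
      · exact Finset.sum_eq_zero fun l _ => h.coef_eq_zero_of_not_orbit hM hη hη' l
    have e2 := congrArg (Int.cast : ℤ → ℂ) e1
    rw [Int.cast_natCast] at e2
    rw [h.dval_one, e2]
    split_ifs <;> simp
  set o := Nat.card (orbitV P η)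
  set e := h.inertialIndex (η : V → ℂ)
  have hΦV : classInner (fun v : V => Φ v) ((trivChar V : IrrCharacter V) : V → ℂ) =
      ((o * (e * e) : ℕ) : ℂ) := by
    have e1 : (fun v : V => Φ v) = fun v : V => (χ : G → ℂ) v * conj ((χ : G → ℂ) v) := funext fun v => by
      show (χ : G → ℂ) v * conj ((ψ : G → ℂ) v) = _
      rw [hψreg _ (h.not_dvd_orderOf v.2)]
    have e2 : (fun v : V => (χ : G → ℂ) v) =
        ∑ η' : IrrCharacter V, dval (χ : G → ℂ) 1 (η' : V → ℂ) • (η' : V → ℂ) := funext fun v => by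
      have := h.apply_eq_sum (IsIrr.isClassFunction χ.2) (one_mem P) v
      rw [one_mul] at this
      rw [this, Finset.sum_apply]
      simp
    rw [e1]
    calc classInner (fun v : V => (χ : G → ℂ) v * conj ((χ : G → ℂ) v))
          ((trivChar V : IrrCharacter V) : V → ℂ)
        = classInner (fun v : V => (χ : G → ℂ) v) (fun v : V => (χ : G → ℂ) v) := by
          simp [classInner, trivChar_apply]
      _ = ∑ η' : IrrCharacter V, dval (χ : G → ℂ) 1 (η' : V → ℂ) *
            conj (dval (χ : G → ℂ) 1 (η' : V → ℂ)) := by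
          rw [e2]; exact IsChar.classInner_self _
      _ = _ := by
          simp only [hD1, apply_ite (starRingEnd ℂ), map_natCast, map_zero, ite_mul, zero_mul,
            mul_ite, mul_zero]
          rw [Finset.sum_congr rfl fun η' _ => show (if η' ∈ orbitV P η then
              (if η' ∈ orbitV P η then (e : ℂ) * e else 0) else 0) =
              if η' ∈ orbitV P η then (e : ℂ) * e else 0 by split_ifs <;> rfl,
            ← Finset.sum_filter, Finset.sum_const, nsmul_eq_mul]
          simp only [o, Nat.card_eq_fintype_card, ← Set.toFinset_card]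
          push_cast
          congr 2
          exact congrArg Finset.card (by ext; simp)
  have hΦV' : classInner (fun v : V => Φ v) ((trivChar V : IrrCharacter V) : V → ℂ) =
      ((∑ ξ : IrrCharacter G, k ξ * ∑ l : IrrCharacter P, h.mu (trivChar V) ξ l : ℕ) : ℂ) := by
    have e2 : (fun v : V => Φ v) =
        ∑ ξ : IrrCharacter G, (k ξ : ℂ) • fun v : V => (ξ : G → ℂ) v := by
      funext v; rw [hkv, Finset.sum_apply]; simp
    rw [e2, classInner_sum_left, Nat.cast_sum]
    refine Finset.sum_congr rfl fun ξ _ => ?_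
    rw [classInner_smul_left, Nat.cast_mul, ← h.dval_one, dval]
    simp
  rw [hΦV'] at hΦV
  have hkey : Xp.card * (p - 1) ≤ o * (e * e) := by
    rw [← Nat.cast_injective hΦV]
    refine le_trans ?_ (Finset.sum_le_sum_of_subset (Finset.subset_univ Xp))
    rw [← smul_eq_mul, ← Finset.sum_const]
    exact Finset.sum_le_sum fun ξ hξ => by
      obtain ⟨h1, -, h3⟩ := hpos ξ hξ
      exact le_trans h3 (Nat.le_mul_of_pos_left _ h1)
  have hoe : o * e = f := h.card_orbit_mul η
  have he1 : 1 ≤ e := h.inertialIndex_pos η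
  have ho1 : 1 ≤ o := by
    rcases Nat.eq_zero_or_pos o with h0 | h0
    · rw [h0, zero_mul] at hoe; omega
    · exact h0
  have hef : e ≤ f := hoe ▸ Nat.le_mul_of_pos_left e ho1
  have hkey' : Xp.card * (p - 1) ≤ f * f := by
    calc Xp.card * (p - 1) ≤ o * (e * e) := hkey
      _ = f * e := by rw [← hoe]; ring
      _ ≤ f * f := Nat.mul_le_mul_left f hef
  have h3W : 3 * Xp.card ≤ f := by
    have h1 : Xp.card * (3 * f) ≤ f * f := le_trans (Nat.mul_le_mul_left _ h3f) hkey'
    have h2 : (3 * Xp.card) * f ≤ f * f := by linarith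
    exact Nat.le_of_mul_le_mul_right h2 (by omega)
  have hf3 : f = 3 := by omega
  have hW1 : Xp.card = 1 := by omega
  rw [hW1, hf3, one_mul] at hkey'
  have hp8 : 8 ≤ p := by omega
  have hp10 : p ≤ 10 := by omega
  have hpr := h.prime
  have hcases : p = 8 ∨ p = 9 ∨ p = 10 := by omega
  rcases hcases with e' | e' | e' <;> rw [e'] at hpr <;> norm_num at hpr

end Setup

end CfsgLib.Blocks.PrimeSylow
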