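import Cfsg.Agent.Lib.Blocks.PrimeSylow.Main

/-!
# Orbits, values and degrees in a block with Sylow defect group of order `p`
-/

set_option autoImplicit false

open scoped ComplexConjugate

namespace CfsgLib.Blocks.PrimeSylow

open Cfsg CfsgLib.Char

variable {G : Type*} [Group G] [Fintype G] {p : ℕ} [Fact p.Prime] {P V : Subgroup G}

/-- The conjugates of `η` under the normalizer. -/
def orbitV (P : Subgroup G) {V : Subgroup G} (η : IrrCharacter V) : Set (IrrCharacter V) :=
  {ζ | ∃ n ∈ Subgroup.normalizer (P : Set G), (ζ : V → ℂ) = cjFun (η : V → ℂ) n}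

namespace Setup

variable (h : Setup p P V)
include h

omit [Fintype G] [Fact p.Prime] in
theorem mem_orbit_self (η : IrrCharacter V) : η ∈ orbitV P η :=
  ⟨1, one_mem _, (h.cjFun_one _).symm⟩

omit [Fintype G] [Fact p.Prime] in
theorem orbit_eq_of_mem {η ζ : IrrCharacter V} (hζ : ζ ∈ orbitV P η) : orbitV P ζ = orbitV P η := by
  obtain ⟨n, hn, e⟩ := hζ
  ext ξ
  constructor
  · rintro ⟨m, hm, e'⟩
    exact ⟨n * m, mul_mem hn hm, by rw [← h.cjFun_mul _ hn hm, ← e, e']⟩
  · rintro ⟨m, hm, e'⟩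
    refine ⟨n⁻¹ * m, mul_mem (inv_mem hn) hm, ?_⟩
    rw [e, h.cjFun_mul _ hn (mul_mem (inv_mem hn) hm), mul_inv_cancel_left, e']

/-- An orbit has `f / e` members. -/
theorem card_orbit_mul (η : IrrCharacter V) :
    Nat.card (orbitV P η) * h.inertialIndex (η : V → ℂ) =
      (Subgroup.centralizer (P : Set G)).relIndex (Subgroup.normalizer (P : Set G)) := by
  set N := Subgroup.normalizer (P : Set G) with hN
  letI act : MulAction N (IrrCharacter V) :=
    { smul := fun n ζ => ⟨_, h.isIrr_cjFun ζ.2 (inv_mem n.2)⟩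
      one_smul := fun ζ => Subtype.ext (by
        show cjFun (ζ : V → ℂ) ((1 : N) : G)⁻¹ = _
        rw [Subgroup.coe_one, inv_one, h.cjFun_one])
      mul_smul := fun a b ζ => Subtype.ext (by
        show cjFun (ζ : V → ℂ) ((a * b : N) : G)⁻¹ = cjFun (cjFun (ζ : V → ℂ) (b : G)⁻¹) (a : G)⁻¹
        rw [h.cjFun_mul _ (inv_mem b.2) (inv_mem a.2), Subgroup.coe_mul, mul_inv_rev]) }
  have hsmul : ∀ (n : N) (ζ : IrrCharacter V),
      ((n • ζ : IrrCharacter V) : V → ℂ) = cjFun (ζ : V → ℂ) (n : G)⁻¹ := fun _ _ => rfl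
  have hst : MulAction.stabilizer N η = (h.inertiaT (η : V → ℂ)).subgroupOf N := by
    ext n
    rw [MulAction.mem_stabilizer_iff, Subgroup.mem_subgroupOf, Subtype.ext_iff, hsmul]
    constructor
    · intro e
      exact inv_mem_iff.1 (h.mem_inertiaT.2 ⟨inv_mem n.2, e⟩)
    · intro e
      exact (inv_mem e).2
  have horb : orbitV P η = MulAction.orbit N η := by
    ext ζ
    constructor
    · rintro ⟨m, hm, e⟩
      exact ⟨⟨m, hm⟩⁻¹, Subtype.ext (by
        show ((_ • η : IrrCharacter V) : V → ℂ) = _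
        rw [hsmul, e, Subgroup.coe_inv, inv_inv])⟩
    · rintro ⟨m, rfl⟩
      exact ⟨_, inv_mem m.2, hsmul m η⟩
  have hidx := MulAction.index_stabilizer N η
  rw [hst, ← Nat.card_coe_set_eq, ← horb] at hidx
  rw [← hidx, mul_comm, inertialIndex]
  exact Subgroup.relIndex_mul_relIndex _ _ _ (h.centralizer_le_inertiaT η) fun g hg => hg.1

theorem inertialIndex_eq_of_mem {η ζ : IrrCharacter V} (hζ : ζ ∈ orbitV P η) :
    h.inertialIndex (ζ : V → ℂ) = h.inertialIndex (η : V → ℂ) := by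
  have h1 := h.card_orbit_mul ζ
  rw [h.orbit_eq_of_mem hζ, ← h.card_orbit_mul η] at h1
  refine Nat.eq_of_mul_eq_mul_left ?_ h1
  exact Nat.pos_of_ne_zero fun h0 => by
    rcases Nat.card_eq_zero.1 h0 with h1 | h1
    · exact h1.false ⟨η, h.mem_orbit_self η⟩
    · exact h1.false

variable [Fintype P] [Fintype V] {M : Ideal AlgInt} [M.IsPrime]

theorem dval_eq_zero_of_not_orbit (hM : IsPModular p M) {η η' : IrrCharacter V} {χ : IrrCharacter G}
    (hχ : χ ∈ blockSet M P (η : V → ℂ)) (hη' : η' ∉ orbitV P η) {x : G} (hx : x ∈ P) (hx1 : x ≠ 1) :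
    dval (χ : G → ℂ) x (η' : V → ℂ) = 0 :=
  by_contradiction fun hne =>
    hη' (h.exists_conj_of_mem hM hχ (h.mem_blockSet_of_dval hM hx hx1 χ η' hne))

omit [M.IsPrime] in
theorem sum_apply_ne_one (l : IrrCharacter P) [DecidableEq P] :
    ∑ x ∈ Finset.univ.erase (1 : P), (l : P → ℂ) x =
      (if l = trivChar P then (p : ℂ) else 0) - 1 := by
  classical
  rw [Finset.sum_erase_eq_sub (Finset.mem_univ _), h.lchar_one]
  congr 1
  have hb := classInner_irr l (trivChar P)
  simp only [classInner, trivChar_apply, map_one, mul_one, h.card] at hb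
  rw [inv_mul_eq_iff_eq_mul₀ (Nat.cast_ne_zero.2 h.prime.ne_zero)] at hb
  rw [hb]
  split_ifs <;> simp

omit [M.IsPrime] in
theorem sum_dval_ne_one [Fintype (IrrCharacter P)] [DecidableEq P] (η : IrrCharacter V)
    (χ : IrrCharacter G) :
    ∑ x ∈ Finset.univ.erase (1 : P), dval (χ : G → ℂ) (x : G) (η : V → ℂ) =
      -((∑ l : IrrCharacter P, h.coef η χ l : ℤ) : ℂ) := by
  classical
  rw [Finset.sum_congr rfl fun x hx => h.dval_eq_sum η χ (Finset.ne_of_mem_erase hx),
    Finset.sum_comm, Int.cast_sum, ← Finset.sum_neg_distrib]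
  refine Finset.sum_congr rfl fun l _ => ?_
  rw [← Finset.mul_sum, h.sum_apply_ne_one]
  split_ifs with hl
  · rw [hl, h.coef_trivChar]; simp
  · simp

omit [M.IsPrime] in
theorem sum_restrict (χ : IrrCharacter G) : ∃ m : ℕ, ∑ x : P, (χ : G → ℂ) x = (p : ℂ) * m := by
  obtain ⟨m, hm⟩ := IsChar.classInner_eq_natCast
    (IsChar.restrict P (IsIrr.isCharacter χ.2)) (isCharacter_one (G := P))
  refine ⟨m, ?_⟩
  simp only [classInner, map_one, mul_one, h.card] at hm
  rw [← hm, ← mul_assoc, mul_inv_cancel₀ (Nat.cast_ne_zero.2 h.prime.ne_zero), one_mul]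

/-- The degree of a character in the block of `η`, modulo `p`. -/
theorem charDegree_modEq [Fintype (IrrCharacter P)] (hM : IsPModular p M) {η : IrrCharacter V}
    {χ : IrrCharacter G} (hχ : χ ∈ blockSet M P (η : V → ℂ)) :
    (charDegree (χ : G → ℂ) : ℤ) ≡
      (Nat.card (orbitV P η) * charDegree (η : V → ℂ) : ℕ) * ∑ l : IrrCharacter P, h.coef η χ l
      [ZMOD p] := by
  classical
  have := Fintype.ofFinite (IrrCharacter V)
  obtain ⟨m, hm⟩ := h.sum_restrict χ
  have hcf := IsIrr.isClassFunction χ.2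
  have hX : ∀ η' : IrrCharacter V, ∑ x ∈ Finset.univ.erase (1 : P),
      dval (χ : G → ℂ) (x : G) (η' : V → ℂ) * (η' : V → ℂ) 1 =
      if η' ∈ orbitV P η then
        -(((∑ l : IrrCharacter P, h.coef η χ l : ℤ) : ℂ)) * (η : V → ℂ) 1 else 0 := by
    intro η'
    rw [← Finset.sum_mul]
    split_ifs with hη'
    · obtain ⟨n, hn, e⟩ := hη'
      have h1 : (η' : V → ℂ) 1 = (η : V → ℂ) 1 := by
        rw [e, h.cjFun_apply _ hn]
        exact congrArg _ (Subtype.ext (by simp))
      rw [h1, ← h.sum_dval_ne_one η χ]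
      congr 1
      refine Finset.sum_equiv
        { toFun := fun x => ⟨n * x * n⁻¹, (Subgroup.mem_normalizer_iff.1 hn x).1 x.2⟩
          invFun := fun x => ⟨n⁻¹ * x * n, (Subgroup.mem_normalizer_iff''.1 hn x).1 x.2⟩
          left_inv := fun x => by ext; simp [mul_assoc]
          right_inv := fun x => by ext; simp [mul_assoc] } (fun x => ?_) fun x _ => ?_
      · simp only [Finset.mem_erase, Finset.mem_univ, and_true, ne_eq, Equiv.coe_fn_mk,
          Subtype.ext_iff, Subgroup.coe_one]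
        exact (not_congr conj_eq_one_iff).symm
      · show _ = dval (χ : G → ℂ) (n * x * n⁻¹) _
        rw [h.dval_conj hcf _ _ hn, e]
    · rw [Finset.sum_eq_zero fun x hx => h.dval_eq_zero_of_not_orbit hM hχ hη' x.2
        fun e => Finset.ne_of_mem_erase hx (Subtype.ext e), zero_mul]
  have hsum : ∑ x ∈ Finset.univ.erase (1 : P), (χ : G → ℂ) x =
      (Nat.card (orbitV P η) : ℂ) *
        (-(((∑ l : IrrCharacter P, h.coef η χ l : ℤ) : ℂ)) * (η : V → ℂ) 1) := by
    have e1 : ∀ x : P, (χ : G → ℂ) x = ∑ η' : IrrCharacter V,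
        dval (χ : G → ℂ) (x : G) (η' : V → ℂ) * (η' : V → ℂ) 1 := fun x => by
      rw [← h.apply_eq_sum hcf x.2 1, Subgroup.coe_one, mul_one]
    rw [Finset.sum_congr rfl fun x _ => e1 x, Finset.sum_comm,
      Finset.sum_congr rfl fun η' _ => hX η', ← Finset.sum_filter, Finset.sum_const, nsmul_eq_mul,
      Nat.card_eq_fintype_card, ← Set.toFinset_card]
    congr 2
    refine congrArg Finset.card ?_
    ext; simp
  rw [← Finset.add_sum_erase _ _ (Finset.mem_univ (1 : P)), hsum, Subgroup.coe_one,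
    apply_one_eq_charDegree χ, apply_one_eq_charDegree η] at hm
  have hz : (charDegree (χ : G → ℂ) : ℤ) =
      (Nat.card (orbitV P η) * charDegree (η : V → ℂ) : ℕ) * (∑ l : IrrCharacter P, h.coef η χ l) +
        (p : ℤ) * m := by
    apply Int.cast_injective (α := ℂ)
    push_cast at hm ⊢
    linear_combination hm
  rw [hz]
  simp [Int.ModEq]

omit [M.IsPrime] in
/-- Equal local multiplicities and regular values give equal functions. -/
theorem eq_of_dval_eq {χ ψ : G → ℂ} (hχ : IsClassFunction G χ) (hψ : IsClassFunction G ψ)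
    (hreg : ∀ g, ¬ p ∣ orderOf g → χ g = ψ g)
    (hd : ∀ x ∈ P, x ≠ 1 → ∀ η' : IrrCharacter V, dval χ x (η' : V → ℂ) = dval ψ x (η' : V → ℂ)) :
    χ = ψ := by
  have := Fintype.ofFinite (IrrCharacter V)
  funext g
  by_cases hg : p ∣ orderOf g
  · obtain ⟨x, hx, hx1, v, hv, hc⟩ := h.exists_singular hg
    rw [isClassFunction_iff_isConj.1 hχ g _ hc, isClassFunction_iff_isConj.1 hψ g _ hc,
      h.apply_eq_sum hχ hx ⟨v, hv⟩, h.apply_eq_sum hψ hx ⟨v, hv⟩]
    exact Finset.sum_congr rfl fun η' _ => by rw [hd x hx hx1 η']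
  · exact hreg g hg

omit [M.IsPrime] in
theorem dval_of_const (η : IrrCharacter V) (χ : IrrCharacter G) {w : ℤ}
    (hw : ∀ l, l ≠ trivChar P → h.coef η χ l = w) {x : G} (hx : x ∈ P) (hx1 : x ≠ 1) :
    dval (χ : G → ℂ) x (η : V → ℂ) = -(w : ℂ) := by
  classical
  have := Fintype.ofFinite (IrrCharacter P)
  have hx' : (⟨x, hx⟩ : P) ≠ 1 := fun e => hx1 (congrArg Subtype.val e)
  have h0 : ∑ l : IrrCharacter P, (l : P → ℂ) ⟨x, hx⟩ = 0 := by
    rw [← sum_degree_mul_apply_of_ne_one hx']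
    exact Finset.sum_congr rfl fun l _ => by rw [h.lchar_one l, one_mul]
  rw [h.dval_eq_sum η χ (x := ⟨x, hx⟩) hx',
    ← Finset.add_sum_erase _ _ (Finset.mem_univ (trivChar P)), h.coef_trivChar, Int.cast_zero,
    zero_mul, zero_add, Finset.sum_congr rfl fun l hl => by rw [hw l (Finset.ne_of_mem_erase hl)],
    ← Finset.mul_sum, Finset.sum_erase_eq_sub (Finset.mem_univ _), h0, trivChar_apply]
  ring

omit [M.IsPrime] in
theorem sum_coef_const [Fintype (IrrCharacter P)] (η : IrrCharacter V) (χ : IrrCharacter G) {w : ℤ}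
    (hw : ∀ l, l ≠ trivChar P → h.coef η χ l = w) :
    ∑ l : IrrCharacter P, h.coef η χ l ≡ -w [ZMOD p] := by
  classical
  rw [← Finset.add_sum_erase _ _ (Finset.mem_univ (trivChar P)), h.coef_trivChar, zero_add,
    Finset.sum_congr rfl fun l hl => hw l (Finset.ne_of_mem_erase hl), Finset.sum_const,
    Finset.card_erase_of_mem (Finset.mem_univ _), Finset.card_univ, ← Nat.card_eq_fintype_card,
    h.card_lchar, nsmul_eq_mul, Nat.cast_sub h.prime.one_le]
  refine (Int.modEq_iff_dvd.2 ⟨-w, ?_⟩)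
  push_cast
  ring

open scoped Classical in
omit [M.IsPrime] in
theorem dval_of_rel [Fintype (IrrCharacter P)] (η : IrrCharacter V) (χ : IrrCharacter G)
    {μ : IrrCharacter P} {ε : ℤ} (hμ : μ ≠ trivChar P)
    (h1 : ∀ l, l ≠ trivChar P → h.Rel (η : V → ℂ) l μ → h.coef η χ l = ε)
    (h0 : ∀ l, l ≠ trivChar P → ¬ h.Rel (η : V → ℂ) l μ → h.coef η χ l = 0)
    {x : P} (hx : x ≠ 1) :
    dval (χ : G → ℂ) (x : G) (η : V → ℂ) =
      (ε : ℂ) * ∑ l ∈ Finset.univ.filter (fun l => h.Rel (η : V → ℂ) l μ), (l : P → ℂ) x := by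
  rw [h.dval_eq_sum η χ hx, Finset.mul_sum, Finset.sum_filter]
  refine Finset.sum_congr rfl fun l _ => ?_
  by_cases hl : l = trivChar P
  · rw [hl, h.coef_trivChar, if_neg fun hr => h.ne_trivChar_of_rel _ hr hμ rfl]
    simp
  · split_ifs with hr
    · rw [h1 l hl hr]
    · rw [h0 l hl hr]; simp

omit [M.IsPrime] in
theorem sum_coef_rel [Fintype (IrrCharacter P)] [Fintype (IrrCharacter G)] (η : IrrCharacter V) (χ : IrrCharacter G)
    {μ : IrrCharacter P} {ε : ℤ} (hμ : μ ≠ trivChar P)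
    (h1 : ∀ l, l ≠ trivChar P → h.Rel (η : V → ℂ) l μ → h.coef η χ l = ε)
    (h0 : ∀ l, l ≠ trivChar P → ¬ h.Rel (η : V → ℂ) l μ → h.coef η χ l = 0) :
    ∑ l : IrrCharacter P, h.coef η χ l = ε * h.inertialIndex (η : V → ℂ) := by
  classical
  rw [← h.card_orbit η μ hμ, Finset.card_filter, Nat.cast_sum, Finset.mul_sum]
  refine Finset.sum_congr rfl fun l _ => ?_
  by_cases hl : l = trivChar P
  · rw [hl, h.coef_trivChar, if_neg fun hr => h.ne_trivChar_of_rel _ hr hμ rfl]
    simp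
  · split_ifs with hr
    · rw [h1 l hl hr]; simp
    · rw [h0 l hl hr]; simp

/-- A character of degree prime to `p` lies in the block of some `η`. -/
theorem exists_mem_blockSet (hM : IsPModular p M) {χ : IrrCharacter G}
    (hdeg : ¬ p ∣ charDegree (χ : G → ℂ)) : ∃ η : IrrCharacter V, χ ∈ blockSet M P (η : V → ℂ) := by
  classical
  have := Fintype.ofFinite (IrrCharacter V)
  by_contra hcon
  push Not at hcon
  obtain ⟨m, hm⟩ := h.sum_restrict χ
  rw [Finset.sum_eq_single (1 : P) (fun x _ hx => ?_) (fun hi => absurd (Finset.mem_univ _) hi),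
    Subgroup.coe_one, apply_one_eq_charDegree χ] at hm
  · exact hdeg ⟨m, by exact_mod_cast hm⟩
  · have e := h.apply_eq_sum (IsIrr.isClassFunction χ.2) x.2 1
    rw [Subgroup.coe_one, mul_one] at e
    rw [e]
    refine Finset.sum_eq_zero fun η' _ => ?_
    rw [by_contradiction fun hne => hcon η'
      (h.mem_blockSet_of_dval hM x.2 (fun e => hx (Subtype.ext e)) χ η' hne), zero_mul]

/-- Every character of `V` has a block. -/
theorem exists_blockSet (hM : IsPModular p M) (η : IrrCharacter V) :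
    ∃ χ : IrrCharacter G, χ ∈ blockSet M P (η : V → ℂ) := by
  classical
  have := Fintype.ofFinite (IrrCharacter G)
  obtain ⟨x, hx⟩ : ∃ x : P, x ≠ 1 := by
    have : Nontrivial P := Finite.one_lt_card_iff_nontrivial.1 (h.card ▸ h.prime.one_lt)
    exact exists_ne 1
  by_contra hcon
  push Not at hcon
  have hx1 : (x : G) ≠ 1 := fun e => hx (Subtype.ext e)
  have h1 := h.sum_dval_mul η x.2 hx1 x.2
  rw [Finset.sum_eq_zero fun χ _ => by
    rw [by_contradiction fun hne => hcon χ (h.mem_blockSet_of_dval hM x.2 hx1 χ η hne), zero_mul],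
    eq_comm, div_eq_zero_iff] at h1
  rcases h1 with h1 | h1
  · rw [Nat.cast_eq_zero, Finset.card_eq_zero, Finset.filter_eq_empty_iff] at h1
    exact h1 (Finset.mem_univ (1 : G)) ⟨one_mem _, h.cjFun_one _, by group⟩
  · exact Nat.card_pos.ne' (Nat.cast_eq_zero.1 h1)

/-- The degrees in a block of an `η` are prime to `p`. -/
theorem not_dvd_of_mem (hM : IsPModular p M) {η : IrrCharacter V} {χ : IrrCharacter G}
    (hχ : χ ∈ blockSet M P (η : V → ℂ)) : ¬ p ∣ charDegree (χ : G → ℂ) := by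
  classical
  have := Fintype.ofFinite (IrrCharacter G)
  have := Fintype.ofFinite (IrrCharacter P)
  obtain ⟨hdvd, Y, ε, w, θ, hε, -, -, hYθ, -, -, -, hX, hY, -, -⟩ :=
    h.exists_structure hM η (B := blockOf M (χ : G → ℂ)) (isPBlock_blockOf χ) (mem_blockOf_self χ) hχ
  have hmod := h.charDegree_modEq hM hχ
  have hp : Prime (p : ℤ) := Nat.prime_iff_prime_int.1 h.prime
  intro hd
  have hd' : (p : ℤ) ∣ (Nat.card (orbitV P η) * charDegree (η : V → ℂ) : ℕ) *
      ∑ l : IrrCharacter P, h.coef η χ l :=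
    Int.modEq_zero_iff_dvd.1 (hmod.symm.trans (Int.modEq_zero_iff_dvd.2 (Int.natCast_dvd_natCast.2 hd)))
  rcases hp.dvd_or_dvd hd' with hd1 | hd1
  · rw [Int.natCast_dvd_natCast, h.prime.dvd_mul] at hd1
    rcases hd1 with hd1 | hd1
    · have h3 : p ∣ P.index := (hd1.trans (Dvd.intro _ (h.card_orbit_mul η))).trans
        (dvd_trans (Subgroup.relIndex_dvd_index_of_le (fun g hg =>
          (h.centralizer_le_inertiaT η hg).1)) (Subgroup.index_dvd_of_le h.le_centralizer))
      exact h.not_dvd h3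
    · exact h.card_V_not_dvd (hd1.trans (Blocks.charDegree_dvd_card η))
  · have hp1 : ¬ (p : ℤ) ∣ 1 := fun e => h.prime.ne_one (Nat.eq_one_of_dvd_one (by exact_mod_cast e))
    by_cases hχY : χ ∈ Y
    · obtain ⟨μ, hμ, rfl⟩ := hYθ χ hχY
      rw [h.sum_coef_rel η _ hμ (fun l hl => (hY l μ hl hμ).2.1) (fun l hl => (hY l μ hl hμ).2.2)]
        at hd1
      have hpe : ¬ p ∣ h.inertialIndex (η : V → ℂ) := fun e => by
        have h2 := h.prime.two_le
        have := Nat.le_of_dvd (show 0 < p - 1 by omega) (e.trans hdvd)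
        omega
      rcases hε with rfl | rfl <;>
        exact hpe (Int.natCast_dvd_natCast.1 (by simpa using hd1))
    · obtain ⟨hw, hwc⟩ := hX χ ⟨mem_blockOf_self χ, hχY⟩
      have hd2 : (p : ℤ) ∣ -w χ :=
        Int.modEq_zero_iff_dvd.1 ((h.sum_coef_const η χ hwc).symm.trans (Int.modEq_zero_iff_dvd.2 hd1))
      rcases hw with e | e <;> rw [e] at hd2 <;> exact hp1 (by simpa using hd2)

end Setup

end CfsgLib.Blocks.PrimeSylow
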